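import Mathlib
import Cfsg.Agent.KFacts.SuzLarge
import Cfsg.Agent.Schreier.Suz
import Cfsg.Agent.FastGrp
import Cfsg.Agent.Prune
set_option linter.all false
prune_inst 0x7f00000000000000000000000000000000000000000000000000000000000000000000000000000000000000000000000000000000000000000000000000000000000000000000000000000000000000003fffffffffffffffffffffffffffbeffbdffffffff
open scoped Cfsg.Agent.FastGrp

-- part: H895/Pron/Abs
section
/-!
# Overgroups of a Sylow 2-subgroup `S` with `|N(S) : S| = 3` (helper895)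

* `star` : `X` is normalised by `H`, `w ∈ X ≤ S ⟨w⟩`, `S ≤ H`: then `w` normalises `H`;
* `Setup`, `Setup.inv` : the 2-local part of the row `Suz` of S2527.
-/

set_option autoImplicit false

namespace Cfsg.Agent.H895.Pron

open Subgroup

universe u

variable {G : Type u} [Group G]

/-- powers of `s w ^ k` -/
theorem cube_mem {Y : Subgroup G} {w s : G} (hw3 : w ^ 3 = 1) (hwY : ∀ y ∈ Y, w * y * w⁻¹ ∈ Y) (hs : s ∈ Y) (k : ℕ) :
    (s * w ^ k) ^ 3 ∈ Y := by
  have hk : ∀ (n : ℕ) (y : G), y ∈ Y → w ^ n * y * (w ^ n)⁻¹ ∈ Y := by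
    intro n
    induction n with
    | zero => intro y hy; simpa using hy
    | succ n ih =>
      intro y hy
      have := ih _ (hwY y hy)
      have e : w ^ (n + 1) * y * (w ^ (n + 1))⁻¹ = w ^ n * (w * y * w⁻¹) * (w ^ n)⁻¹ := by
        rw [pow_succ]; group
      rwa [e]
  have h3 : (w ^ k) ^ 3 = 1 := by rw [← pow_mul, mul_comm, pow_mul, hw3, one_pow]
  have e : (s * w ^ k) ^ 3 = s * (w ^ k * s * (w ^ k)⁻¹) * (w ^ (2 * k) * s * (w ^ (2 * k))⁻¹) * (w ^ k) ^ 3 := by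
    have e2 : w ^ (2 * k) = w ^ k * w ^ k := by rw [two_mul, pow_add]
    rw [e2]
    simp only [pow_succ, pow_zero, one_mul, mul_inv_rev, mul_assoc, inv_mul_cancel_left]
  rw [e, h3, mul_one]
  exact Y.mul_mem (Y.mul_mem hs (hk k s hs)) (hk (2 * k) s hs)

/-- an element of 2-power order whose cube lies in `Y` lies in `Y` -/
theorem mem_of_cube {Y : Subgroup G} {x : G} {n : ℕ} (h2 : x ^ 2 ^ n = 1) (h3 : x ^ 3 ∈ Y) : x ∈ Y := by
  have hco : Nat.Coprime 3 (2 ^ n) := Nat.Coprime.pow_right n (by norm_num)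
  obtain ⟨c, hc1, hc2⟩ := Nat.chineseRemainder hco 0 1
  have h1 : 3 ∣ c := Nat.modEq_zero_iff_dvd.1 hc1
  obtain ⟨d, rfl⟩ := h1
  have hx : x ^ (3 * d) = x := by
    have h4 : orderOf x ∣ 2 ^ n := orderOf_dvd_of_pow_eq_one h2
    have h5 : 3 * d ≡ 1 [MOD orderOf x] := hc2.of_dvd h4
    have h6 := (pow_eq_pow_iff_modEq (x := x)).2 h5
    rwa [pow_one] at h6
  rw [← hx, pow_mul]
  exact Y.pow_mem h3 d

/-- **the basic lemma** -/
theorem star [Finite G] (S : Sylow 2 G) {w : G} (hwS : w ∈ normalizer ((S : Subgroup G) : Set G)) (hw3 : w ^ 3 = 1)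
    {X H : Subgroup G} (hwX : w ∈ X) (hXB : ∀ x ∈ X, ∃ s ∈ (S : Subgroup G), ∃ k : ℕ, x = s * w ^ k)
    (hSH : (S : Subgroup G) ≤ H) (hHX : ∀ h ∈ H, ∀ x ∈ X, h * x * h⁻¹ ∈ X) : ∀ h ∈ H, w * h * w⁻¹ ∈ H := by
  classical
  set Y : Subgroup G := (S : Subgroup G) ⊓ X with hY
  have hwY : ∀ y ∈ Y, w * y * w⁻¹ ∈ Y := fun y hy =>
    ⟨(mem_normalizer_iff.1 hwS y).1 hy.1, X.mul_mem (X.mul_mem hwX hy.2) (X.inv_mem hwX)⟩
  have hX3 : ∀ x ∈ X, x ^ 3 ∈ Y := by
    intro x hx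
    obtain ⟨s, hs, k, rfl⟩ := hXB x hx
    have hsX : s ∈ X := by
      have h1 := X.mul_mem hx (X.inv_mem (X.pow_mem hwX k))
      rwa [mul_inv_cancel_right] at h1
    exact cube_mem hw3 hwY ⟨hs, hsX⟩ k
  -- `H` normalises `Y`
  have hHY : ∀ h ∈ H, ∀ y ∈ Y, h * y * h⁻¹ ∈ Y := by
    intro h hh y hy
    obtain ⟨n, hn⟩ := (IsPGroup.iff_orderOf.1 S.isPGroup') ⟨y, hy.1⟩
    have hyn : y ^ 2 ^ n = 1 := by
      rw [← hn, Subgroup.orderOf_mk, pow_orderOf_eq_one]
    refine mem_of_cube (n := n) ?_ (hX3 _ (hHX h hh y hy.2))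
    rw [conj_pow, hyn]; group
  by_cases hwY' : w ∈ Y
  · intro h hh
    exact H.mul_mem (H.mul_mem (hSH hwY'.1) hh) (H.inv_mem (hSH hwY'.1))
  -- the two types
  have htype : ∀ h ∈ H, h * w * h⁻¹ * w⁻¹ ∈ Y ∨ h * w * h⁻¹ * w ∈ Y := by
    intro h hh
    obtain ⟨s, hs, k, hk⟩ := hXB _ (hHX h hh w hwX)
    have hsX : s ∈ X := by
      have h1 := X.mul_mem (hHX h hh w hwX) (X.inv_mem (X.pow_mem hwX k))
      rw [hk, mul_inv_cancel_right] at h1
      exact h1
    have hsY : s ∈ Y := ⟨hs, hsX⟩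
    have hkm : w ^ k = w ^ (k % 3) := by
      conv_lhs => rw [← Nat.div_add_mod k 3, pow_add, pow_mul, hw3, one_pow, one_mul]
    rw [hkm] at hk
    have hlt : k % 3 < 3 := Nat.mod_lt _ (by norm_num)
    interval_cases hk' : k % 3
    · exfalso
      rw [pow_zero, mul_one] at hk
      have h1 : w = h⁻¹ * s * h⁻¹⁻¹ := by rw [← hk]; group
      rw [h1] at hwY'
      exact hwY' (hHY _ (H.inv_mem hh) _ hsY)
    · left
      rw [hk, pow_one, mul_inv_cancel_right]; exact hsY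
    · right
      rw [hk, mul_assoc, ← pow_succ, hw3, mul_one]; exact hsY
  let K0 : Subgroup G :=
    { carrier := {h | h ∈ H ∧ h * w * h⁻¹ * w⁻¹ ∈ Y}
      one_mem' := ⟨H.one_mem, by simp [Y.one_mem]⟩
      mul_mem' := by
        rintro a b ⟨ha, ha'⟩ ⟨hb, hb'⟩
        refine ⟨H.mul_mem ha hb, ?_⟩
        have h1 := Y.mul_mem (hHY a ha _ hb') ha'
        have e : a * (b * w * b⁻¹ * w⁻¹) * a⁻¹ * (a * w * a⁻¹ * w⁻¹) = a * b * w * (a * b)⁻¹ * w⁻¹ := by group
        rwa [e] at h1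
      inv_mem' := by
        rintro a ⟨ha, ha'⟩
        refine ⟨H.inv_mem ha, ?_⟩
        have h1 := hHY _ (H.inv_mem ha) _ (Y.inv_mem ha')
        have e : a⁻¹ * (a * w * a⁻¹ * w⁻¹)⁻¹ * a⁻¹⁻¹ = a⁻¹ * w * a⁻¹⁻¹ * w⁻¹ := by group
        rwa [e] at h1 }
  have hSK : (S : Subgroup G) ≤ K0 := by
    intro s hs
    refine ⟨hSH hs, ?_, ?_⟩
    · have h1 := (mem_normalizer_iff.1 hwS s⁻¹).1 ((S : Subgroup G).inv_mem hs)
      have h2 := (S : Subgroup G).mul_mem hs h1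
      have e : s * (w * s⁻¹ * w⁻¹) = s * w * s⁻¹ * w⁻¹ := by group
      rwa [e] at h2
    · exact X.mul_mem (hHX s (hSH hs) w hwX) (X.inv_mem hwX)
  have hK : H ≤ K0 := by
    by_contra hne
    obtain ⟨a, ha, haK⟩ := SetLike.not_le_iff_exists.1 hne
    have hidx : (K0.subgroupOf H).index = 2 := by
      rw [index_eq_two_iff]
      refine ⟨⟨a, ha⟩, ?_⟩
      rintro ⟨b, hb⟩
      have ha2 : a * w * a⁻¹ * w ∈ Y := (htype a ha).resolve_left fun h => haK ⟨ha, h⟩
      simp only [mem_subgroupOf]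
      show Xor (b * a ∈ K0) (b ∈ K0)
      by_cases hbK : b ∈ K0
      · right
        refine ⟨hbK, fun hba => haK ?_⟩
        have := K0.mul_mem (K0.inv_mem hbK) hba
        rwa [inv_mul_cancel_left] at this
      · left
        refine ⟨⟨H.mul_mem hb ha, ?_⟩, hbK⟩
        have hb2 : b * w * b⁻¹ * w ∈ Y := (htype b hb).resolve_left fun h => hbK ⟨hb, h⟩
        -- `b a w a⁻¹ b⁻¹ w⁻¹ = b (a w a⁻¹ w) b⁻¹ · (b w⁻¹ b⁻¹ w⁻¹)`
        have h1 := Y.mul_mem (hHY b hb _ ha2) (hwY _ (Y.inv_mem hb2) |> fun h => h)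
        have h3 : b * w⁻¹ * b⁻¹ * w⁻¹ ∈ Y := by
          have h4 := hwY _ (hwY _ (Y.inv_mem hb2))
          -- `(b w b⁻¹ w)⁻¹ = w⁻¹ b w⁻¹ b⁻¹`
          have e : w * (w * (b * w * b⁻¹ * w)⁻¹ * w⁻¹) * w⁻¹ = w ^ 3 * w⁻¹ * w⁻¹ * (b * w⁻¹ * b⁻¹ * w⁻¹) * w⁻¹ := by
            group
          have h5 := hwY _ (Y.inv_mem hb2)
          have e5 : w * (b * w * b⁻¹ * w)⁻¹ * w⁻¹ = b * w⁻¹ * b⁻¹ * w⁻¹ := by group
          rwa [e5] at h5
        have h4 := Y.mul_mem (hHY b hb _ ha2) h3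
        have e : b * (a * w * a⁻¹ * w) * b⁻¹ * (b * w⁻¹ * b⁻¹ * w⁻¹) = b * a * w * (b * a)⁻¹ * w⁻¹ := by group
        rwa [e] at h4
    have hodd : ¬ 2 ∣ (((S : Subgroup G).subgroupOf H)).index := by
      have h1 : ((S : Subgroup G).subgroupOf H).index ∣ (S : Subgroup G).index := relIndex_dvd_index_of_le hSH
      exact fun h => S.not_dvd_index (h.trans h1)
    apply hodd
    have h1 : (K0.subgroupOf H).index ∣ ((S : Subgroup G).subgroupOf H).index := index_dvd_of_le fun x hx => hSK hx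
    rwa [hidx] at h1
  intro h hh
  have h1 := (hK hh).2
  have h2 : w * h⁻¹ * w⁻¹ = h⁻¹ * (h * w * h⁻¹ * w⁻¹) := by group
  have h3 : w * h⁻¹ * w⁻¹ ∈ H := by rw [h2]; exact H.mul_mem (H.inv_mem hh) (hSH h1.1)
  have h4 : w * h * w⁻¹ = (w * h⁻¹ * w⁻¹)⁻¹ := by group
  rw [h4]
  exact H.inv_mem h3

/-- the data -/
structure Setup (S : Sylow 2 G) (z w : G) (A1 A2 V Q : Subgroup G) : Prop where
  zc : ∀ s ∈ (S : Subgroup G), s * z = z * s
  wz : w * z = z * w
  wN : w ∈ normalizer ((S : Subgroup G) : Set G)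
  w3 : w ^ 3 = 1
  zA1 : z ∈ A1
  A12 : A1 ≤ A2
  A2V : A2 ≤ V
  VS : V ≤ (S : Subgroup G)
  nA1 : ∀ s ∈ (S : Subgroup G), ∀ a ∈ A1, s * a * s⁻¹ ∈ A1
  wV : ∀ v ∈ V, w * v = v * w
  NS : ∀ g ∈ normalizer ((S : Subgroup G) : Set G), ∃ s ∈ (S : Subgroup G), ∃ k : ℕ, g = s * w ^ k
  B : ∀ g : G, g * z = z * g → (∀ a ∈ A1, g * a * g⁻¹ ∈ A1) → (∀ a ∈ A2, g * a * g⁻¹ ∈ A2) →
    ∃ s ∈ (S : Subgroup G), ∃ k : ℕ, g = s * w ^ k
  QS : Q ≤ (S : Subgroup G)
  nQ : ∀ g : G, g * z = z * g → ∀ q ∈ Q, g * q * g⁻¹ ∈ Q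
  cov : ∀ s ∈ (S : Subgroup G), ∃ q ∈ Q, ∀ a ∈ A1, q⁻¹ * s * a = a * (q⁻¹ * s)
  FB : ∀ H : Subgroup G, (S : Subgroup G) ≤ H → (∀ h ∈ H, h * z = z * h) → w ∉ H → ∀ h ∈ H, ∀ a ∈ A2, h * a * h⁻¹ ∈ A2
  EL : ∀ N : Subgroup G, N ≤ (S : Subgroup G) → (∀ s ∈ (S : Subgroup G), ∀ n ∈ N, s * n * s⁻¹ ∈ N) →
    (∀ n ∈ N, n * n = 1) → N ≠ ⊥ → (∀ n ∈ N, n = 1 ∨ n = z) ∨ N = A1 ∨ (A2 ≤ N ∧ N ≤ V)

/-- **the overgroups of `S` with a normal elementary abelian 2-subgroup** -/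
theorem Setup.inv [Finite G] {S : Sylow 2 G} {z w : G} {A1 A2 V Q : Subgroup G} (D : Setup S z w A1 A2 V Q)
    {H : Subgroup G} (hSH : (S : Subgroup G) ≤ H) (hw : w ∉ H) {N : Subgroup G} (hNS : N ≤ (S : Subgroup G))
    (hN : ∀ h ∈ H, ∀ n ∈ N, h * n * h⁻¹ ∈ N) (h2 : ∀ n ∈ N, n * n = 1) (hne : N ≠ ⊥) : ∀ h ∈ H, w * h * w⁻¹ ∈ H := by
  -- the case of a group normalising a subgroup between `A2` and `V`
  have key : ∀ M : Subgroup G, A2 ≤ M → M ≤ V → (∀ h ∈ H, ∀ n ∈ M, h * n * h⁻¹ ∈ M) → ∀ h ∈ H, w * h * w⁻¹ ∈ H := by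
    intro M hAM hMV hM
    have hVc : ∀ a ∈ A2, ∀ x : G, x ∈ centralizer (M : Set G) → x * a = a * x := fun a ha x hx =>
      (mem_centralizer_iff.1 hx a (hAM ha)).symm
    refine star S D.wN D.w3 (X := centralizer (M : Set G)) ?_ ?_ hSH ?_
    · rw [mem_centralizer_iff]
      intro m hm
      exact (D.wV m (hMV hm)).symm
    · intro x hx
      refine D.B x (hVc z (D.A12 D.zA1) x hx) (fun a ha => ?_) (fun a ha => ?_)
      · rw [hVc a (D.A12 ha) x hx, mul_inv_cancel_right]; exact ha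
      · rw [hVc a ha x hx, mul_inv_cancel_right]; exact ha
    · intro h hh x hx
      rw [mem_centralizer_iff] at hx ⊢
      intro m hm
      have h1 := hM h⁻¹ (H.inv_mem hh) m hm
      have h3 := hx _ h1
      calc m * (h * x * h⁻¹) = h * ((h⁻¹ * m * h⁻¹⁻¹) * x) * h⁻¹ := by group
        _ = h * (x * (h⁻¹ * m * h⁻¹⁻¹)) * h⁻¹ := by rw [h3]
        _ = h * x * h⁻¹ * m := by group
  rcases D.EL N hNS (fun s hs => hN s (hSH hs)) h2 hne with h | h | ⟨h, h'⟩
  · -- `N = ⟨z⟩`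
    have hz : ∀ x ∈ H, x * z = z * x := by
      intro x hx
      obtain ⟨n, hn, hn1⟩ : ∃ n ∈ N, n ≠ 1 := by
        by_contra hc
        push Not at hc
        exact hne ((eq_bot_iff_forall N).2 hc)
      have hnz : n = z := (h n hn).resolve_left hn1
      subst hnz
      rcases h _ (hN x hx n hn) with h1 | h1
      · exfalso
        apply hn1
        have : n = x⁻¹ * (x * n * x⁻¹) * x := by group
        rw [this, h1]; group
      · exact mul_inv_eq_iff_eq_mul.1 h1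
    exact key A2 le_rfl D.A2V (D.FB H hSH hz hw)
  · -- `N = A1`
    subst h
    have hzS : z ∈ (S : Subgroup G) := hNS D.zA1
    -- `H ⊓ C(N) = S ⊓ C(N)`
    have hHC : ∀ x ∈ H, x ∈ centralizer (N : Set G) → x ∈ (S : Subgroup G) := by
      intro x hx hxC
      have hxz : x * z = z * x := (mem_centralizer_iff.1 hxC z D.zA1).symm
      have h1 := D.FB (H ⊓ centralizer ({z} : Set G)) (fun s hs => ⟨hSH hs, mem_centralizer_singleton_iff.2 (D.zc s hs)⟩)
        (fun y hy => mem_centralizer_singleton_iff.1 hy.2) (fun h => hw h.1) x ⟨hx, mem_centralizer_singleton_iff.2 hxz⟩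
      obtain ⟨s, hs, k, hk⟩ := D.B x hxz (fun a ha => by
        rw [← mem_centralizer_iff.1 hxC a ha, mul_inv_cancel_right]; exact ha) h1
      have hwk : w ^ k ∈ H := by
        have := H.mul_mem (H.inv_mem (hSH hs)) hx
        rwa [hk, inv_mul_cancel_left] at this
      have hkm : w ^ k = w ^ (k % 3) := by
        conv_lhs => rw [← Nat.div_add_mod k 3, pow_add, pow_mul, D.w3, one_pow, one_mul]
      rw [hkm] at hwk
      have hlt : k % 3 < 3 := Nat.mod_lt _ (by norm_num)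
      rw [hk, hkm]
      interval_cases hk' : k % 3
      · rw [pow_zero, mul_one]; exact hs
      · exfalso; rw [pow_one] at hwk; exact hw hwk
      · exfalso
        apply hw
        have h4 : w = (w ^ 2) ^ 2 := by rw [← pow_mul, show 2 * 2 = 3 + 1 by norm_num, pow_succ, D.w3, one_mul]
        rw [h4]
        exact H.pow_mem hwk 2
    -- the subgroup `X`
    let S1 : Subgroup G := (S : Subgroup G) ⊓ centralizer (N : Set G)
    have hconjC : ∀ h ∈ H, ∀ x ∈ centralizer (N : Set G), h * x * h⁻¹ ∈ centralizer (N : Set G) := by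
      intro h hh x hx
      rw [mem_centralizer_iff] at hx ⊢
      intro m hm
      have h1 := hN h⁻¹ (H.inv_mem hh) m hm
      have h3 := hx _ h1
      calc m * (h * x * h⁻¹) = h * ((h⁻¹ * m * h⁻¹⁻¹) * x) * h⁻¹ := by group
        _ = h * (x * (h⁻¹ * m * h⁻¹⁻¹)) * h⁻¹ := by rw [h3]
        _ = h * x * h⁻¹ * m := by group
    have hS1 : ∀ h ∈ H, ∀ x ∈ S1, h * x * h⁻¹ ∈ S1 := by
      intro h hh x hx
      have h1 := hconjC h hh x hx.2
      exact ⟨hHC _ (H.mul_mem (H.mul_mem hh (hSH hx.1)) (H.inv_mem hh)) h1, h1⟩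
    have hHn : H ≤ normalizer (S1 : Set G) := by
      intro h hh
      rw [mem_normalizer_iff]
      intro x
      refine ⟨hS1 h hh x, fun hx => ?_⟩
      have := hS1 h⁻¹ (H.inv_mem hh) _ hx
      have e : h⁻¹ * (h * x * h⁻¹) * h⁻¹⁻¹ = x := by group
      rwa [e] at this
    have hwC : w ∈ centralizer (N : Set G) := by
      rw [mem_centralizer_iff]
      intro m hm
      exact (D.wV m (D.A2V (D.A12 hm))).symm
    have hwS1 : w ∈ normalizer (S1 : Set G) := by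
      rw [mem_normalizer_iff]
      intro x
      constructor
      · intro hx
        exact ⟨(mem_normalizer_iff.1 D.wN x).1 hx.1, Subgroup.mul_mem _ (Subgroup.mul_mem _ hwC hx.2) (Subgroup.inv_mem _ hwC)⟩
      · intro hx
        refine ⟨(mem_normalizer_iff.1 D.wN x).2 hx.1, ?_⟩
        have := Subgroup.mul_mem _ (Subgroup.mul_mem _ (Subgroup.inv_mem _ hwC) hx.2) hwC
        have e : w⁻¹ * (w * x * w⁻¹) * w = x := by group
        rwa [e] at this
    refine star S D.wN D.w3 (X := normalizer (S1 : Set G) ⊓ centralizer (N : Set G)) ⟨hwS1, hwC⟩ ?_ hSH ?_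
    · rintro x ⟨hx, hxC⟩
      apply D.NS
      have hxz : x * z = z * x := (mem_centralizer_iff.1 hxC z D.zA1).symm
      have hmem : ∀ y : G, y * z = z * y → y ∈ normalizer (S1 : Set G) → ∀ s ∈ (S : Subgroup G), y * s * y⁻¹ ∈ (S : Subgroup G) := by
        intro y hyz hy s hs
        obtain ⟨q, hq, hqs⟩ := D.cov s hs
        have h1 : q⁻¹ * s ∈ S1 := ⟨Subgroup.mul_mem _ (Subgroup.inv_mem _ (D.QS hq)) hs, mem_centralizer_iff.2 fun a ha => (hqs a ha).symm⟩
        have h3 := ((mem_normalizer_iff.1 hy _).1 h1).1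
        have h4 := D.QS (D.nQ y hyz q hq)
        have e : y * s * y⁻¹ = y * q * y⁻¹ * (y * (q⁻¹ * s) * y⁻¹) := by group
        rw [e]
        exact Subgroup.mul_mem _ h4 h3
      rw [mem_normalizer_iff]
      intro s
      refine ⟨hmem x hxz hx s, fun hs => ?_⟩
      have h1 := hmem x⁻¹ (by
        rw [inv_mul_eq_iff_eq_mul, ← mul_assoc, hxz, mul_inv_cancel_right]) (Subgroup.inv_mem _ hx) _ hs
      have e : x⁻¹ * (x * s * x⁻¹) * x⁻¹⁻¹ = s := by group
      rwa [e] at h1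
    · intro h hh x hx
      exact ⟨Subgroup.mul_mem _ (Subgroup.mul_mem _ (hHn hh) hx.1) (Subgroup.inv_mem _ (hHn hh)), hconjC h hh x hx.2⟩
  · exact key N h h' hN

end Cfsg.Agent.H895.Pron
end

-- part: H895/Pron/SuzS
section
/-!
# The Sylow 2-subgroup of `Suz` inside the centraliser of `z0`: the action on `Q0` by codes (helper895)

`T = ⟨s1, s2, s3, s4⟩` (`Schreier.Suz`), `z0 = x12`, `Q0 ≤ T ≤ C(z0)`; `w0` of order 3 normalises `T`.
-/

set_option autoImplicit false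
set_option maxRecDepth 100000

namespace Cfsg.Agent.H895.Pron.SuzS

open Cfsg.Spor Cfsg.Agent.Lib.PermNet Cfsg.Agent.Lib.PermNetOrbit Cfsg.Agent.SporadicRecognition.SuzPhi
  Cfsg.Agent.SporadicRecognition.SuzBound Cfsg.Agent.SporadicRecognition.SuzOrder
  Cfsg.Agent.SporadicRecognition.SuzNet Cfsg.Agent.Schreier.SuzNetT
  Cfsg.Agent.SuzThree.Basic Cfsg.Agent.SuzThree.CentA Cfsg.Agent.SuzThree.QZero
  Cfsg.Agent.KFacts.Codes Cfsg.Agent.KFacts.Orbits Cfsg.Agent.KFacts.SuzLarge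

open Cfsg.Agent.KFacts.SuzR hiding s1 s2

open Cfsg.Agent.Schreier.SuzT (s1 s2 s3 s4 x4 x5 x6 x7 x8 x9 x10 x11 x12)
open Cfsg.Agent.Schreier.Suz (T)

/-- the two notions of representation -/
theorem conv {g : Suz} {n : Net} (h : Cfsg.Agent.Schreier.SuzT.Rep g n) : Rep g [n] :=
  ⟨WOk.cons h.2 (WOk.nil _), by rw [h.1, wperm_cons, wperm_nil, mul_one]⟩

/-- the element `g` acts on `Q0` by the code images `l` -/
structure Act (g : Suz) (l : List ℕ) : Prop where
  comm : g * z0 = z0 * g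
  gen : ∀ i < 6, g * xx i * g⁻¹ = C (img l i)

theorem Act.conj {g : Suz} {l : List ℕ} (h : Act g l) (c : ℕ) : g * C c * g⁻¹ = C (act BB 6 (img l) c) :=
  conj_cod rels tri h.comm h.gen c

theorem Act.mul {g g' : Suz} {l l' : List ℕ} (h : Act g l) (h' : Act g' l') (m : List ℕ)
    (hm : ∀ i < 6, act BB 6 (img l) (img l' i) = img m i) : Act (g * g') m := by
  refine ⟨?_, fun i hi => ?_⟩
  · rw [mul_assoc, h'.comm, ← mul_assoc, h.comm, mul_assoc]
  · have e : g * g' * xx i * (g * g')⁻¹ = g * (g' * xx i * g'⁻¹) * g⁻¹ := by group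
    rw [e, h'.gen i hi, h.conj, hm i hi]

theorem comm_of_el {w : List Suz.Gen} (h : checkEq 11 (wd (w ++ [.a])) (wd (.a :: w)) = true) :
    el w * z0 = z0 * el w := mem_C1.1 (mem_C1_of h)

/-! ### images -/

def im_s1 : Qx → List (Option Qx)
  | .k1 => [some .k1]
  | .k2 => [some .k2]
  | .k3 => [some .k3]
  | .k4 => [none, some .k4]
  | .k5 => [some .k5]
  | .k6 => [some .k6]

def im_s2 : Qx → List (Option Qx)
  | .k1 => [none, some .k1, some .k4]
  | .k2 => [some .k2]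
  | .k3 => [none, some .k3, some .k4]
  | .k4 => [some .k4]
  | .k5 => [none, some .k2, some .k5]
  | .k6 => [none, some .k4, some .k6]

def im_s4 : Qx → List (Option Qx)
  | .k1 => [some .k1]
  | .k2 => [some .k1, some .k2, some .k3, some .k4, some .k6]
  | .k3 => [none, some .k6]
  | .k4 => [some .k4]
  | .k5 => [some .k1, some .k3, some .k4, some .k5, some .k6]
  | .k6 => [none, some .k3]

def im_w : Qx → List (Option Qx)
  | .k1 => [some .k1]
  | .k2 => [some .k2]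
  | .k3 => [none, some .k6]
  | .k4 => [some .k4]
  | .k5 => [some .k5]
  | .k6 => [some .k1, some .k2, some .k3, some .k6]

def l_s1 : List ℕ := [1, 2, 4, 72, 16, 32]
def l_s2 : List ℕ := [73, 2, 76, 8, 82, 104]
def l_s3 : List ℕ := [1, 4, 2, 8, 16, 39]
def l_s4 : List ℕ := [1, 47, 96, 8, 61, 68]
def l_h1 : List ℕ := [1, 74, 76, 8, 81, 104]
def l_w : List ℕ := [1, 2, 96, 8, 16, 39]
theorem act_s1 : Act s1 l_s1 :=
  ⟨comm_of_el (by decide +kernel), conj_gen (im := im_s1) (by decide +kernel) (by decide +kernel)⟩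

theorem act_s2 : Act s2 l_s2 :=
  ⟨comm_of_el (by decide +kernel), conj_gen (im := im_s2) (by decide +kernel) (by decide +kernel)⟩

theorem act_s3 : Act s3 l_s3 := ⟨comm_of_el (by decide +kernel), conj_gg 1⟩

theorem act_s4 : Act s4 l_s4 :=
  ⟨comm_of_el (by decide +kernel), conj_gen (im := im_s4) (by decide +kernel) (by decide +kernel)⟩

theorem act_h1 : Act (el h1) l_h1 := ⟨comm_of_el (by decide +kernel), conj_gg 2⟩

/-- the element of order 3 -/
noncomputable def w : Suz := el Cfsg.Agent.SuzThree.Elts.w0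

theorem act_w : Act w l_w :=
  ⟨comm_of_el (by decide +kernel), conj_gen (im := im_w) (by decide +kernel) (by decide +kernel)⟩

theorem w3 : w ^ 3 = 1 := pow_one_of 3 (by decide +kernel)

/-! ### `Q0 ≤ T ≤ C1` -/

theorem T_comm {t : Suz} (ht : t ∈ T) : t * z0 = z0 * t := by
  have h : T ≤ C1 := by
    rw [Cfsg.Agent.Schreier.Suz.T_def, Subgroup.closure_le]
    exact Cfsg.Agent.Schreier.Suz.forall_S (mem_C1.2 act_s1.comm) (mem_C1.2 act_s2.comm) (mem_C1.2 act_s3.comm)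
      (mem_C1.2 act_s4.comm)
  exact mem_C1.1 (h ht)

theorem e_s1 : s1 = C 16 := by
  have h : s1 = qp [some .k5] := eq_of_reps (conv Cfsg.Agent.Schreier.SuzT.r_s1) (rep_qp _) (by decide +kernel)
  rw [h, qp_eq]; rfl

theorem e_x4 : x4 = C 66 := by
  have h : x4 = qp [none, some .k2] := eq_of_reps (conv Cfsg.Agent.Schreier.SuzT.r_x4) (rep_qp _) (by decide +kernel)
  rw [h, qp_eq]; congr 1

theorem e_x7 : x7 = C 109 := by
  have h : x7 = qp [none, some .k1, some .k3, some .k4, some .k6] :=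
    eq_of_reps (conv Cfsg.Agent.Schreier.SuzT.r_x7) (rep_qp _) (by decide +kernel)
  rw [h, qp_eq]; congr 1

theorem e_x9 : x9 = C 6 := by
  have h : x9 = qp [some .k2, some .k3] :=
    eq_of_reps (conv Cfsg.Agent.Schreier.SuzT.r_x9) (rep_qp _) (by decide +kernel)
  rw [h, qp_eq]; congr 1

theorem e_x10 : x10 = C 65 := by
  have h : x10 = qp [none, some .k1] :=
    eq_of_reps (conv Cfsg.Agent.Schreier.SuzT.r_x10) (rep_qp _) (by decide +kernel)
  rw [h, qp_eq]; congr 1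

theorem e_x11 : x11 = C 72 := by
  have h : x11 = qp [none, some .k4] :=
    eq_of_reps (conv Cfsg.Agent.Schreier.SuzT.r_x11) (rep_qp _) (by decide +kernel)
  rw [h, qp_eq]; congr 1

theorem e_x12 : x12 = C 64 := (cod_z (n := 6)).symm

theorem e_x8 : x8 = el h1 :=
  eq_of_reps (conv Cfsg.Agent.Schreier.SuzT.r_x8) (Rep.el _) (by decide +kernel)

theorem mem_mulc {H : Subgroup Suz} {a b : ℕ} (ha : C a ∈ H) (hb : C b ∈ H) {c : ℕ} (h : mulc BB 6 a b = c) : C c ∈ H := by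
  rw [← h, C, ← cod_mul rels tri]; exact H.mul_mem ha hb

open Cfsg.Agent.Schreier.Suz in
theorem Q0_le_T : Q0 ≤ T := by
  have h64 : C 64 ∈ T := by rw [← e_x12]; exact x12_mem
  have h16 : C 16 ∈ T := by rw [← e_s1]; exact s1_mem
  have h66 : C 66 ∈ T := by rw [← e_x4]; exact x4_mem
  have h109 : C 109 ∈ T := by rw [← e_x7]; exact x7_mem
  have h6 : C 6 ∈ T := by rw [← e_x9]; exact x9_mem
  have h65 : C 65 ∈ T := by rw [← e_x10]; exact x10_mem
  have h72 : C 72 ∈ T := by rw [← e_x11]; exact x11_mem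
  have h1 : C 1 ∈ T := mem_mulc h64 h65 (by decide +kernel)
  have h2 : C 2 ∈ T := mem_mulc h64 h66 (by decide +kernel)
  have h8 : C 8 ∈ T := mem_mulc h64 h72 (by decide +kernel)
  have h4 : C 4 ∈ T ∨ C 68 ∈ T := by
    have h := T.mul_mem h2 h6
    rw [C, C, cod_mul rels tri] at h
    have e : mulc BB 6 2 6 = 4 ∨ mulc BB 6 2 6 = 68 := by decide +kernel
    rcases e with e | e
    · rw [e] at h; exact Or.inl h
    · rw [e] at h; exact Or.inr h
  have h4' : C 4 ∈ T := h4.elim id fun h => mem_mulc h64 h (by decide +kernel)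
  have hx : ∀ a b : ℕ, C a ∈ T → C b ∈ T → ∀ c, (mulc BB 6 a b = c ∨ mulc BB 6 64 (mulc BB 6 a b) = c) → C c ∈ T := by
    intro a b ha hb c hc
    have h := T.mul_mem ha hb
    rw [C, C, cod_mul rels tri] at h
    rcases hc with hc | hc
    · rw [hc] at h; exact h
    · exact mem_mulc h64 h hc
  have h108 := hx 1 109 h1 h109 108 (by decide +kernel)
  have h100 := hx 8 108 h8 h108 100 (by decide +kernel)
  have h96 := hx 4 100 h4' h100 96 (by decide +kernel)
  have h32 := hx 64 96 h64 h96 32 (by decide +kernel)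
  rw [Q0_eq, RG, Subgroup.closure_le]
  rintro y (rfl | ⟨i, hi, rfl⟩)
  · exact x12_mem
  · have hall : ∀ i < 6, C (2 ^ i) ∈ T := by
      intro i hi
      interval_cases i
      · exact h1
      · exact h2
      · exact h4'
      · exact h8
      · exact h16
      · exact h32
    have h := hall i hi
    rwa [C, cod_pow hi] at h

end Cfsg.Agent.H895.Pron.SuzS
end

-- part: H895/Pron/SuzB
section
/-!
# The subgroups `A1 < A2 < V` of the Sylow 2-subgroup of `Suz` and the stabiliser of the flag (helper895)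

* `N_T` : the normaliser of `T` centralises `z0` and normalises `A1`, `A2`;
* `flag` : the elements of `C(z0)` normalising `A1` and `A2` lie in `T ⟨w⟩`.
-/

set_option autoImplicit false
set_option maxRecDepth 100000

namespace Cfsg.Agent.H895.Pron.SuzB

open Cfsg.Spor Cfsg.Agent.Lib.PermNet Cfsg.Agent.Lib.PermNetOrbit Cfsg.Agent.SporadicRecognition.SuzPhi
  Cfsg.Agent.SporadicRecognition.SuzBound Cfsg.Agent.SporadicRecognition.SuzOrder
  Cfsg.Agent.SporadicRecognition.SuzNet Cfsg.Agent.Schreier.SuzNetT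
  Cfsg.Agent.SuzThree.Basic Cfsg.Agent.SuzThree.CentA Cfsg.Agent.SuzThree.QZero
  Cfsg.Agent.KFacts.Codes Cfsg.Agent.KFacts.Orbits Cfsg.Agent.KFacts.SuzLarge
  Cfsg.Agent.H895.Pron.SuzS Subgroup

open Cfsg.Agent.KFacts.SuzR hiding s1 s2

open Cfsg.Agent.Schreier.SuzT (s1 s2 s3 s4 x4 x5 x6 x7 x8 x9 x10 x11 x12 e_x11_s1 e_x10_s2)
open Cfsg.Agent.Schreier.Suz (T U10 U11 U12 W)

theorem C_mul' (a b : ℕ) : C a * C b = C (mulc BB 6 a b) := by rw [C, C, cod_mul rels tri]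

theorem C_zero' : C 0 = 1 := cod_zero

theorem C_64 : C 64 = z0 := cod_z (n := 6)

theorem C_inj' {c d : ℕ} (hc : c < 128) (hd : d < 128) (h : C c = C d) : c = d :=
  cod_injOn rels tri nondeg z_ne hc hd h

/-- the subgroup with a list of codes -/
noncomputable def grp (l : List ℕ) (h : ∀ a ∈ l, ∀ b ∈ l, mulc BB 6 a b ∈ l) (h0 : 0 ∈ l)
    (h2 : ∀ a ∈ l, mulc BB 6 a a = 0) : Subgroup Suz where
  carrier := {g | ∃ c ∈ l, C c = g}
  one_mem' := ⟨0, h0, C_zero'⟩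
  mul_mem' := by
    rintro _ _ ⟨a, ha, rfl⟩ ⟨b, hb, rfl⟩
    exact ⟨_, h a ha b hb, (C_mul' a b).symm⟩
  inv_mem' := by
    rintro _ ⟨a, ha, rfl⟩
    refine ⟨a, ha, (inv_eq_of_mul_eq_one_right ?_).symm⟩
    rw [C_mul', h2 a ha, C_zero']

def lA1 : List ℕ := [0, 64, 8, 72]
def lA2 : List ℕ := [0, 64, 8, 72, 1, 65, 9, 73]

noncomputable def A1 : Subgroup Suz := grp lA1 (by decide +kernel) (by decide +kernel) (by decide +kernel)
noncomputable def A2 : Subgroup Suz := grp lA2 (by decide +kernel) (by decide +kernel) (by decide +kernel)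

theorem mem_A2 {g : Suz} : g ∈ A2 ↔ ∃ c ∈ lA2, C c = g := Iff.rfl

theorem A12 : A1 ≤ A2 := by
  rintro _ ⟨c, hc, rfl⟩
  have : ∀ c ∈ lA1, c ∈ lA2 := by decide
  exact ⟨c, this c hc, rfl⟩

theorem z_A1 : z0 ∈ A1 := ⟨64, by decide, C_64⟩

theorem A2_le_Q0 : A2 ≤ Q0 := by
  rintro _ ⟨c, -, rfl⟩
  exact C_mem c

/-! ### the lower central series of `T` -/

theorem U10_eq : U10 = A2 := by
  apply le_antisymm
  · rw [U10, U11, U12]
    refine sup_le ?_ (sup_le ?_ (sup_le ?_ bot_le))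
    · rw [closure_le]; rintro _ rfl; exact ⟨65, by decide, e_x10.symm⟩
    · rw [closure_le]; rintro _ rfl; exact ⟨72, by decide, e_x11.symm⟩
    · rw [closure_le]; rintro _ rfl; exact ⟨64, by decide, e_x12.symm⟩
  · have h65 : C 65 ∈ U10 := by rw [← e_x10]; exact Cfsg.Agent.Schreier.Suz.mem10_10
    have h72 : C 72 ∈ U10 := by rw [← e_x11]; exact Cfsg.Agent.Schreier.Suz.mem10_11
    have h64 : C 64 ∈ U10 := by rw [← e_x12]; exact Cfsg.Agent.Schreier.Suz.mem10_12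
    have h1 : C 1 ∈ U10 := mem_mulc h64 h65 (by decide +kernel)
    have h8 : C 8 ∈ U10 := mem_mulc h64 h72 (by decide +kernel)
    have h9 : C 9 ∈ U10 := mem_mulc h1 h8 (by decide +kernel)
    have h73 : C 73 ∈ U10 := mem_mulc h64 h9 (by decide +kernel)
    have h0 : C 0 ∈ U10 := by rw [C_zero']; exact one_mem _
    rintro _ ⟨c, hc, rfl⟩
    simp only [lA2, List.mem_cons, List.not_mem_nil, or_false] at hc
    rcases hc with rfl | rfl | rfl | rfl | rfl | rfl | rfl | rfl <;> assumption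

theorem U11_eq : U11 = A1 := by
  apply le_antisymm
  · rw [U11, U12]
    refine sup_le ?_ (sup_le ?_ bot_le)
    · rw [closure_le]; rintro _ rfl; exact ⟨72, by decide, e_x11.symm⟩
    · rw [closure_le]; rintro _ rfl; exact ⟨64, by decide, e_x12.symm⟩
  · have h72 : C 72 ∈ U11 := by rw [← e_x11]; exact Cfsg.Agent.Schreier.Suz.mem11_11
    have h64 : C 64 ∈ U11 := by rw [← e_x12]; exact Cfsg.Agent.Schreier.Suz.mem11_12
    have h8 : C 8 ∈ U11 := mem_mulc h64 h72 (by decide +kernel)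
    have h0 : C 0 ∈ U11 := by rw [C_zero']; exact one_mem _
    rintro _ ⟨c, hc, rfl⟩
    simp only [lA1, List.mem_cons, List.not_mem_nil, or_false] at hc
    rcases hc with rfl | rfl | rfl | rfl <;> assumption

theorem comm_mem_commutator {A B : Subgroup Suz} {a b : Suz} (ha : a ∈ A) (hb : b ∈ B) :
    a * b * a⁻¹ * b⁻¹ ∈ ⁅A, B⁆ := Subgroup.commutator_mem_commutator ha hb

theorem x11_W : x11 ∈ ⁅W, T⁆ :=
  comm_mem_commutator Cfsg.Agent.Schreier.Suz.x10_mem_W Cfsg.Agent.Schreier.Suz.s2_mem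

theorem T_le_W : T ≤ normalizer (W : Set Suz) := Cfsg.Agent.Schreier.Suz.T_le_normalizer

theorem WT_le : ⁅W, T⁆ ≤ W := by
  rw [commutator_le]
  intro a ha b hb
  have h1 := (mem_normalizer_iff.1 (T_le_W hb) _).1 (W.inv_mem ha)
  have h2 := W.mul_mem ha h1
  have e : a * (b * a⁻¹ * b⁻¹) = a * b * a⁻¹ * b⁻¹ := by group
  rw [e] at h2
  exact h2

theorem W_eq : W = A2 := by
  apply le_antisymm
  · rw [← U10_eq]; exact Cfsg.Agent.Schreier.Suz.W_le
  · rw [← U10_eq, U10, U11, U12]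
    have h11 : x11 ∈ W := WT_le x11_W
    have h12 : x12 ∈ W := by
      apply WT_le
      have := comm_mem_commutator h11 Cfsg.Agent.Schreier.Suz.s1_mem
      rwa [Cfsg.Agent.Schreier.Suz.comm_eq e_x11_s1] at this
    refine sup_le ?_ (sup_le ?_ (sup_le ?_ bot_le))
    · rw [closure_le]; rintro _ rfl; exact Cfsg.Agent.Schreier.Suz.x10_mem_W
    · rw [closure_le]; rintro _ rfl; exact h11
    · rw [closure_le]; rintro _ rfl; exact h12

theorem WT_eq : ⁅W, T⁆ = A1 := by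
  apply le_antisymm
  · rw [← U11_eq, W_eq, ← U10_eq]
    exact Cfsg.Agent.Schreier.Suz.st10.2 |> fun h => commutator_le.2 fun a ha b hb => by
      rw [commutatorElement_def]; exact h a ha b hb
  · rw [← U11_eq, U11, U12]
    have h12 : x12 ∈ ⁅W, T⁆ := by
      have := comm_mem_commutator (WT_le x11_W) Cfsg.Agent.Schreier.Suz.s1_mem
      rwa [Cfsg.Agent.Schreier.Suz.comm_eq e_x11_s1] at this
    refine sup_le ?_ (sup_le ?_ bot_le)
    · rw [closure_le]; rintro _ rfl; exact x11_W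
    · rw [closure_le]; rintro _ rfl; exact h12

theorem map_conj_eq {A : Subgroup Suz} {g : Suz} (hg : g ∈ normalizer (A : Set Suz)) :
    A.map (MulAut.conj g).toMonoidHom = A := by
  ext x
  rw [mem_map]
  constructor
  · rintro ⟨a, ha, rfl⟩
    exact (mem_normalizer_iff.1 hg a).1 ha
  · intro hx
    refine ⟨g⁻¹ * x * g, ?_, ?_⟩
    · rw [mem_normalizer_iff.1 hg]
      have e : g * (g⁻¹ * x * g) * g⁻¹ = x := by group
      rw [e]; exact hx
    · show g * (g⁻¹ * x * g) * g⁻¹ = x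
      group

theorem mem_normalizer_of_map {A : Subgroup Suz} {g : Suz} (hg : A.map (MulAut.conj g).toMonoidHom = A) :
    g ∈ normalizer (A : Set Suz) := by
  rw [mem_normalizer_iff]
  intro x
  constructor
  · intro hx
    rw [← hg]
    exact ⟨x, hx, rfl⟩
  · intro hx
    rw [← hg] at hx
    obtain ⟨y, hy, hyx⟩ := hx
    have : y = x := (MulAut.conj g).injective hyx
    rwa [← this]

theorem norm_comm {A B : Subgroup Suz} {g : Suz} (hA : g ∈ normalizer (A : Set Suz)) (hB : g ∈ normalizer (B : Set Suz)) :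
    g ∈ normalizer ((⁅A, B⁆ : Subgroup Suz) : Set Suz) := by
  apply mem_normalizer_of_map
  rw [map_commutator, map_conj_eq hA, map_conj_eq hB]

theorem N_T {g : Suz} (hg : g ∈ normalizer (T : Set Suz)) :
    g * z0 = z0 * g ∧ (∀ a ∈ A1, g * a * g⁻¹ ∈ A1) ∧ (∀ a ∈ A2, g * a * g⁻¹ ∈ A2) := by
  have hW : g ∈ normalizer (W : Set Suz) := norm_comm (norm_comm (norm_comm hg hg) hg) hg
  have hWT : g ∈ normalizer ((⁅W, T⁆ : Subgroup Suz) : Set Suz) := norm_comm hW hg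
  have hWTT : g ∈ normalizer ((⁅(⁅W, T⁆ : Subgroup Suz), T⁆ : Subgroup Suz) : Set Suz) := norm_comm hWT hg
  refine ⟨?_, fun a ha => ?_, fun a ha => ?_⟩
  · have hz : z0 ∈ (⁅(⁅W, T⁆ : Subgroup Suz), T⁆ : Subgroup Suz) := by
      have := comm_mem_commutator x11_W Cfsg.Agent.Schreier.Suz.s1_mem
      rwa [Cfsg.Agent.Schreier.Suz.comm_eq e_x11_s1] at this
    have hle : (⁅(⁅W, T⁆ : Subgroup Suz), T⁆ : Subgroup Suz) ≤ U12 := by
      rw [WT_eq, ← U11_eq]
      exact commutator_le.2 fun a ha b hb => by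
        rw [commutatorElement_def]; exact Cfsg.Agent.Schreier.Suz.st11.2 a ha b hb
    have h1 := hle ((mem_normalizer_iff.1 hWTT z0).1 hz)
    have h2 : ∀ x ∈ U12, x = 1 ∨ x = z0 := by
      have hle2 : U12 ≤ zpowers z0 := by
        rw [U12]
        refine sup_le ?_ bot_le
        rw [closure_le]; rintro _ rfl; exact mem_zpowers z0
      intro x hx
      obtain ⟨k, rfl⟩ := mem_zpowers_iff.1 (hle2 hx)
      have h3 : z0 ^ (2 : ℤ) = 1 := by rw [zpow_two]; exact z_sq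
      rcases Int.even_or_odd k with ⟨m, rfl⟩ | ⟨m, rfl⟩
      · left; rw [← two_mul, zpow_mul, h3, one_zpow]
      · right; rw [zpow_add, zpow_mul, h3, one_zpow, one_mul, zpow_one]
    rcases h2 _ h1 with h3 | h3
    · exfalso
      apply z_ne
      have : z0 = g⁻¹ * (g * z0 * g⁻¹) * g := by group
      rw [this, h3]; group
    · exact mul_inv_eq_iff_eq_mul.1 h3
  · rw [WT_eq] at hWT
    exact (mem_normalizer_iff.1 hWT a).1 ha
  · rw [W_eq] at hW
    exact (mem_normalizer_iff.1 hW a).1 ha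

/-! ### the normaliser of the flag -/

/-- an orbit bound for conjugation -/
theorem card_le_orbit [Finite Suz] (H : Subgroup Suz) (x : Suz) (S : Finset Suz) (hS : ∀ h ∈ H, h * x * h⁻¹ ∈ S) :
    Nat.card H ≤ S.card * Nat.card (H ⊓ centralizer ({x} : Set Suz) : Subgroup Suz) := by
  classical
  let rep : Suz → Suz := fun y => if h : ∃ r ∈ H, r * x * r⁻¹ = y then h.choose else 1
  have hrep : ∀ h ∈ H, rep (h * x * h⁻¹) ∈ H ∧ rep (h * x * h⁻¹) * x * (rep (h * x * h⁻¹))⁻¹ = h * x * h⁻¹ := by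
    intro h hh
    have hex : ∃ r ∈ H, r * x * r⁻¹ = h * x * h⁻¹ := ⟨h, hh, rfl⟩
    have : rep (h * x * h⁻¹) = hex.choose := dif_pos hex
    rw [this]
    exact hex.choose_spec
  have hmem : ∀ h : H, (rep ((h : Suz) * x * (h : Suz)⁻¹))⁻¹ * h ∈ (H ⊓ centralizer ({x} : Set Suz) : Subgroup Suz) := by
    rintro ⟨h, hh⟩
    obtain ⟨h1, h2⟩ := hrep h hh
    refine ⟨H.mul_mem (H.inv_mem h1) hh, mem_centralizer_singleton_iff.2 ?_⟩
    simp only at h2 ⊢
    have h3 : (rep (h * x * h⁻¹))⁻¹ * h * x * h⁻¹ * rep (h * x * h⁻¹) = x := by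
      have e : (rep (h * x * h⁻¹))⁻¹ * h * x * h⁻¹ * rep (h * x * h⁻¹) =
        (rep (h * x * h⁻¹))⁻¹ * (h * x * h⁻¹) * rep (h * x * h⁻¹) := by group
      rw [e]
      nth_rw 2 [← h2]
      group
    calc (rep (h * x * h⁻¹))⁻¹ * h * x = ((rep (h * x * h⁻¹))⁻¹ * h * x * h⁻¹ * rep (h * x * h⁻¹)) *
          ((rep (h * x * h⁻¹))⁻¹ * h) := by group
      _ = x * ((rep (h * x * h⁻¹))⁻¹ * h) := by rw [h3]
  have hinj : Function.Injective (fun h : H => ((⟨(h : Suz) * x * (h : Suz)⁻¹, hS h h.2⟩ : S),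
      (⟨_, hmem h⟩ : (H ⊓ centralizer ({x} : Set Suz) : Subgroup Suz)))) := by
    intro a b hab
    simp only [Prod.mk.injEq, Subtype.mk.injEq] at hab
    obtain ⟨h1, h2⟩ := hab
    rw [h1] at h2
    exact Subtype.ext (mul_left_cancel h2)
  have := Nat.card_le_card_of_injective _ hinj
  rwa [Nat.card_prod, Nat.card_eq_fintype_card (α := {y // y ∈ S}), Fintype.card_coe] at this

/-- edges -/
def e0 : List (ℕ × ℕ) :=
  [(3, 8), (0, 73), (4, 73), (1, 74), (2, 74), (3, 74), (4, 74), (3, 9), (2, 76), (3, 76), (4, 76), (0, 2), (3, 2),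
  (4, 2), (0, 91), (2, 91), (1, 10), (3, 4), (4, 4), (0, 93), (2, 93), (4, 93), (0, 40), (3, 40), (4, 1), (0, 82),
  (1, 66), (1, 27), (0, 18), (4, 12), (4, 84), (0, 96), (1, 94), (2, 94), (4, 94), (4, 20), (0, 121), (1, 121),
  (4, 121), (0, 57), (2, 81), (4, 68), (2, 17), (0, 104), (0, 48), (2, 30), (4, 30), (4, 31), (2, 122), (0, 112),
  (1, 61), (1, 125), (0, 32)]

def M1 : List (List ℕ × List ℕ) :=
  [([0], [2, 1, 4, 8, 16, 39]), ([1], [1, 4, 2, 8, 16, 39]), ([2], [1, 74, 76, 8, 81, 104]),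
   ([4], [65, 66, 96, 8, 16, 39])]

def e1 : List (ℕ × ℕ) :=
  [(0, 1), (3, 1), (1, 2), (2, 2), (3, 2), (2, 4), (3, 4), (0, 74), (3, 74), (1, 66), (3, 76), (0, 96), (3, 73),
  (1, 10), (3, 68), (0, 40), (3, 12), (0, 32), (0, 104)]

theorem k0 : ChOk BB 6 AA [] 8 54 L0 e0 := by decide +kernel
theorem k1 : ChOk BB 6 AA [8] 1 20 M1 e1 := by decide +kernel

theorem card_fix : Nat.card (Hs C1 (cod 6 z0 xx) [1, 8]) ≤ 3072 := by
  have hfin := Cfsg.Agent.SporadicRecognition.SuzOrder.finiteSuz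
  have h0 := chain_le rels tri nondeg z_ne gg_mem C1_comm conj_AA k0
  have h1 := chain_le rels tri nondeg z_ne gg_mem C1_comm conj_AA k1
  have h : Nat.card (Hs C1 (cod 6 z0 xx) []) = 3317760 := Cfsg.Agent.KFacts.SuzCent.card_C1
  rw [h] at h0
  omega

/-- the stabiliser of the flag -/
noncomputable def B : Subgroup Suz :=
  C1 ⊓ (normalizer (A1 : Set Suz) ⊓ normalizer (A2 : Set Suz))

theorem card_B_le : Nat.card B ≤ 24576 := by
  classical
  have hfin := Cfsg.Agent.SporadicRecognition.SuzOrder.finiteSuz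
  have h1 := card_le_orbit B (C 8) {C 8, C 72} (by
    rintro g ⟨hg, hg1, -⟩
    obtain ⟨c, hc, hcc⟩ := (mem_normalizer_iff.1 hg1 (C 8)).1 ⟨8, by decide, rfl⟩
    rw [← hcc, Finset.mem_insert, Finset.mem_singleton]
    simp only [lA1, List.mem_cons, List.not_mem_nil, or_false] at hc
    have hz := mem_C1.1 hg
    have h8 : C 8 = g⁻¹ * (g * C 8 * g⁻¹) * g := by group
    rcases hc with rfl | rfl | rfl | rfl
    · exfalso
      rw [← hcc, C_zero'] at h8
      have h9 : C 8 = C 0 := by rw [h8, C_zero']; group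
      exact absurd (C_inj' (by norm_num) (by norm_num) h9) (by norm_num)
    · exfalso
      rw [← hcc, C_64] at h8
      have h9 : C 8 = C 64 := by rw [h8, C_64, mul_assoc, ← hz]; group
      exact absurd (C_inj' (by norm_num) (by norm_num) h9) (by norm_num)
    · exact Or.inl rfl
    · exact Or.inr rfl)
  have h2 := card_le_orbit (B ⊓ centralizer ({C 8} : Set Suz)) (C 1) {C 1, C 65, C 9, C 73} (by
    rintro g ⟨⟨hg, hg1, hg2⟩, hg8⟩
    obtain ⟨c, hc, hcc⟩ := (mem_normalizer_iff.1 hg2 (C 1)).1 ⟨1, by decide, rfl⟩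
    rw [← hcc]
    simp only [Finset.mem_insert, Finset.mem_singleton]
    simp only [lA2, List.mem_cons, List.not_mem_nil, or_false] at hc
    have hz := mem_C1.1 hg
    have h8 := mem_centralizer_singleton_iff.1 hg8
    have h1 : C 1 = g⁻¹ * (g * C 1 * g⁻¹) * g := by group
    have hz8 : g⁻¹ * C 72 * g = C 72 := by
      have e : C 72 = C 64 * C 8 := by rw [C_mul']; congr 1
      rw [e, C_64]
      calc g⁻¹ * (z0 * C 8) * g = g⁻¹ * z0 * (C 8 * g) := by group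
        _ = g⁻¹ * (z0 * g) * C 8 := by rw [← h8]; group
        _ = z0 * C 8 := by rw [← hz]; group
    rcases hc with rfl | rfl | rfl | rfl | rfl | rfl | rfl | rfl
    · exfalso
      rw [← hcc, C_zero'] at h1
      have h9 : C 1 = C 0 := by rw [h1, C_zero']; group
      exact absurd (C_inj' (by norm_num) (by norm_num) h9) (by norm_num)
    · exfalso
      rw [← hcc, C_64] at h1
      have h9 : C 1 = C 64 := by rw [h1, C_64, mul_assoc, ← hz]; group
      exact absurd (C_inj' (by norm_num) (by norm_num) h9) (by norm_num)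
    · exfalso
      rw [← hcc] at h1
      have h9 : C 1 = C 8 := by rw [h1, mul_assoc, ← h8]; group
      exact absurd (C_inj' (by norm_num) (by norm_num) h9) (by norm_num)
    · exfalso
      rw [← hcc, hz8] at h1
      exact absurd (C_inj' (by norm_num) (by norm_num) h1) (by norm_num)
    · exact Or.inl rfl
    · exact Or.inr (Or.inl rfl)
    · exact Or.inr (Or.inr (Or.inl rfl))
    · exact Or.inr (Or.inr (Or.inr rfl)))
  have h3 : Nat.card (B ⊓ centralizer ({C 8} : Set Suz) ⊓ centralizer ({C 1} : Set Suz) : Subgroup Suz) ≤ 3072 := by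
    refine le_trans (Subgroup.card_le_of_le ?_) card_fix
    intro g hg
    refine ⟨⟨hg.1.1.1, hg.1.2⟩, hg.2⟩
  have h4 : ({C 8, C 72} : Finset Suz).card ≤ 2 := Finset.card_le_two
  have h5 : ({C 1, C 65, C 9, C 73} : Finset Suz).card ≤ 4 := Finset.card_le_four
  calc Nat.card B ≤ _ := h1
    _ ≤ 2 * (4 * 3072) := Nat.mul_le_mul h4 (h2.trans (Nat.mul_le_mul h5 h3))
    _ = 24576 := by norm_num

/-! ### `w` normalises `T` -/

theorem r_w : Rep w (wd Cfsg.Agent.SuzThree.Elts.w0) := Rep.el _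

open Cfsg.Agent.Schreier.SuzT (r_s1 r_s2 r_s3 r_s4 r_x5 r_x6 r_x11 r_x12) in
theorem w_s1 : w * s1 = s1 * w :=
  eq_of_reps (r_w.mul (conv r_s1)) ((conv r_s1).mul r_w) (by decide +kernel)

open Cfsg.Agent.Schreier.SuzT (r_s1 r_s2 r_s3 r_s4 r_x5 r_x6 r_x11 r_x12) in
theorem w_s2 : w * s2 = s2 * w :=
  eq_of_reps (r_w.mul (conv r_s2)) ((conv r_s2).mul r_w) (by decide +kernel)

open Cfsg.Agent.Schreier.SuzT (r_s1 r_s2 r_s3 r_s4 r_x5 r_x6 r_x11 r_x12) in
theorem w_s3 : w * s3 = s3 * s4 * x6 * x11 * x12 * w :=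
  eq_of_reps (r_w.mul (conv r_s3))
    ((((((conv r_s3).mul (conv r_s4)).mul (conv r_x6)).mul (conv r_x11)).mul (conv r_x12)).mul r_w) (by decide +kernel)

open Cfsg.Agent.Schreier.SuzT (r_s1 r_s2 r_s3 r_s4 r_x5 r_x6 r_x11 r_x12) in
theorem w_s4 : w * s4 = s3 * x5 * x11 * x12 * w :=
  eq_of_reps (r_w.mul (conv r_s4))
    (((((conv r_s3).mul (conv r_x5)).mul (conv r_x11)).mul (conv r_x12)).mul r_w) (by decide +kernel)

open Cfsg.Agent.Schreier.Suz in
theorem w_T {t : Suz} (ht : t ∈ T) : w * t * w⁻¹ ∈ T := by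
  have hle : T ≤ T.comap (MulAut.conj w).toMonoidHom := by
    nth_rw 1 [T_def]
    rw [closure_le]
    refine forall_S ?_ ?_ ?_ ?_
    · show w * s1 * w⁻¹ ∈ T
      rw [w_s1, mul_inv_cancel_right]; exact s1_mem
    · show w * s2 * w⁻¹ ∈ T
      rw [w_s2, mul_inv_cancel_right]; exact s2_mem
    · show w * s3 * w⁻¹ ∈ T
      rw [w_s3, mul_inv_cancel_right]
      exact mul_mem (mul_mem (mul_mem (mul_mem s3_mem s4_mem) x6_mem) x11_mem) x12_mem
    · show w * s4 * w⁻¹ ∈ T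
      rw [w_s4, mul_inv_cancel_right]
      exact mul_mem (mul_mem (mul_mem s3_mem x5_mem) x11_mem) x12_mem
  exact hle ht

theorem w_normalizer : w ∈ normalizer (T : Set Suz) := by
  rw [mem_normalizer_iff]
  intro t
  refine ⟨w_T, fun h => ?_⟩
  have h1 := w_T (w_T h)
  have h3 : w * w * w = 1 := by
    have := w3
    rwa [pow_succ, pow_two] at this
  have hi : w⁻¹ = w * w := inv_eq_of_mul_eq_one_left h3
  have e : w * (w * (w * t * w⁻¹) * w⁻¹) * w⁻¹ = t := by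
    calc w * (w * (w * t * w⁻¹) * w⁻¹) * w⁻¹ = (w * w * w) * t * (w * w * w)⁻¹ := by group
      _ = t := by rw [h3]; group
  rwa [e] at h1

theorem mem_normalizer_of_both {A : Subgroup Suz} {t : Suz} (h : ∀ a ∈ A, t * a * t⁻¹ ∈ A)
    (h' : ∀ a ∈ A, t⁻¹ * a * t⁻¹⁻¹ ∈ A) : t ∈ normalizer (A : Set Suz) := by
  rw [mem_normalizer_iff]
  refine fun x => ⟨h x, fun hx => ?_⟩
  have := h' _ hx
  have e : t⁻¹ * (t * x * t⁻¹) * t⁻¹⁻¹ = x := by group
  rwa [e] at this

theorem N_le_B {t : Suz} (ht : t ∈ normalizer (T : Set Suz)) : t ∈ B := by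
  have h := N_T ht
  have h' := N_T (Subgroup.inv_mem _ ht)
  exact ⟨mem_C1.2 h.1, mem_normalizer_of_both h.2.1 h'.2.1, mem_normalizer_of_both h.2.2 h'.2.2⟩

theorem T_le_B : T ≤ B := fun _ ht => N_le_B (le_normalizer ht)

theorem w_ne : w ≠ 1 := by
  intro h
  have h1 := act_w.gen 2 (by norm_num)
  rw [h, one_mul, inv_one, mul_one] at h1
  have h2 : C 4 = C 96 := by
    rw [← show C (2 ^ 2) = C 4 from rfl, C, cod_pow (by norm_num : 2 < 6), h1]; rfl
  exact absurd (C_inj' (by norm_num) (by norm_num) h2) (by norm_num)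

theorem card_Tw : 24576 ≤ Nat.card (T ⊔ zpowers w : Subgroup Suz) := by
  have hfin := Cfsg.Agent.SporadicRecognition.SuzOrder.finiteSuz
  have ho : orderOf w = 3 := by
    have : Fact (Nat.Prime 3) := ⟨Nat.prime_three⟩
    exact orderOf_eq_prime w3 w_ne
  have h1 : 3 ∣ Nat.card (T ⊔ zpowers w : Subgroup Suz) := by
    rw [← ho, ← Nat.card_zpowers]
    exact card_dvd_of_le le_sup_right
  have h2 : 2 ^ 13 ∣ Nat.card (T ⊔ zpowers w : Subgroup Suz) := by
    rw [← Cfsg.Agent.Schreier.Suz.card_T]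
    exact card_dvd_of_le le_sup_left
  have h3 : 3 * 2 ^ 13 ∣ Nat.card (T ⊔ zpowers w : Subgroup Suz) :=
    Nat.Coprime.mul_dvd_of_dvd_of_dvd (by norm_num) h1 h2
  have := Nat.le_of_dvd Nat.card_pos h3
  omega

theorem B_eq : T ⊔ zpowers w = B := by
  have hfin := Cfsg.Agent.SporadicRecognition.SuzOrder.finiteSuz
  refine eq_of_le_of_card_ge (sup_le T_le_B (zpowers_le.2 (N_le_B w_normalizer))) ?_
  exact card_B_le.trans card_Tw

theorem exists_of_mem_B {g : Suz} (hg : g ∈ B) : ∃ s ∈ T, ∃ k : ℕ, g = s * w ^ k := by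
  rw [← B_eq] at hg
  have hfin := Cfsg.Agent.SporadicRecognition.SuzOrder.finiteSuz
  have hn : zpowers w ≤ normalizer (T : Set Suz) := zpowers_le.2 w_normalizer
  rw [← SetLike.mem_coe, coe_mul_of_right_le_normalizer_left T (zpowers w) hn] at hg
  obtain ⟨s, hs, y, hy, rfl⟩ := Set.mem_mul.1 hg
  obtain ⟨k, rfl⟩ := mem_powers_iff_mem_zpowers.2 hy
  exact ⟨s, hs, k, rfl⟩

/-- **the stabiliser of the flag** -/
theorem of_flag {g : Suz} (h0 : g * z0 = z0 * g) (h1 : ∀ a ∈ A1, g * a * g⁻¹ ∈ A1) (h2 : ∀ a ∈ A2, g * a * g⁻¹ ∈ A2) :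
    ∃ s ∈ T, ∃ k : ℕ, g = s * w ^ k := by
  have hfin := Cfsg.Agent.SporadicRecognition.SuzOrder.finiteSuz
  have key : ∀ A : Subgroup Suz, (∀ a ∈ A, g * a * g⁻¹ ∈ A) → g ∈ normalizer (A : Set Suz) := by
    intro A hA
    have hle : A.map (MulAut.conj g).toMonoidHom ≤ A := by
      rintro _ ⟨a, ha, rfl⟩
      exact hA a ha
    refine mem_normalizer_of_map (eq_of_le_of_card_ge hle ?_)
    rw [card_map_of_injective (MulAut.conj g).injective]
  exact exists_of_mem_B ⟨mem_C1.2 h0, key A1 h1, key A2 h2⟩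

end Cfsg.Agent.H895.Pron.SuzB
end

private theorem dce_9d0e5cece657 : _root_.True := by
  try have : _root_.True := by simp only [_root_.Cfsg.Agent.H895.Pron.SuzB.lA1.eq_1]
  try have : _root_.True := by simp only [_root_.Cfsg.Agent.H895.Pron.SuzB.lA2.eq_1]
  exact _root_.True.intro
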