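import Mathlib
import Cfsg.Agent.H408.Pron.PosGU
import Cfsg.Prelude.Def_Classical
import Cfsg.Agent.H408.Pron.Defs
import Cfsg.Agent.J2Sylow.SporSylow
import Cfsg.Agent.H158.PronB
import Cfsg.Agent.H158.PronSp
import Cfsg.Agent.H158.PronT
import Cfsg.Agent.H788.SF.JModel
import Cfsg.Agent.J2Type.CStruct
import Cfsg.Agent.LThreeMB.ZStar
import Cfsg.Agent.H898.J3Cent
import Cfsg.Agent.KFacts.J3
import Cfsg.Agent.Lib.PermCode
import Cfsg.Agent.H895.Pron.SuzB
import Cfsg.Agent.Lib.PermNetFast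
import Cfsg.Agent.FastGrp
import Cfsg.Agent.Prune
set_option linter.all false

section
prune_inst 0x7ffcfcf8afbc3fffffff7e7ffffddfff99fcffffffdffb73ffe8ebff8f9f0b86fbc5fbaf7de0d8ff4ed6e09430b87b53f97eceffef6bdc7ffffd5ff41ffbee1ff7ffb58d5191b0241ffc6ffe9bf17f8e7f3fffffffffffffffffffffffffffbeffffffffffff

-- part: H895/Pron/Frat
section
set_option linter.all false
open scoped Cfsg.Agent.FastGrp

/-!
# Numbers from the Frattini argument (helper895)
-/

set_option autoImplicit false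

namespace Cfsg.Agent.H895.Pron.Frat

open Subgroup

theorem mem_normalizer_map {G : Type*} [Group G] {N : Subgroup G} {P : Subgroup N} {x : N} :
    (x : G) ∈ normalizer ((P.map N.subtype : Subgroup G) : Set G) ↔ x ∈ normalizer (P : Set N) := by
  have key : ∀ y : N, (y : G) ∈ P.map N.subtype ↔ y ∈ P := by
    intro y
    constructor
    · rintro ⟨z, hz, hzy⟩
      have : z = y := Subtype.ext hzy
      rwa [← this]
    · intro hy
      exact ⟨y, hy, rfl⟩
  rw [mem_normalizer_iff, mem_normalizer_iff]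
  constructor
  · intro h y
    have h1 := h (y : G)
    rw [key] at h1
    have h2 : (x : G) * y * (x : G)⁻¹ = ((x * y * x⁻¹ : N) : G) := rfl
    rw [h2, key] at h1
    exact h1
  · intro h y
    constructor
    · rintro ⟨z, hz, rfl⟩
      exact ⟨x * z * x⁻¹, (h z).1 hz, rfl⟩
    · rintro ⟨z, hz, hzy⟩
      have h3 : y = ((x⁻¹ * z * x : N) : G) := by
        have : (z : G) = x * y * (x : G)⁻¹ := hzy
        show y = (x : G)⁻¹ * z * x
        rw [this]; group
      rw [h3]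
      refine ⟨x⁻¹ * z * x, (h _).2 ?_, rfl⟩
      have e : x * (x⁻¹ * z * x) * x⁻¹ = z := by group
      rw [e]; exact hz

theorem card_inf_eq {G : Type*} [Group G] {N : Subgroup G} {P : Subgroup N} :
    Nat.card (N ⊓ normalizer ((P.map N.subtype : Subgroup G) : Set G) : Subgroup G) =
      Nat.card (normalizer (P : Set N)) := by
  have h : N ⊓ normalizer ((P.map N.subtype : Subgroup G) : Set G) = (normalizer (P : Set N)).map N.subtype := by
    ext y
    constructor
    · rintro ⟨hy, hy'⟩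
      exact ⟨⟨y, hy⟩, mem_normalizer_map.1 hy', rfl⟩
    · rintro ⟨x, hx, rfl⟩
      exact ⟨x.2, mem_normalizer_map.2 hx⟩
  rw [h, card_map_of_injective (subtype_injective _)]

theorem top {X : Type*} [Group X] [Finite X] (N : Subgroup X) [N.Normal] (r : ℕ) [hr : Fact r.Prime] :
    ∃ R : Subgroup X, R ≤ N ∧ Nat.card R = r ^ (Nat.card N).factorization r ∧
      Nat.card X * Nat.card (N ⊓ normalizer (R : Set X) : Subgroup X) = Nat.card N * Nat.card (normalizer (R : Set X)) ∧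
      Nat.card N / Nat.card (N ⊓ normalizer (R : Set X) : Subgroup X) ≡ 1 [MOD r] := by
  obtain ⟨P⟩ : Nonempty (Sylow r N) := inferInstance
  refine ⟨(P : Subgroup N).map N.subtype, map_subtype_le _, ?_, ?_, ?_⟩
  · rw [card_map_of_injective (subtype_injective _), P.card_eq_multiplicity]
  · have h1 := P.normalizer_sup_eq_top
    have h2 := relIndex_sup_right (H := normalizer (((P : Subgroup N).map N.subtype : Subgroup X) : Set X)) (K := N)
    rw [h1, relIndex_top_right] at h2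
    have h3 := N.card_mul_index
    have h4 : Nat.card (N ⊓ normalizer (((P : Subgroup N).map N.subtype : Subgroup X) : Set X) : Subgroup X) *
        N.relIndex (normalizer (((P : Subgroup N).map N.subtype : Subgroup X) : Set X)) =
        Nat.card (normalizer (((P : Subgroup N).map N.subtype : Subgroup X) : Set X)) := by
      have h5 := (N.subgroupOf (normalizer (((P : Subgroup N).map N.subtype : Subgroup X) : Set X))).card_mul_index
      rw [← h5, relIndex]
      congr 1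
      rw [← card_map_of_injective (subtype_injective _), subgroupOf_map_subtype]
    rw [← h3, ← h4, ← h2]
    ring
  · have h1 := card_sylow_modEq_one r N
    rw [P.card_eq_index_normalizer] at h1
    rw [card_inf_eq]
    have h2 := (normalizer ((P : Subgroup N) : Set N)).card_mul_index
    rw [← h2, Nat.mul_div_cancel_left _ Nat.card_pos]
    exact h1

/-- **the Frattini argument in a subgroup `H`** -/
theorem main {G : Type*} [Group G] [Finite G] {H N : Subgroup G} (hNH : N ≤ H) (hn : ∀ h ∈ H, ∀ n ∈ N, h * n * h⁻¹ ∈ N)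
    (r : ℕ) [hr : Fact r.Prime] :
    ∃ R : Subgroup G, R ≤ N ∧ Nat.card R = r ^ (Nat.card N).factorization r ∧
      Nat.card H * Nat.card (N ⊓ normalizer (R : Set G) : Subgroup G) =
        Nat.card N * Nat.card (H ⊓ normalizer (R : Set G) : Subgroup G) ∧
      Nat.card N / Nat.card (N ⊓ normalizer (R : Set G) : Subgroup G) ≡ 1 [MOD r] := by
  have hnorm : (N.subgroupOf H).Normal := ⟨fun n hn' h => hn h h.2 n hn'⟩
  have hc : Nat.card (N.subgroupOf H) = Nat.card N := by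
    rw [← card_map_of_injective (subtype_injective _), subgroupOf_map_subtype, inf_eq_left.2 hNH]
  obtain ⟨R, hR, h1, h2, h3⟩ := top (N.subgroupOf H) r
  rw [hc] at h1 h2 h3
  have e1 : Nat.card (N ⊓ normalizer ((R.map H.subtype : Subgroup G) : Set G) : Subgroup G) =
      Nat.card (N.subgroupOf H ⊓ normalizer (R : Set H) : Subgroup H) := by
    rw [← card_map_of_injective (f := H.subtype) (subtype_injective H)]
    congr 2
    ext y
    constructor
    · rintro ⟨hy, hy'⟩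
      exact ⟨⟨y, hNH hy⟩, ⟨hy, mem_normalizer_map.1 hy'⟩, rfl⟩
    · rintro ⟨x, ⟨hx, hx'⟩, rfl⟩
      exact ⟨hx, mem_normalizer_map.2 hx'⟩
  have e2 : Nat.card (H ⊓ normalizer ((R.map H.subtype : Subgroup G) : Set G) : Subgroup G) =
      Nat.card (normalizer (R : Set H)) := card_inf_eq
  refine ⟨R.map H.subtype, ?_, ?_, ?_, ?_⟩
  · rintro _ ⟨x, hx, rfl⟩
    exact hR hx
  · rw [card_map_of_injective (subtype_injective _), h1]
  · rw [e1, e2, h2]
  · rw [e1]; exact h3

end Cfsg.Agent.H895.Pron.Frat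
end

-- part: H408/Pron/Pos
section
set_option linter.all false
open scoped Cfsg.Agent.FastGrp

/-!
# Odd index subgroups of the symplectic groups: the positive part (helper408)
-/

set_option autoImplicit false
set_option linter.unusedSectionVars false

namespace Cfsg.Agent.H408.Pron.Pos

open Cfsg.Agent.H158.PronSp Cfsg.Agent.H158.PronM2
open Cfsg.Agent.H408.Pron

variable {F : Type*} [Field F]

theorem po_psp [Finite F] (h2 : (2 : F) ≠ 0) {k : ℕ}
    (h : IsSquare (2 : F) ∨ (∃ m, k = 2 ^ m) ∨ ∃ m l, k = 2 ^ m * (2 ^ (2 * l) + 1)) :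
    PO (Cfsg.PSp k F) := by
  obtain ⟨a, b, hab⟩ := exists_sq_add_sq (-1 : F)
  have h3 : PO (Matrix.symplecticGroup (Fin k) F) :=
    Block.PO.of_surjective _ (toSp_surjective hab h2) (PosGU.po_GU h2 h)
  exact Block.PO.of_surjective (QuotientGroup.mk' _) (QuotientGroup.mk'_surjective _) h3

/-- The form used in S2527. -/
theorem po_psp' [Fintype F] (hodd : Odd (Fintype.card F)) {k : ℕ}
    (h : (Fintype.card F % 8 = 3 ∨ Fintype.card F % 8 = 5) →
      (∃ m, k = 2 ^ m) ∨ ∃ m l, k = 2 ^ m * (2 ^ (2 * l) + 1)) : PO (Cfsg.PSp k F) := by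
  have h2 : (2 : F) ≠ 0 := by
    intro h
    have h1 : CharP F 2 := by
      obtain ⟨p, hp⟩ := CharP.exists F
      have h3 : p ∣ 2 := (CharP.cast_eq_zero_iff F p 2).1 (by exact_mod_cast h)
      rcases (Nat.dvd_prime Nat.prime_two).1 h3 with rfl | rfl
      · exact absurd rfl (CharP.char_ne_one F 1)
      · exact hp
    have h3 := FiniteField.even_card_of_char_two (ringChar.eq F 2)
    have h4 := Nat.odd_iff.1 hodd
    omega
  apply po_psp h2
  by_cases h8 : Fintype.card F % 8 = 3 ∨ Fintype.card F % 8 = 5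
  · exact Or.inr (h h8)
  · left
    rw [FiniteField.isSquare_two_iff]
    push Not at h8
    exact h8

end Cfsg.Agent.H408.Pron.Pos
end

-- part: H29/PJ/Abs_mg
section
prune_inst 0x303071041c000000001800002000064030000002000880017140070607469003a0450821f0600b121132ac74280a8068131000090210000020008e00411c008004a222c6e0c9b00021001640e807180c00000000000000000000000000041000000000000
set_option linter.all false
open scoped Cfsg.Agent.FastGrp

/-- decoders of the packed data (elaboration time only) -/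
private noncomputable def pk61d (b S i : Nat) : Nat := Nat.mod (Nat.shiftRight S (Nat.mul b i)) (Nat.shiftLeft (nat_lit 1) b)
private noncomputable def pk61c {α : Type} (t : Nat) (a : α) (f : Nat → α) : α := Nat.rec a (fun k _ => f k) t
private noncomputable def pk61f {α : Type} (t : Nat) (f : Nat → α) : α := Nat.rec (f Nat.zero) (fun k _ => f (Nat.succ k)) t
private noncomputable def pk61l {α : Type} (f : Nat → α) (s e : Nat) (tl : List α) : List α :=
  pk61f e fun e => Nat.rec tl (fun k ih => List.cons (pk61f (Nat.sub e (Nat.succ k)) f) ih) (Nat.sub e s)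
private noncomputable def pk61o {α : Type} (O : (n : Nat) → OfNat α n → α) (I : (n : Nat) → OfNat α n) (t : Nat) : α :=
  pk61c t (O (nat_lit 0) (I (nat_lit 0))) fun k => O (Nat.succ k) (I (Nat.succ k))

-- part: H29/PJ/Abs
section
/-!
# Pronormality of the subgroups of odd index from an explicit list of cosets

`po_of_data`: `S` a Sylow 2-subgroup, `z` in the centre of `S` and fixed by `N(S)`, elements `v i` (with `v i z (v i)⁻¹`
different) and `c j ∈ C(z)` (in different cosets of `S`), and their numbers have the product `|G : S|`; then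
`G = ⋃ v i c j S`.
-/

set_option autoImplicit false

namespace Cfsg.Agent.H29.PJ

open Subgroup Cfsg.Agent.H408.Pron

universe u

variable {G : Type u} [Group G] [Finite G]

theorem cover (S : Subgroup G) (z : G) {m n : ℕ} (v : Fin m → G) (c : Fin n → G)
    (hz : ∀ s ∈ S, s * z = z * s) (hc : ∀ j, c j * z = z * c j)
    (hv : ∀ i j, v i * z * (v i)⁻¹ = v j * z * (v j)⁻¹ → i = j)
    (hcc : ∀ i j, (c i)⁻¹ * c j ∈ S → i = j) (hcard : m * n = S.index) (g : G) :
    ∃ i j, ∃ s ∈ S, g = v i * c j * s := by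
  have hinj : Function.Injective (fun p : Fin m × Fin n => ((v p.1 * c p.2 : G) : G ⧸ S)) := by
    rintro ⟨i, j⟩ ⟨i', j'⟩ h
    have h1 : (v i * c j)⁻¹ * (v i' * c j') ∈ S := QuotientGroup.eq.1 h
    set s := (v i * c j)⁻¹ * (v i' * c j') with hs
    have h2 : v i' * c j' = v i * c j * s := by rw [hs]; group
    have h3 : v i' * z * (v i')⁻¹ = v i * z * (v i)⁻¹ := by
      have e1 : v i' = v i * c j * s * (c j')⁻¹ := by rw [← h2]; group
      have e2 : (c j')⁻¹ * z * c j' = z := by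
        rw [mul_assoc, ← hc, ← mul_assoc, inv_mul_cancel, one_mul]
      have e3 : s * z * s⁻¹ = z := by rw [hz s h1, mul_assoc, mul_inv_cancel, mul_one]
      have e4 : c j * z * (c j)⁻¹ = z := by rw [hc j, mul_assoc, mul_inv_cancel, mul_one]
      calc v i' * z * (v i')⁻¹ = v i * (c j * (s * ((c j')⁻¹ * z * c j') * s⁻¹) * (c j)⁻¹) * (v i)⁻¹ := by
            rw [e1]; group
        _ = v i * z * (v i)⁻¹ := by rw [e2, e3, e4]
    have h4 : i' = i := hv _ _ h3
    subst h4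
    have h5 : (c j)⁻¹ * c j' = s := by rw [hs]; group
    have h6 : j = j' := hcc _ _ (by rw [h5]; exact h1)
    rw [h6]
  have hsurj : Function.Surjective (fun p : Fin m × Fin n => ((v p.1 * c p.2 : G) : G ⧸ S)) := by
    have : Fintype (G ⧸ S) := Fintype.ofFinite _
    refine ((Fintype.bijective_iff_injective_and_card _).2 ⟨hinj, ?_⟩).2
    rw [Fintype.card_prod, Fintype.card_fin, Fintype.card_fin, hcard, Subgroup.index, Nat.card_eq_fintype_card]
  obtain ⟨⟨i, j⟩, hij⟩ := hsurj (g : G ⧸ S)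
  refine ⟨i, j, (v i * c j)⁻¹ * g, QuotientGroup.eq.1 hij, by group⟩

theorem po_of_data (S : Sylow 2 G) (z w : G) {m n : ℕ} (v : Fin m → G) (c : Fin n → G)
    (hz : ∀ s ∈ (S : Subgroup G), s * z = z * s) (hc : ∀ j, c j * z = z * c j)
    (hv : ∀ i j, v i * z * (v i)⁻¹ = v j * z * (v j)⁻¹ → i = j)
    (hcc : ∀ i j, (c i)⁻¹ * c j ∈ (S : Subgroup G) → i = j) (hcard : m * n = (S : Subgroup G).index)
    (hN : ∀ g ∈ Subgroup.normalizer ((S : Subgroup G) : Set G), g * z = z * g)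
    (hNc : ∀ j, c j ∈ Subgroup.normalizer ((S : Subgroup G) : Set G) → c j ∈ (S : Subgroup G) ⊔ zpowers w)
    (i0 : Fin m) (hi0 : v i0 = 1) (hw : w ∈ Subgroup.normalizer ((S : Subgroup G) : Set G))
    (hcert : ∀ i j, (∀ K : Subgroup G, (S : Subgroup G) ≤ K → v i * c j ∈ K → w ∈ K) ∨
      ∃ s ∈ (S : Subgroup G), ∃ t ∈ (S : Subgroup G), w * (v i * c j) * w⁻¹ = s * (v i * c j) * t) : PO G := by
  have hcov := cover (S : Subgroup G) z v c hz hc hv hcc hcard
  refine PO.of_one S w ?_ ?_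
  · intro g hg
    obtain ⟨i, j, s, hs, rfl⟩ := hcov g
    have h1 : v i * c j ∈ Subgroup.normalizer ((S : Subgroup G) : Set G) := by
      have h2 := mul_mem hg (Subgroup.le_normalizer (inv_mem hs))
      rwa [mul_inv_cancel_right] at h2
    have h2 := hN _ h1
    have h3 : v i * z * (v i)⁻¹ = v i0 * z * (v i0)⁻¹ := by
      rw [hi0, one_mul, inv_one, mul_one]
      calc v i * z * (v i)⁻¹ = v i * (z * c j) * (c j)⁻¹ * (v i)⁻¹ := by group
        _ = (v i * c j * z) * (c j)⁻¹ * (v i)⁻¹ := by rw [← hc]; group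
        _ = z := by rw [h2]; group
    have h4 := hv _ _ h3
    subst h4
    rw [hi0, one_mul] at h1 ⊢
    exact mul_mem (hNc j h1) (mem_sup_left hs)
  · intro K hSK hwK x hx
    obtain ⟨i, j, s, hs, rfl⟩ := hcov x
    have h1 : v i * c j ∈ K := by
      have h2 := mul_mem hx (inv_mem (hSK hs))
      rwa [mul_inv_cancel_right] at h2
    rcases hcert i j with h2 | ⟨a, ha, b, hb, hab⟩
    · exact absurd (h2 K hSK h1) hwK
    · have h3 : w * s * w⁻¹ ∈ (S : Subgroup G) := (Subgroup.mem_normalizer_iff.1 hw s).1 hs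
      have h4 : w * (v i * c j * s) * w⁻¹ = (w * (v i * c j) * w⁻¹) * (w * s * w⁻¹) := by group
      rw [h4, hab]
      exact mul_mem (mul_mem (mul_mem (hSK ha) h1) (hSK hb)) (hSK h3)

end Cfsg.Agent.H29.PJ
end

-- part: H29/PJ/Data
section
/-!
# `J₂`: the double cosets of a Sylow 2-subgroup, data
-/

set_option autoImplicit false

namespace Cfsg.Agent.H29.PJ.Data

/-- short words of the elements of the Sylow subgroup -/
noncomputable def sW : List (List ℕ) :=
  (by
  refine (?fq9001 : ((pk61l (fun i1 => ((fun g1 : Nat → Nat => pk61l (fun i2 => (pk61d (nat_lit 3) 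
    (nat_lit 0x2116882d468b51a20845a20a71a2d18d10422d105c68b46344108b4414d468b51a2014d171a2d10428d105168b8d168821468829a2d46882d111a20a2d16a34416888d14d105a71a20b45a71a2d105a71a20b45a71a25171a2d105a71a20b4ca71a2d105a71a20b4c14d111a2d468805346345a31a2014d18d16a344028b46345a8d10d10538d168c68b89a20a71a2d18d17134414d111a2d468b8d105344468b51a2e231a6888d16a34414cc69a22345a8d105346345a2e34d105468c68b45c69a20a8d02138d10534438d100845c69a20845c68804221a31a20868b8d100a20868c68821a2e34402d34418d168b51a21169a20c68b45a8d105a2d468869c68845a2d468869c68828b45a71a2d468805345a71a2d468805168b8d34634d100a68b8d34634d10538d168829a71a25171a2d10534e344a2e345a20a68b8d129c68b4414d171a20a2d171a20b44468829a2e34416888d10534634d10634434414d10e34416888d121168829c68b51a20845a20871a2d468821168831a68c69a20845a20b8d16a34404434416a34434e34410d105a8d10d38d168b4d18d168c68b80b44344468869c68944171a2d38d10422c845c68b4e344108b28871a21a21a31a21909c68868868c68860a71a68829a31a2d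104108b8d34414d18d10d10538d168829c68b44105171a2d10538d16882534418d168871a24221a31a2d16a34518d168c68b86345a31a2e18d168c68b51a2d346345a31a2d468b4c845c68b4e344108b45105c68b4e344108b4086882d468868b8d10886882d468868b8d105a21a22344345c68b45a68c68b46345a8634d111a2d468829a4634d111a2d468829a31a2d171a6882a346345a2e34d10546d105344468b51a2d44d105344468b51a2d44d10538d168c68b51a20a71a2d18d16a28d10534e34414d18d38d10534e34414d18d34d169c68829a8d10538d169c68829a8d105385a20a68b4414d168829a2d105351a20a6a34414d451a20a6a34414d40d105351a20a6a344345968829a8d105351a20a70868821a2d221a20868b49a2d368b4c828b45c68829a71a2014e345a20a71a2d105105168b51a20a69c6880538d34414d18d168828845c68b4416a344a20b8d16882d46898d168c68b5118d168c68b5014410d18d10434e34402110d18d10434e344021171a6882138d10084e34414d105c68829a31a2d105a8d10c169a22344345a8d12118d16a34435182d16a344345c6890d169a8d105351a2084c14e345a21c6882d169c6a34414d468829c8d105351a20a7110d10434590d104345b45a69345a6a34414d468829a8d169905a6a344345a6a34416d169a8d105351a20a71345a6a34414d468829c29a20a68945a20a68a)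 i2)) (g1 i1) (g1 (Nat.succ i1)) List.nil) fun j => (pk61d (nat_lit 12) 
    (nat_lit 0xa40a2aa139fd9e69d09b99a398c97395b94292a9189068f58e38cf8ba8a388d87686084a83581f8087ef7d57bf7a879578176c75874372f71b7066f06db6c56b069a68466e65864262d6166005eb5d55be5a859157b5625485305175034ee4df4d14bc4a648f47746044843141b4043ec3d83c33ac39437e36935033831f3072ff2f62ec2e32d02bc2a128627926b26425e24622d2141fa1e61d11c21b219918116b15413e1281151010e60cb0b80a609908d08607e06504b03201800d001000000) j))) (nat_lit 0) (nat_lit 128) List.nil) : List (List ℕ))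
    = ?xq9001 → (List (List ℕ))) ?hq9001; (case hq9001 => (set_option maxRecDepth 1000000 in conv => lhs; reduce)); intro _; exact ?xq9001 : List (List ℕ))

/-- words of the `r t`: the conjugates `r t z (r t)⁻¹` represent the orbits of `S` on the class of `z` -/
def rW : List (List ℕ) := [
  [], [3],
  [0], [4],
  [3, 1], [4, 1],
  [1, 0, 1], [4, 0, 1, 0],
  [1, 2, 3, 2, 3, 1, 2, 3, 4]]

/-- words of the representatives of the cosets of `S` in `C(z)` -/
noncomputable def cW : List (List ℕ) :=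
  (by
  refine (?fq9002 : ((pk61l (fun i1 => ((fun g1 : Nat → Nat => pk61l (fun i2 => (pk61d (nat_lit 3) 
    (nat_lit 0x82d16a344344109a31a21a24169a31a21905a6888d100a8d105346105a71a20b20869c6882d38d10c10d38d10084e344304108b4c14e34414e3441043) i2)) (g1 i1) (g1 (Nat.succ i1)) List.nil) fun j => (pk61d (nat_lit 8) 
    (nat_lit 0xa292837567594c41362b20160d060000) j))) (nat_lit 0) (nat_lit 15) List.nil) : List (List ℕ))
    = ?xq9002 → (List (List ℕ))) ?hq9002; (case hq9002 => (set_option maxRecDepth 1000000 in conv => lhs; reduce)); intro _; exact ?xq9002 : List (List ℕ))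

/-- the word of `z` -/
def zW : List ℕ := [1, 2, 3, 2, 1, 0, 1, 2, 3, 1, 2, 1]

/-- the word of `w` -/
noncomputable def wW : List ℕ := [3, 0, 1, 2, 3, 4, 3, 2, 0, 1, 0]

/-- the 315 conjugates of `z`: `v = s k * r t` -/
noncomputable def vI : List (ℕ × ℕ) :=
  (by
  refine (?fq9003 : (fun (On : (n : Nat) → OfNat Nat n → Nat) (In : (n : Nat) → OfNat Nat n) => ((pk61l (fun i1 => (_root_.Prod.mk (pk61o On In (pk61d (nat_lit 4) 
    (nat_lit 0x333356564163666664137777641356655665314663143333614334616314314666556666556633335566666663145656333363413416665563414631631466551634656536415566665566556666613414366143666665564613643166666666666666557777655641631364146364314136222264316134436113646431626833622366366633667363676623767867663373667366630666666736663) i1)) (pk61o On In (pk61d (nat_lit 7) 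
    (nat_lit 0x11f7ec8b69c0127c78f2a874dc99fe7758e4a41815632499562b447a68dc90e570856ab5ef30b445fbd254785cb1c707bb5d296f27f6bd9b45de0bbd90f1ac0ae93d28eca9670aa0c3d87e5999b73dc132035f38d021e8d5c2b73e7408e1ec59fb05363fdbb7029dbe57bcc337aa2db10347281b037ed44283984c24c157c49df043ba0c3519dbe162be4207cfe0804c913a7072263069bd07f85c3f98e9f7976b8ca54e6c70c66c4cf1b5ca45d58068110a1113882d28142b48311ad4c80401181460980244ac14ad00900a5527100c00e00043a056842a242214ae035202502de77ec264fdd092afdba19cdfaf08da8f66180595847182e2a007712bbab0ca84cf31a2e6d2162640046a0002549d561adf109d) i1)))) (nat_lit 0) (nat_lit 315) List.nil) : List (ℕ × ℕ)))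
    = ?xq9003 → (List (ℕ × ℕ))) ?hq9003; (case hq9003 => (set_option maxRecDepth 1000000 in conv => lhs; reduce)); intro _; exact ?xq9003 (@OfNat.ofNat Nat) instOfNatNat : List (ℕ × ℕ))

/-- the numbers of the orbits of `S` on the 100 points, 4 bits for each point -/
noncomputable def orbN : ℕ := 0x3115122210125111131121411121111153122111114311114151113121423111111121311211112221130211111110111110

/-- the index of `w s w⁻¹` -/
noncomputable def wS : List ℕ :=
  (by
  refine (?fq9004 : (fun (On : (n : Nat) → OfNat Nat n → Nat) (In : (n : Nat) → OfNat Nat n) => ((pk61l (fun i1 => (pk61o On In (pk61d (nat_lit 7) 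
    (nat_lit 0x3ed8eb436c8cb00eb82ac06a80a822e09ba2af0bbe12805a21a907a6bfcaef0b7dacf48faa2e887ba0eca3f29feabe2bfa93925e69b827e2f753cd6ff43ed2c7330cecf232caeb6bbd8e37b9dcdb0b7c0d31b5c47641c927e51e96462108a4e3128e6a79b9c62699985a197845209580) i1))) (nat_lit 0) (nat_lit 128) List.nil) : List ℕ))
    = ?xq9004 → (List ℕ)) ?hq9004; (case hq9004 => (set_option maxRecDepth 1000000 in conv => lhs; reduce)); intro _; exact ?xq9004 (@OfNat.ofNat Nat) instOfNatNat : List ℕ)

/-- `(e, k)` with `e < 3`: `c j = w ^ e * s k`; `(3 + k, p)`: `c j * s k * (c j)⁻¹` does not fix the orbit of the point `p` -/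
noncomputable def nI : List (ℕ × ℕ) := [
  (0, 0), (35, 12), (35, 0), (35, 0), (35, 14), (1, 0), (2, 0), (35, 0),
  (35, 0), (35, 0), (35, 0), (35, 0), (35, 0), (35, 0), (35, 0)]

/-- a point which distinguishes the cosets `c i S` and `c j S` -/
noncomputable def ppt : List (List ℕ) :=
  (by
  refine (?fq9005 : ((pk61l (fun i1 => (pk61l (fun i2 => (pk61d (nat_lit 4) 
    (nat_lit 0xf11f100000000000000000c0c000f0011f1000000001010f1f00000000101f01f00000000f0f110100000000101ff100000000000000000e000c000000000e0000c000c000000000e0000000000000000cc0c0000000e000000000000cc0000000000000000c000e0000000000c00e0) i2)) (Nat.mul (nat_lit 15) i1) (Nat.mul (nat_lit 15) (Nat.succ i1)) List.nil)) (nat_lit 0) (nat_lit 15) List.nil) : List (List ℕ))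
    = ?xq9005 → (List (List ℕ))) ?hq9005; (case hq9005 => (set_option maxRecDepth 1000000 in conv => lhs; reduce)); intro _; exact ?xq9005 : List (List ℕ))

/-- the certificates for `r t * c j`, at the place `15 * t + j` -/
noncomputable def ct : List (ℕ × List ℕ) :=
  (by
  refine (?fq9006 : (fun (On : (n : Nat) → OfNat Nat n → Nat) (In : (n : Nat) → OfNat Nat n) => ((pk61l (fun i1 => (_root_.Prod.mk (pk61o On In (pk61d (nat_lit 2) 
    (nat_lit 0x49299960000900a9664198a6aa09522669446124a9a561040000a6686885a564294) i1)) ((fun g1 : Nat → Nat => pk61l (fun i2 => (pk61o On In (pk61d (nat_lit 7) 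
    (nat_lit 0x7001cc1a7360d389069df00a66f7a137be09bdefd5201aa9011548110056ae68857349ab9aa6eb41375a6fbad33a762253b16a9d8e26a22f351029a88057533eba9ad5d4cc500dc28068340376d0e4d2872574394e300a8180444c02f17088ab844c5c236e0702196028f1a3c2580fbc7055780203c2007020a1510217150c14839dd127156a2c61425e6458c75452d2ab2adfdba2c74527d4a5e187d3308df054597ad6a52d5e010204a15b9af958c11e655c8fc89abd2390c28f8a9a2a5178047c6afcd512529209ca98485279571926521481fc92aafbc0c613295cb03c44b62f2d1be55c5a81d0a8b9b7cada90d038096c27873b7e255d624806461c491a883108ced44403a00d54f99553a5c4ba269919ee474bc26dd8556ec23b7632a01ec284d61406b0a06c62719e2f2a8579530bcab68ccf420f99fe7ca01343ca067428f9572a080144516e01c8d8a9c7156a240cf98c00000966244e712074e00001d91520001f97036114042000590100e8003311802c8c06e440578080000000281181508a075010352300000) i2))) (g1 i1) (g1 (Nat.succ i1)) List.nil) fun j => (pk61d (nat_lit 9) 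
    (nat_lit 0xe2f0f75b8d7e9b499bc96270177b7596b953a8d3e9b4ba4d1e8b43a04f677399bcd6652f964a64d239047635188b44e210d854220b027fbf1f2f679bc1dcec74b99c6e06f36db2d669b419aca63b1182bf5e2e96eb4592bd5aa952a8d3e9c4ca59269046a290e7e3e1cce26f33190c4602f170b4582b150a24e259208a421f8f474371a0c85e2d1509c48210f06c3015090401c0b040140400) j)))) (nat_lit 0) (nat_lit 135) List.nil) : List (ℕ × List ℕ)))
    = ?xq9006 → (List (ℕ × List ℕ))) ?hq9006; (case hq9006 => (set_option maxRecDepth 1000000 in conv => lhs; reduce)); intro _; exact ?xq9006 (@OfNat.ofNat Nat) instOfNatNat : List (ℕ × List ℕ))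

end Cfsg.Agent.H29.PJ.Data
end

-- part: H29/PJ/ChkDef
section
/-!
# `J₂`: the double cosets of a Sylow 2-subgroup, the checks
-/

set_option autoImplicit false

namespace Cfsg.Agent.H29.PJ.Chk

open Cfsg.Agent.J2.HundredGens Cfsg.Agent.J2Sylow.SporSylow Cfsg.Agent.J2Sylow.Model Cfsg.Agent.SporadicA.PermTab
  Cfsg.Agent.H29.PJ.Data

def F : ℕ → F4
  | 0 => .o
  | 1 => .e
  | 2 => .w
  | _ => .u

/-- the element of the model with the number `k` -/
def el (k : ℕ) : T := ⟨F (k / 32), F (k / 8 % 4), F (k / 2 % 4), k % 2 == 1⟩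

noncomputable def s (k : ℕ) : List ℕ := sW.getD k []
def r (k : ℕ) : List ℕ := rW.getD k []
noncomputable def c (k : ℕ) : List ℕ := cW.getD k []
noncomputable def v (i : ℕ) : List ℕ := s (vI.getD i (0, 0)).2 ++ r (vI.getD i (0, 0)).1

/-- the number of the orbit of the point `p` -/
noncomputable def f (p : ℕ) : ℕ := Nat.land (Nat.shiftRight orbN (Nat.mul 4 p)) 15

/-- the code of the conjugate of `z` by the word `L` -/
def code (L : List ℕ) : ℕ :=
  Nat.add (Nat.mul (Nat.add (Nat.mul (run (L ++ zW ++ L.reverse) 0) 128) (run (L ++ zW ++ L.reverse) 1)) 128)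
    (run (L ++ zW ++ L.reverse) 2)

noncomputable def pt (i j : ℕ) : ℕ := (ppt.getD i []).getD j 0

/-- the product `g * s k₁ * g * s k₂ * …` -/
noncomputable def pr (g : List ℕ) : List ℕ → List ℕ
  | [] => []
  | k :: L => g ++ s k ++ pr g L

noncomputable def okK (t j : ℕ) : Bool :=
  match ct.getD (15 * t + j) (0, []) with
  | (0, a :: b :: _) => chk (wW ++ (r t ++ c j) ++ wW.reverse) (s a ++ (r t ++ c j) ++ s b)
  | (1, L) => chk (pr (r t ++ c j) L) wW
  | (2, L) => chk (pr (r t ++ c j) L) wW.reverse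
  | _ => false

noncomputable def okN (j : ℕ) : Bool :=
  match nI.getD j (0, 0) with
  | (0, k) => chk (c j) (s k)
  | (1, k) => chk (c j) (wW ++ s k)
  | (2, k) => chk (c j) (wW ++ wW ++ s k)
  | (e + 3, k) => Nat.blt k 100 && !Nat.beq (f (run (c j ++ s e ++ (c j).reverse) k)) (f k)

/-- the point `pt i j` distinguishes the cosets of `c i` and `c j` -/
noncomputable def okP (i j : ℕ) : Bool :=
  Nat.beq i j || (Nat.blt (pt i j) 100 &&
    !Nat.beq (f (run (c i).reverse (pt i j))) (f (run (c j).reverse (pt i j))))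

end Cfsg.Agent.H29.PJ.Chk
end
end

-- part: H29/PJ/JTwo
section
set_option linter.all false
open scoped Cfsg.Agent.FastGrp

-- part: H29/PJ/ChkS
section
set_option autoImplicit false

namespace Cfsg.Agent.H29.PJ.Chk

open Cfsg.Agent.J2.HundredGens Cfsg.Agent.J2Sylow.SporSylow Cfsg.Agent.J2Sylow.Model Cfsg.Agent.SporadicA.PermTab
  Cfsg.Agent.H29.PJ.Data

open Cfsg.Agent.SporadicA.J2Hundred in
private theorem fix4 {g : Equiv.Perm (Fin 100)} (hg : g ∈ G) (h0 : g x0 = x0) (h1 : g x1 = x1) (h2 : g x2 = x2)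
    (h3 : g x3 = x3) : g = 1 := by
  have k := card_ge_of_chk inA (inAll fun _ h => h) or0 cn0 (card_ge_of_chk psu0 (mem2 psu0 psu1) or1 cn1
    (card_ge_of_chk psv0 (mem2 psv0 psv1) or2 cn2 (card_ge_of_chk psw0 (mem1 psw0) or3 cn3 le_rfl)))
  rw [card_G] at k
  have hm : g ∈ ps (ps (ps (ps G x0) x1) x2) x3 := mem_ps.2 ⟨mem_ps.2 ⟨mem_ps.2 ⟨mem_ps.2 ⟨hg, h0⟩, h1⟩, h2⟩, h3⟩
  rwa [Subgroup.eq_bot_of_card_le (ps (ps (ps (ps G x0) x1) x2) x3) (by omega), Subgroup.mem_bot] at hm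

private noncomputable def run' (L : List ℕ) (j : ℕ) : ℕ :=
  List.rec j (fun k _ x => Nat.land (Nat.shiftRight (tab k) (Nat.mul 11 x)) 2047) L

private theorem run_eq : run = run' := by
  funext L j
  induction L with
  | nil => rfl
  | cons k L ih => exact congrArg (lk (tab k)) ih

/-- the words agree on a base -/
private noncomputable def chk4 (L M : List ℕ) : Bool :=
  band (band (Nat.beq (run' L 0) (run' M 0)) (Nat.beq (run' L 13) (run' M 13)))
    (band (Nat.beq (run' L 1) (run' M 1)) (Nat.beq (run' L 2) (run' M 2)))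

private theorem chk_eq : chk = chk4 := by
  funext L M
  delta chk4
  rw [← run_eq]
  refine Bool.eq_iff_iff.2 ⟨fun h => ?_, fun h => ?_⟩
  · have h1 := (allB_iff _ _).1 h
    exact (band_eq_true _ _).2 ⟨(band_eq_true _ _).2 ⟨h1 0 (by decide), h1 13 (by decide)⟩,
      (band_eq_true _ _).2 ⟨h1 1 (by decide), h1 2 (by decide)⟩⟩
  · obtain ⟨h1, h2⟩ := (band_eq_true _ _).1 h
    rw [band_eq_true] at h1 h2
    have h3 : ∀ i : Fin 100, Nat.beq (run L i) (run M i) = true → ((pw M)⁻¹ * pw L) i = i := fun i hi => by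
      rw [Equiv.Perm.mul_apply, Equiv.Perm.inv_eq_iff_eq]
      exact Fin.ext ((pw_val L i).trans ((Nat.eq_of_beq_eq_true hi).trans (pw_val M i).symm))
    have h4 := inv_mul_eq_one.1 (fix4 (mul_mem (inv_mem (pw_mem M)) (pw_mem L)) (h3 _ h1.1) (h3 _ h1.2) (h3 _ h2.1) (h3 _ h2.2))
    exact (allB_iff _ _).2 fun i hi => by
      rw [← pw_val L ⟨i, hi⟩, ← pw_val M ⟨i, hi⟩, h4]
      exact Nat.beq_refl _

theorem okS : allB (fun k => chk (s k) (wd (el k))) 128 = true := by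
  rw [chk_eq]
  decide +kernel

end Cfsg.Agent.H29.PJ.Chk
end

-- part: H29/PJ/ChkV
section
set_option autoImplicit false

namespace Cfsg.Agent.H29.PJ.Chk

open Cfsg.Agent.J2.HundredGens Cfsg.Agent.J2Sylow.SporSylow Cfsg.Agent.J2Sylow.Model Cfsg.Agent.SporadicA.PermTab
  Cfsg.Agent.H29.PJ.Data

private noncomputable def runL (L : List ℕ) : ℕ → ℕ :=
  List.rec (motive := fun _ => ℕ → ℕ) (fun j => j)
    (fun k _ ih j => ih (Nat.land (Nat.shiftRight (tab k) (Nat.mul 11 j)) 2047)) L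

private theorem run_app (L M : List ℕ) (j : ℕ) : run (L ++ M) j = run L (run M j) := List.foldr_append

private theorem run_rev (L : List ℕ) : ∀ j, run L.reverse j = runL L j := by
  induction L with
  | nil => intro j; rfl
  | cons k L ih => intro j; rw [List.reverse_cons, run_app, ih]; rfl

private noncomputable def cj (A B : List ℕ) (j : ℕ) : ℕ := run' A (run' B (run' zW (runL B (runL A j))))

private noncomputable def cv (e : ℕ × ℕ) : ℕ :=
  Prod.rec (motive := fun _ => ℕ) (fun a b =>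
    Nat.add (Nat.mul (Nat.add (Nat.mul (cj (s b) (r a) 0) 128) (cj (s b) (r a) 1)) 128) (cj (s b) (r a) 2)) e

private theorem cv_eq (e : ℕ × ℕ) : code (s e.2 ++ r e.1) = cv e := by
  have h : ∀ (A B : List ℕ) (j : ℕ), run (A ++ B ++ zW ++ (A ++ B).reverse) j = cj A B j := fun A B j => by
    rw [List.reverse_append, run_app, run_app, run_app, run_app, run_rev, run_rev, cj, ← run_eq]
  delta code
  rw [h, h, h]
  rfl

private noncomputable def srt (l : List (ℕ × ℕ)) : Bool :=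
  List.rec (motive := fun _ => Bool) true (fun e l' ih =>
    List.rec (motive := fun _ => Bool) true (fun e' _ _ => band (Nat.blt (cv e) (cv e')) ih) l') l

private theorem srt_ok (l : List (ℕ × ℕ)) (h : srt l = true) :
    ∀ i, i + 1 < l.length → Nat.blt (cv (l.getD i (0, 0))) (cv (l.getD (i + 1) (0, 0))) = true := by
  induction l with
  | nil => intro i hi; exact absurd hi (Nat.not_lt_zero _)
  | cons e l ih =>
    cases l with
    | nil => intro i hi; exact absurd (Nat.lt_of_succ_lt_succ hi) (Nat.not_lt_zero _)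
    | cons e' l =>
      have h1 : band (Nat.blt (cv e) (cv e')) (srt (e' :: l)) = true := h
      rw [band_eq_true] at h1
      intro i hi
      cases i with
      | zero => exact h1.1
      | succ i => exact ih h1.2 i (Nat.lt_of_succ_lt_succ hi)

theorem okV : allB (fun i => Nat.blt (code (v i)) (code (v (i + 1)))) 314 = true := by
  have h1 : srt vI = true := by decide +kernel
  have h2 : vI.length = 315 := by decide +kernel
  refine (allB_iff _ _).2 fun i hi => ?_
  have h3 := srt_ok vI h1 i (by omega)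
  rwa [← cv_eq, ← cv_eq] at h3

theorem okC : allB (fun j => chk (c j ++ zW) (zW ++ c j)) 15 = true := by
  rw [chk_eq]
  decide +kernel

theorem okF : allB (fun k => allB (fun p => Nat.beq (f (run (s k) p)) (f p)) 100) 128 = true := by
  rw [run_eq]
  decide +kernel

theorem okP' : allB (fun i => allB (okP i) 15) 15 = true := by
  delta okP
  rw [run_eq]
  decide +kernel

theorem okT : allB (fun i => Nat.blt (vI.getD i (0, 0)).1 9) 315 = true := by
  have h1 : (vI.all fun e => Nat.blt e.1 9) = true := by decide +kernel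
  refine (allB_iff _ _).2 fun i _ => ?_
  show Nat.blt (vI[i]?.getD (0, 0)).1 9 = true
  cases h : vI[i]? with
  | none => rfl
  | some e => exact List.all_eq_true.1 h1 e (List.mem_of_getElem? h)

theorem okN' : allB okN 15 = true := by
  delta okN
  rw [chk_eq]
  decide +kernel

end Cfsg.Agent.H29.PJ.Chk
end

-- part: H29/PJ/ChkW
section
set_option autoImplicit false

namespace Cfsg.Agent.H29.PJ.Chk

open Cfsg.Agent.J2.HundredGens Cfsg.Agent.J2Sylow.SporSylow Cfsg.Agent.J2Sylow.Model Cfsg.Agent.SporadicA.PermTab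
  Cfsg.Agent.H29.PJ.Data

theorem okW : allB (fun k => chk (wW ++ s k ++ wW.reverse) (s (wS.getD k 0))) 128 = true := by
  rw [chk_eq]
  decide +kernel

end Cfsg.Agent.H29.PJ.Chk
end

-- part: H29/PJ/ChkB
section
set_option autoImplicit false

namespace Cfsg.Agent.H29.PJ.Chk

open Cfsg.Agent.J2.HundredGens Cfsg.Agent.J2Sylow.SporSylow Cfsg.Agent.J2Sylow.Model Cfsg.Agent.SporadicA.PermTab
  Cfsg.Agent.H29.PJ.Data

theorem okK' (t j : ℕ) (ht : t < 9) (hj : j < 15) : okK t j = true := by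
  have h : allB (fun t => allB (okK t) 15) 9 = true := by
    delta okK
    rw [chk_eq]
    decide +kernel
  exact (allB_iff _ _).1 ((allB_iff _ _).1 h t ht) j hj

end Cfsg.Agent.H29.PJ.Chk
end

-- part: H29/PJ/JTwo
section
/-!
# The subgroups of odd index of `J₂` are pronormal
-/

set_option autoImplicit false

namespace Cfsg.Agent.H29.PJ.JTwo

open Subgroup Cfsg.Agent.H408.Pron
open Cfsg.Agent.J2.HundredGens Cfsg.Agent.J2Sylow.SporSylow Cfsg.Agent.J2Sylow.Model Cfsg.Agent.SporadicA.PermTab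
  Cfsg.Agent.H29.PJ.Data Cfsg.Agent.H29.PJ.Chk

/-- the group on 100 points -/
abbrev X : Type := ↥Cfsg.Agent.SporadicA.J2Hundred.G

theorem gw_mul (L M : List ℕ) : gw L * gw M = gw (L ++ M) := Subtype.ext (pw_mul L M)

theorem gw_one : gw [] = 1 := Subtype.ext pw_nil

theorem gw_inv (L : List ℕ) : (gw L)⁻¹ = gw L.reverse := Subtype.ext (pw_inv L)

theorem gw_eq {L M : List ℕ} (h : chk L M = true) : gw L = gw M := Subtype.ext (pw_eq h)

theorem gw_val (L : List ℕ) (i : Fin 100) : (((gw L : X) : Equiv.Perm (Fin 100)) i : ℕ) = run L i := pw_val L i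

theorem blt_lt {a b : ℕ} (h : Nat.blt a b = true) : a < b := by
  rwa [Nat.blt_eq] at h

theorem card_X : Nat.card X = 604800 := by
  obtain ⟨e⟩ := J2_iso card_J2
  rw [← Nat.card_congr e.toEquiv, card_J2]

instance : Finite X := Nat.finite_of_card_ne_zero (by rw [card_X]; norm_num)

theorem card_range : Nat.card hom.range = 128 := by
  rw [← Nat.card_congr (MonoidHom.ofInjective hom_injective).toEquiv, T.card_T]

/-- the Sylow 2-subgroup -/
noncomputable def S : Sylow 2 X := Sylow.ofCard hom.range (by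
  rw [card_range, card_X]
  have : (604800 : ℕ) = 2 ^ 7 * 4725 := by norm_num
  rw [this, Nat.factorization_mul (by norm_num) (by norm_num), Finsupp.add_apply,
    Nat.Prime.factorization_pow Nat.prime_two, Finsupp.single_eq_same,
    Nat.factorization_eq_zero_of_not_dvd (by norm_num)]
  norm_num)

theorem S_eq : (S : Subgroup X) = hom.range := rfl

theorem hom_eq (t : T) : (hom t : X) = gw (wd t) := Subtype.ext (hom_val t)

theorem s_el {k : ℕ} (hk : k < 128) : gw (s k) = hom (el k) := by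
  rw [hom_eq]
  exact gw_eq ((allB_iff _ _).1 okS k hk)

theorem s_ge {k : ℕ} (hk : 128 ≤ k) : s k = [] := by
  unfold s
  exact List.getD_eq_default _ _ hk

theorem s_mem (k : ℕ) : gw (s k) ∈ (S : Subgroup X) := by
  rcases lt_or_ge k 128 with h | h
  · rw [s_el h]; exact ⟨_, rfl⟩
  · rw [s_ge h, gw_one]; exact one_mem _

def num : F4 → ℕ
  | .o => 0
  | .e => 1
  | .w => 2
  | .u => 3

theorem el_num : ∀ (a b c : F4) (x : Bool), el (32 * num a + 8 * num b + 2 * num c + x.toNat) = ⟨a, b, c, x⟩ ∧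
    32 * num a + 8 * num b + 2 * num c + x.toNat < 128 := by decide +kernel

theorem mem_S {x : X} (hx : x ∈ (S : Subgroup X)) : ∃ k < 128, x = gw (s k) := by
  obtain ⟨⟨a, b, c, y⟩, rfl⟩ := hx
  exact ⟨_, (el_num a b c y).2, by rw [s_el (el_num a b c y).2, (el_num a b c y).1]⟩

/-- `S` fixes the numbers of its orbits -/
theorem f_mem {x : X} (hx : x ∈ (S : Subgroup X)) (p : Fin 100) :
    f ((x : Equiv.Perm (Fin 100)) p : ℕ) = f p := by
  obtain ⟨k, hk, rfl⟩ := mem_S hx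
  rw [gw_val]
  exact Nat.eq_of_beq_eq_true ((allB_iff _ _).1 ((allB_iff _ _).1 okF k hk) p p.2)

/-! ### the centre -/

def zT : T := ⟨.o, .o, .e, false⟩

theorem zT_comm : ∀ t : T, t * zT = zT * t := by
  rintro ⟨a, b, c, x⟩
  revert a b c x
  decide +kernel

theorem center_T : ∀ t : T, t * ⟨.e, .o, .o, false⟩ = ⟨.e, .o, .o, false⟩ * t →
    t * ⟨.w, .o, .o, false⟩ = ⟨.w, .o, .o, false⟩ * t → t * ⟨.o, .e, .o, false⟩ = ⟨.o, .e, .o, false⟩ * t →
    t * ⟨.o, .o, .o, true⟩ = ⟨.o, .o, .o, true⟩ * t → t = 1 ∨ t = zT := by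
  rintro ⟨a, b, c, x⟩
  revert a b c x
  decide +kernel

/-- the central involution -/
noncomputable def z : X := gw zW

theorem z_eq : z = hom zT := by
  rw [hom_eq]
  exact gw_eq (by decide +kernel)

theorem z_ne : z ≠ 1 := by
  rw [z_eq]
  intro h
  have := hom_injective (h.trans (map_one hom).symm)
  exact absurd this (by decide +kernel)

theorem z_comm : ∀ x ∈ (S : Subgroup X), x * z = z * x := by
  rintro _ ⟨t, rfl⟩
  rw [z_eq, ← map_mul, ← map_mul, zT_comm]

theorem norm_z : ∀ g ∈ Subgroup.normalizer ((S : Subgroup X) : Set X), g * z = z * g := by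
  intro g hg
  have hzS : z ∈ (S : Subgroup X) := by rw [z_eq]; exact ⟨_, rfl⟩
  obtain ⟨t, ht⟩ := (Subgroup.mem_normalizer_iff.1 hg z).1 hzS
  have hcomm : ∀ u : T, t * u = u * t := by
    intro u
    apply hom_injective
    have hu : g⁻¹ * hom u * g ∈ (S : Subgroup X) := by
      rw [Subgroup.mem_normalizer_iff'.1 hg]
      have : g * (g⁻¹ * hom u) = hom u := by group
      rw [this]
      exact ⟨u, rfl⟩
    have h1 := z_comm _ hu
    rw [map_mul, map_mul]
    change hom t = g * z * g⁻¹ at ht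
    rw [ht]
    calc g * z * g⁻¹ * hom u = g * (z * (g⁻¹ * hom u * g)) * g⁻¹ := by group
      _ = g * ((g⁻¹ * hom u * g) * z) * g⁻¹ := by rw [h1]
      _ = hom u * (g * z * g⁻¹) := by group
  change hom t = g * z * g⁻¹ at ht
  rcases center_T t (hcomm _) (hcomm _) (hcomm _) (hcomm _) with h | h
  · rw [h, map_one] at ht
    exfalso
    apply z_ne
    calc z = g⁻¹ * (g * z * g⁻¹) * g := by group
      _ = 1 := by rw [← ht]; group
  · rw [h, ← z_eq] at ht
    calc g * z = (g * z * g⁻¹) * g := by group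
      _ = z * g := by rw [← ht]

/-! ### the two lists -/

noncomputable def vv (i : Fin 315) : X := gw (v i)

noncomputable def cc (j : Fin 15) : X := gw (c j)

theorem cc_comm (j : Fin 15) : cc j * z = z * cc j := by
  unfold cc z
  rw [gw_mul, gw_mul]
  exact gw_eq ((allB_iff _ _).1 okC j j.2)

theorem code_lt {i : ℕ} (k : ℕ) (h : i + k < 314) : code (v i) < code (v (i + k + 1)) := by
  induction k with
  | zero =>
    have h1 := (allB_iff _ _).1 okV i h
    exact blt_lt h1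
  | succ k ih =>
    have h1 := (allB_iff _ _).1 okV (i + k + 1) h
    exact (ih (by omega)).trans (blt_lt h1)

theorem code_eq {i j : ℕ} (h : gw (v i ++ zW ++ (v i).reverse) = gw (v j ++ zW ++ (v j).reverse)) :
    code (v i) = code (v j) := by
  have h1 : ∀ p : Fin 100, run (v i ++ zW ++ (v i).reverse) p = run (v j ++ zW ++ (v j).reverse) p := by
    intro p
    rw [← gw_val, ← gw_val, h]
  have h2 := h1 0
  have h3 := h1 1
  have h4 := h1 2
  change run _ 0 = run _ 0 at h2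
  change run _ 1 = run _ 1 at h3
  change run _ 2 = run _ 2 at h4
  unfold code
  rw [h2, h3, h4]

theorem vv_inj (i j : Fin 315) (h : vv i * z * (vv i)⁻¹ = vv j * z * (vv j)⁻¹) : i = j := by
  unfold vv z at h
  rw [gw_inv, gw_inv, gw_mul, gw_mul, gw_mul, gw_mul] at h
  have h1 := code_eq h
  rcases lt_trichotomy (i : ℕ) (j : ℕ) with h2 | h2 | h2
  · have h3 := code_lt (i := i) ((j : ℕ) - i - 1) (by have := j.2; omega)
    rw [show (i : ℕ) + ((j : ℕ) - i - 1) + 1 = j by omega] at h3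
    omega
  · exact Fin.ext h2
  · have h3 := code_lt (i := j) ((i : ℕ) - j - 1) (by have := i.2; omega)
    rw [show (j : ℕ) + ((i : ℕ) - j - 1) + 1 = i by omega] at h3
    omega

theorem cc_inj (i j : Fin 15) (h : (cc i)⁻¹ * cc j ∈ (S : Subgroup X)) : i = j := by
  by_contra hij
  have h1 := (allB_iff _ _).1 ((allB_iff _ _).1 okP' i i.2) j j.2
  unfold okP at h1
  rw [Bool.or_eq_true] at h1
  rcases h1 with h1 | h1
  · exact hij (Fin.ext (Nat.eq_of_beq_eq_true h1))
  · rw [Bool.and_eq_true] at h1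
    obtain ⟨h1, h2⟩ := h1
    have h1' : pt i j < 100 := blt_lt h1
    set p : Fin 100 := ⟨pt i j, h1'⟩ with hp
    set x : X := (cc i)⁻¹ * cc j with hx
    have h3 : (cc j)⁻¹ = x⁻¹ * (cc i)⁻¹ := by rw [hx]; group
    have h4 : f ((((cc j)⁻¹ : X) : Equiv.Perm (Fin 100)) p : ℕ) =
        f ((((cc i)⁻¹ : X) : Equiv.Perm (Fin 100)) p : ℕ) := by
      rw [h3]
      exact f_mem (inv_mem h) _
    unfold cc at h4
    rw [gw_inv, gw_inv, gw_val, gw_val] at h4
    rw [Bool.not_eq_true'] at h2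
    have h5 : f (run (c i).reverse (pt i j)) ≠ f (run (c j).reverse (pt i j)) := by
      intro h6
      rw [h6, Nat.beq_refl] at h2
      exact absurd h2 (by decide)
    exact h5 h4.symm

/-! ### the element of order three in the normaliser -/

noncomputable def w : X := gw wW

theorem w_conj {x : X} (hx : x ∈ (S : Subgroup X)) : w * x * w⁻¹ ∈ (S : Subgroup X) := by
  obtain ⟨k, hk, rfl⟩ := mem_S hx
  unfold w
  rw [gw_inv, gw_mul, gw_mul, gw_eq ((allB_iff _ _).1 okW k hk)]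
  exact s_mem _

theorem w_norm : w ∈ Subgroup.normalizer ((S : Subgroup X) : Set X) :=
  Subgroup.mem_normalizer_fintype fun _ hx => w_conj hx

theorem cc_norm (j : Fin 15) (h : cc j ∈ Subgroup.normalizer ((S : Subgroup X) : Set X)) :
    cc j ∈ (S : Subgroup X) ⊔ zpowers w := by
  have hw : w ∈ (S : Subgroup X) ⊔ zpowers w := mem_sup_right (mem_zpowers w)
  have h1 := (allB_iff _ _).1 okN' j j.2
  unfold okN at h1
  split at h1
  · next k _ =>
    unfold cc
    rw [gw_eq h1]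
    exact mem_sup_left (s_mem k)
  · next k _ =>
    unfold cc
    rw [gw_eq h1, ← gw_mul]
    exact mul_mem hw (mem_sup_left (s_mem k))
  · next k _ =>
    unfold cc
    rw [gw_eq h1, ← gw_mul, ← gw_mul]
    exact mul_mem (mul_mem hw hw) (mem_sup_left (s_mem k))
  · next e k _ =>
    exfalso
    rw [Bool.and_eq_true] at h1
    obtain ⟨h1, h2⟩ := h1
    have h1' : k < 100 := blt_lt h1
    have h3 := f_mem ((Subgroup.mem_normalizer_iff.1 h _).1 (s_mem e)) ⟨k, h1'⟩
    unfold cc at h3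
    rw [gw_inv, gw_mul, gw_mul, gw_val] at h3
    change f (run (c j ++ s e ++ (c j).reverse) k) = f k at h3
    rw [h3, Nat.beq_refl] at h2
    exact absurd h2 (by decide)

theorem pr_mem {K : Subgroup X} (hK : (S : Subgroup X) ≤ K) {g : List ℕ} (hg : gw g ∈ K) (L : List ℕ) :
    gw (pr g L) ∈ K := by
  induction L with
  | nil => change gw [] ∈ K; rw [gw_one]; exact one_mem _
  | cons k L ih =>
    change gw (g ++ s k ++ pr g L) ∈ K
    rw [← gw_mul, ← gw_mul]
    exact mul_mem (mul_mem hg (hK (s_mem k))) ih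

theorem cert (t j : ℕ) (ht : t < 9) (hj : j < 15) :
    (∀ K : Subgroup X, (S : Subgroup X) ≤ K → gw (r t ++ c j) ∈ K → w ∈ K) ∨
      ∃ a ∈ (S : Subgroup X), ∃ b ∈ (S : Subgroup X), w * gw (r t ++ c j) * w⁻¹ = a * gw (r t ++ c j) * b := by
  have h1 := okK' t j ht hj
  unfold okK at h1
  split at h1
  · next a b _ _ =>
    right
    refine ⟨gw (s a), s_mem a, gw (s b), s_mem b, ?_⟩
    unfold w
    rw [gw_inv, gw_mul, gw_mul, gw_mul, gw_mul]
    exact gw_eq h1
  · next L _ =>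
    left
    intro K hK hg
    unfold w
    rw [← gw_eq h1]
    exact pr_mem hK hg L
  · next L _ =>
    left
    intro K hK hg
    have h2 : w⁻¹ ∈ K := by
      unfold w
      rw [gw_inv, ← gw_eq h1]
      exact pr_mem hK hg L
    exact (inv_mem_iff).1 h2
  · exact absurd h1 (by decide)

theorem po_X : PO X := by
  refine po_of_data S z w (m := 315) (n := 15) vv cc z_comm cc_comm vv_inj cc_inj ?_ norm_z cc_norm 12 ?_ w_norm ?_
  · have h1 := Subgroup.card_mul_index (S : Subgroup X)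
    rw [card_X, S_eq, card_range] at h1
    rw [S_eq]
    omega
  · unfold vv
    rw [← gw_one]
    exact gw_eq (by decide +kernel)
  · intro i j
    have ht : (vI.getD i (0, 0)).1 < 9 := blt_lt ((allB_iff _ _).1 okT i i.2)
    set a : X := gw (s (vI.getD i (0, 0)).2) with ha
    have haS : a ∈ (S : Subgroup X) := s_mem _
    have hv : vv i * cc j = a * gw (r (vI.getD i (0, 0)).1 ++ c j) := by
      unfold vv cc v
      rw [← gw_mul, ← gw_mul, mul_assoc]
    rw [hv]
    rcases cert (vI.getD i (0, 0)).1 j ht j.2 with h | ⟨x, hx, y, hy, hxy⟩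
    · left
      intro K hK hg
      refine h K hK ?_
      have := mul_mem (inv_mem (hK haS)) hg
      rwa [inv_mul_cancel_left] at this
    · right
      refine ⟨w * a * w⁻¹ * x * a⁻¹, mul_mem (mul_mem (w_conj haS) hx) (inv_mem haS), y, hy, ?_⟩
      calc w * (a * gw (r (vI.getD i (0, 0)).1 ++ c j)) * w⁻¹
          = w * a * w⁻¹ * (w * gw (r (vI.getD i (0, 0)).1 ++ c j) * w⁻¹) := by group
        _ = _ := by rw [hxy]; group

universe u

theorem po_j2 {K : Type u} [Group K] [Finite K] (h : Cfsg.Spor.IsoJ2 K) : PO K := by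
  obtain ⟨e⟩ := J2_iso card_J2
  obtain ⟨f⟩ := h
  exact PO.congr (f.trans e).symm po_X

end Cfsg.Agent.H29.PJ.JTwo
end

private theorem dce_2990422c31d5 : _root_.True := by
  try have : _root_.True := by simp only [_root_.Cfsg.Agent.H29.PJ.Chk.okK._sparseCasesOn_1.else_eq]
  exact _root_.True.intro
end

-- part: H158/PronNegA
section
prune_inst 0x101061041c00000000000000200000003000000000000000300001020006100080400800402009021026080028000068131000000200000000000400000400000082000000000000200006000004000000000000000000000000000000041000000000000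
set_option linter.all false
open scoped Cfsg.Agent.FastGrp

/-!
# Non-pronormal subgroups of odd index in symplectic groups (helper158)
-/

set_option autoImplicit false
set_option linter.unusedSectionVars false

namespace Cfsg.Agent.H158.PronNeg

open Quaternion Matrix Equiv
open Cfsg.Agent.H158.PronQ Cfsg.Agent.H158.PronMat Cfsg.Agent.H158.PronMono
open Cfsg.Agent.H158.PronFrame Cfsg.Agent.H158.PronAvg

/-! ### Arithmetic -/

section arith

theorem lucas (N a : ℕ) (ε δ : ℕ) (hε : ε < 2) (hδ : δ < 2) :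
    Odd (Nat.choose (2 * N + ε) (2 * a + δ)) ↔ Odd (Nat.choose ε δ * Nat.choose N a) := by
  have : Fact (Nat.Prime 2) := ⟨Nat.prime_two⟩
  have h := Choose.choose_modEq_choose_mod_mul_choose_div_nat (n := 2 * N + ε) (k := 2 * a + δ) (p := 2)
  have e1 : (2 * N + ε) % 2 = ε := by omega
  have e2 : (2 * a + δ) % 2 = δ := by omega
  have e3 : (2 * N + ε) / 2 = N := by omega
  have e4 : (2 * a + δ) / 2 = a := by omega
  rw [e1, e2, e3, e4] at h
  rw [Nat.odd_iff, Nat.odd_iff]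
  exact ⟨fun h1 => h ▸ h1, fun h1 => by rw [h]; exact h1⟩

theorem res (N : ℕ) : ((∃ a, Odd (Nat.choose N a) ∧ a % 3 = 1) ∨ N = 0 ∨ ∃ k, N = 2 ^ (2 * k + 1)) ∧
    ((∃ a, Odd (Nat.choose N a) ∧ a % 3 = 2) ∨ N = 0 ∨ ∃ k, N = 2 ^ (2 * k)) := by
  induction N using Nat.strong_induction_on with
  | _ N ih =>
    rcases Nat.eq_zero_or_pos N with h0 | h0
    · exact ⟨Or.inr (Or.inl h0), Or.inr (Or.inl h0)⟩
    obtain ⟨M, ε, hε, rfl⟩ : ∃ M ε, ε < 2 ∧ N = 2 * M + ε := ⟨N / 2, N % 2, by omega, by omega⟩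
    obtain ⟨ih1, ih2⟩ := ih M (by omega)
    have hdbl : ∀ a, Odd (Nat.choose M a) → Odd (Nat.choose (2 * M + ε) (2 * a)) := by
      intro a ha
      have h1 := (lucas M a ε 0 hε (by norm_num)).2
      rw [add_zero] at h1
      apply h1
      rw [Nat.choose_zero_right, one_mul]
      exact ha
    constructor
    · by_cases h1 : ε = 1
      · subst h1
        exact Or.inl ⟨1, by rw [Nat.choose_one_right]; exact ⟨M, rfl⟩, rfl⟩
      · have h1 : ε = 0 := by omega
        subst h1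
        rcases ih2 with ⟨a, ha, ha3⟩ | h | ⟨k, hk⟩
        · exact Or.inl ⟨2 * a, hdbl a ha, by omega⟩
        · omega
        · exact Or.inr (Or.inr ⟨k, by rw [hk, add_zero, pow_succ, mul_comm]⟩)
    · rcases ih1 with ⟨a, ha, ha3⟩ | h | ⟨k, hk⟩
      · exact Or.inl ⟨2 * a, hdbl a ha, by omega⟩
      · subst h
        have h1 : ε = 1 := by omega
        subst h1
        exact Or.inr (Or.inr ⟨0, by norm_num⟩)
      · by_cases h1 : ε = 1
        · subst h1
          refine Or.inl ⟨2 * M + 1, by rw [Nat.choose_self]; exact odd_one, ?_⟩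
          have h2 : 2 * M = 4 ^ (k + 1) := by
            rw [hk, show (4 : ℕ) = 2 ^ 2 from rfl, ← pow_mul, ← pow_succ']
            congr 1
          have h3 : 4 ^ (k + 1) % 3 = 1 := by
            rw [Nat.pow_mod]; simp
          rw [h2]
          omega
        · have h1 : ε = 0 := by omega
          subst h1
          exact Or.inr (Or.inr ⟨k + 1, by rw [hk, add_zero, ← pow_succ']; congr 1⟩)

theorem exists_three (N : ℕ) (h1 : 1 ≤ N) (h2 : ¬ ∃ m : ℕ, N = 2 ^ m) (h3 : ¬ ∃ m k : ℕ, N = 2 ^ m * (2 ^ (2 * k) + 1)) :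
    ∃ a, 1 ≤ a ∧ a ≤ N ∧ 3 ∣ a ∧ Odd (Nat.choose N a) := by
  induction N using Nat.strong_induction_on with
  | _ N ih =>
    obtain ⟨M, ε, hε, rfl⟩ : ∃ M ε, ε < 2 ∧ N = 2 * M + ε := ⟨N / 2, N % 2, by omega, by omega⟩
    have hle : ∀ {n a : ℕ}, Odd (Nat.choose n a) → a ≤ n := by
      intro n a h
      by_contra hcon
      rw [Nat.choose_eq_zero_of_lt (by omega)] at h
      exact absurd h (by decide)
    by_cases h4 : ε = 1
    · subst h4
      rcases (res M).1 with ⟨a, ha, ha3⟩ | h | ⟨k, hk⟩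
      · have h5 : Odd (Nat.choose (2 * M + 1) (2 * a + 1)) := by
          rw [lucas M a 1 1 (by norm_num) (by norm_num), Nat.choose_self, one_mul]
          exact ha
        exact ⟨2 * a + 1, by omega, hle h5, by omega, h5⟩
      · subst h
        exact absurd ⟨0, by norm_num⟩ h2
      · refine absurd ⟨0, k + 1, ?_⟩ h3
        rw [pow_zero, one_mul, hk, ← pow_succ']
        congr 1
    · have h4 : ε = 0 := by omega
      subst h4
      rw [add_zero] at *
      obtain ⟨a, ha1, ha2, ha3, ha4⟩ := ih M (by omega) (by omega) (by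
        rintro ⟨m, rfl⟩
        exact h2 ⟨m + 1, by rw [pow_succ, mul_comm]⟩) (by
        rintro ⟨m, k, rfl⟩
        exact h3 ⟨m + 1, k, by rw [pow_succ]; ring⟩)
      have h5 : Odd (Nat.choose (2 * M) (2 * a)) := by
        have h6 := (lucas M a 0 0 (by norm_num) (by norm_num)).2
        rw [add_zero, add_zero, Nat.choose_self, one_mul] at h6
        exact h6 ha4
      exact ⟨2 * a, by omega, by omega, by omega, h5⟩

end arith

/-! ### classes of entries -/

section cls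

variable {F : Type*} [Field F] (h2 : (2 : F) ≠ 0)

theorem om_norm : om h2 ∈ Subgroup.normalizer ((Q8 F : Subgroup (U F)) : Set (U F)) := by
  rw [Subgroup.mem_normalizer_iff]
  intro v
  refine ⟨fun hv => om_conj_mem h2 hv, fun hv => ?_⟩
  have h1 := om_conj_mem' h2 hv
  have h3 : (om h2)⁻¹ * (om h2 * v * (om h2)⁻¹) * om h2 = v := by group
  rwa [h3] at h1

theorem zpow_conj (k : ℤ) {v : U F} (hv : v ∈ Q8 F) : om h2 ^ k * v * (om h2 ^ k)⁻¹ ∈ Q8 F :=
  (Subgroup.mem_normalizer_iff.1 (zpow_mem (om_norm h2) k) v).1 hv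

/-- `u` lies in the coset `ω ^ c Q8` -/
def Cls (c : ℤ) (u : U F) : Prop := om h2 ^ (-c) * u ∈ Q8 F

theorem Cls.mul {c d : ℤ} {u v : U F} (hu : Cls h2 c u) (hv : Cls h2 d v) : Cls h2 (c + d) (u * v) := by
  have h1 : om h2 ^ (-(c + d)) * (u * v) =
      (om h2 ^ (-d) * (om h2 ^ (-c) * u) * (om h2 ^ (-d))⁻¹) * (om h2 ^ (-d) * v) := by
    have h3 : om h2 ^ (-(c + d)) = om h2 ^ (-d) * om h2 ^ (-c) := by rw [← _root_.zpow_add]; congr 1; ring
    rw [h3]
    group
  show om h2 ^ (-(c + d)) * (u * v) ∈ Q8 F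
  rw [h1]
  exact mul_mem (zpow_conj h2 _ hu) hv

theorem Cls.inv {c : ℤ} {u : U F} (hu : Cls h2 c u) : Cls h2 (-c) u⁻¹ := by
  have h1 : om h2 ^ (- -c) * u⁻¹ = om h2 ^ c * (om h2 ^ (-c) * u)⁻¹ * (om h2 ^ c)⁻¹ := by group
  show om h2 ^ (- -c) * u⁻¹ ∈ Q8 F
  rw [h1]
  exact zpow_conj h2 _ (inv_mem hu)

theorem Cls.of_mem {u : U F} (hu : u ∈ Q8 F) : Cls h2 0 u := by
  show om h2 ^ (-0 : ℤ) * u ∈ Q8 F
  rw [neg_zero, zpow_zero, one_mul]
  exact hu

theorem cls_om : Cls h2 1 (om h2) := by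
  show om h2 ^ (-1 : ℤ) * om h2 ∈ Q8 F
  rw [_root_.zpow_neg_one, inv_mul_cancel]
  exact one_mem _

theorem three_dvd_of_zpow {c : ℤ} (h : om h2 ^ c ∈ Q8 F) : (3 : ℤ) ∣ c := by
  by_contra hc
  have hcop : IsCoprime (3 : ℤ) c := (Int.prime_three.coprime_iff_not_dvd).2 hc
  obtain ⟨x, y, hxy⟩ := hcop
  apply om_notMem h2
  have h1 : om h2 = (om h2 ^ (3 : ℤ)) ^ x * (om h2 ^ c) ^ y := by
    rw [← _root_.zpow_mul, ← _root_.zpow_mul, ← _root_.zpow_add]
    have : 3 * x + c * y = 1 := by linear_combination hxy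
    rw [this, zpow_one]
  rw [h1]
  refine mul_mem (zpow_mem ?_ _) (zpow_mem h _)
  rw [show (3 : ℤ) = ((3 : ℕ) : ℤ) from rfl, zpow_natCast, om_cube]
  exact one_mem _

theorem Cls.unique {c d : ℤ} {u : U F} (hu : Cls h2 c u) (hv : Cls h2 d u) : (3 : ℤ) ∣ c - d := by
  apply three_dvd_of_zpow h2
  have h1 : om h2 ^ (c - d) = om h2 ^ c * ((om h2 ^ (-d) * u) * (om h2 ^ (-c) * u)⁻¹) * (om h2 ^ c)⁻¹ := by
    group
  rw [h1]
  exact zpow_conj h2 _ (mul_mem hv (inv_mem hu))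

theorem exists_cls (hns : ¬ IsSquare (2 : F)) {u : U F} (h : ∀ v ∈ Q8 F, u * v * u⁻¹ ∈ Q8 F) :
    ∃ c, Cls h2 c u := by
  rcases norm_Q8 h2 hns h with h1 | h1
  · exact ⟨0, Cls.of_mem h2 h1⟩
  · rcases half_mem h2 h1 with h3 | h3
    · exact ⟨1, by show om h2 ^ (-1 : ℤ) * u ∈ Q8 F; rw [_root_.zpow_neg_one]; exact h3⟩
    · exact ⟨-1, by show om h2 ^ (- -1 : ℤ) * u ∈ Q8 F; rw [neg_neg, zpow_one]; exact h3⟩

end cls

/-! ### the group `M` -/

section main

variable {F : Type*} [Field F] (h2 : (2 : F) ≠ 0) {n : Type*} [Fintype n] [DecidableEq n]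

theorem sum_perm {A : Finset n} {τ : Perm n} (h : ∀ b, τ b ∈ A ↔ b ∈ A) (c : n → ℤ) :
    ∑ b ∈ A, c (τ b) = ∑ b ∈ A, c b := by
  refine Finset.sum_bij (fun b _ => τ b) (fun b hb => (h b).2 hb) (fun a _ b _ hab => τ.injective hab)
    (fun b hb => ⟨τ⁻¹ b, ?_, by simp⟩) (fun b _ => rfl)
  rw [← h]
  simpa using hb

/-- monomial elements with entries in `Q8 ⟨ω⟩`, the classes of the entries in `A` having sum zero -/
def MM (A : Finset n) (T : Subgroup (Perm n)) (hTA : ∀ σ ∈ T, ∀ b, σ b ∈ A ↔ b ∈ A) : Subgroup (GU n F) where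
  carrier := {g | ∃ σ ∈ T, Mono g.1 σ ∧ ∃ (u : n → U F) (c : n → ℤ), (∀ b, (u b : ℍ[F]) = g.1 (σ b) b) ∧
    (∀ b, Cls h2 (c b) (u b)) ∧ (3 : ℤ) ∣ ∑ b ∈ A, c b}
  one_mem' := by
    refine ⟨1, one_mem _, Mono.one, fun _ => 1, fun _ => 0, fun b => ?_, fun b => Cls.of_mem h2 (one_mem _), by simp⟩
    show (1 : ℍ[F]) = (1 : Matrix n n ℍ[F]) b b
    rw [Matrix.one_apply_eq]
  mul_mem' := by
    rintro g h ⟨σ, hσ, hg, u, c, hu, hc, hs⟩ ⟨τ, hτ, hh, v, d, hv, hd, ht⟩
    refine ⟨σ * τ, mul_mem hσ hτ, hg.mul hh, fun b => u (τ b) * v b, fun b => c (τ b) + d b, fun b => ?_,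
      fun b => (hc (τ b)).mul h2 (hd b), ?_⟩
    · have h8 : (g * h).1 = g.1 * h.1 := rfl
      rw [h8, hh.mul_apply, ← hv, Perm.mul_apply, ← hu]
      rfl
    · rw [Finset.sum_add_distrib, sum_perm (hTA τ hτ)]
      exact dvd_add hs ht
  inv_mem' := by
    rintro g ⟨σ, hσ, hg, u, c, hu, hc, hs⟩
    refine ⟨σ⁻¹, inv_mem hσ, ?_, fun b => (u (σ⁻¹ b))⁻¹, fun b => -c (σ⁻¹ b), fun b => ?_,
      fun b => (hc (σ⁻¹ b)).inv h2, ?_⟩
    · rw [coe_inv_GU]; exact hg.star
    · rw [coe_inv_GU, Matrix.conjTranspose_apply, PronQ.coe_inv, hu]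
      simp
    · rw [Finset.sum_neg_distrib, sum_perm (hTA σ⁻¹ (inv_mem hσ))]
      exact (dvd_neg).2 hs

theorem SG_le_MM (A : Finset n) (T : Subgroup (Perm n)) (hTA : ∀ σ ∈ T, ∀ b, σ b ∈ A ↔ b ∈ A) :
    SG (Q8 F) T ≤ MM h2 A T hTA := by
  rintro g ⟨σ, hσ, hg, hent⟩
  choose w hw hwe using hent
  exact ⟨σ, hσ, hg, w, fun _ => 0, hwe, fun b => Cls.of_mem h2 (hw b), by simp⟩

include h2 in
/-- **The negative part**, in `GU n F`. -/
theorem not_pronormal (A : Finset n) (hA0 : A.Nonempty) (hA3 : 3 ∣ A.card)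
    (T : Subgroup (Perm n)) (hTA : ∀ σ ∈ T, ∀ b, σ b ∈ A ↔ b ∈ A) (hTt : ∀ a ∈ A, ∀ b ∈ A, ∃ τ ∈ T, τ a = b) :
    ¬ Cfsg.IsPronormal (SG (Q8 F) T) := by
  intro hpr
  obtain ⟨a₀, ha₀⟩ := hA0
  obtain ⟨v, hv⟩ : ∃ v : GU n F, v = Rj a₀ (om h2) := ⟨_, rfl⟩
  -- the entries of `v`
  have hvm : Mono v.1 1 := by rw [hv]; exact Rj_mono _ _
  have hvT : ∀ g : GU n F, g ∈ MM h2 A T hTA → v * g * v⁻¹ ∈ MM h2 A T hTA := by
    rintro g ⟨σ, hσ, hg, u, c, hu, hc, hs⟩
    have hvi : Mono (v⁻¹).1 1 := by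
      have := hvm.star
      rw [inv_one] at this
      rwa [← coe_inv_GU] at this
    refine ⟨σ, hσ, ?_, fun b => (if σ b = a₀ then om h2 else 1) * u b * (if b = a₀ then om h2 else 1)⁻¹,
      fun b => (if σ b = a₀ then 1 else 0) + c b + -(if b = a₀ then 1 else 0), fun b => ?_, fun b => ?_, ?_⟩
    · have := (hvm.mul hg).mul hvi
      rwa [one_mul, mul_one] at this
    · have h8 : (v * g * v⁻¹).1 = (v.1 * g.1) * (v⁻¹).1 := rfl
      rw [h8, hvi.mul_apply, Perm.one_apply, hg.mul_apply, coe_inv_GU, Matrix.conjTranspose_apply, hv, Rj_apply,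
        Rj_apply, if_pos rfl, if_pos rfl, ← hu]
      show ((if σ b = a₀ then om h2 else 1 : U F) : ℍ[F]) * u b * (((if b = a₀ then om h2 else 1)⁻¹ : U F) : ℍ[F]) = _
      rw [PronQ.coe_inv]
      by_cases h3 : σ b = a₀
      · by_cases h4 : b = a₀
        · rw [if_pos h3, if_pos h4, if_pos h3, if_pos h4]
        · rw [if_pos h3, if_neg h4, if_pos h3, if_neg h4]; rfl
      · by_cases h4 : b = a₀
        · rw [if_neg h3, if_pos h4, if_neg h3, if_pos h4]; rfl
        · rw [if_neg h3, if_neg h4, if_neg h3, if_neg h4]; rfl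
    · have key : ∀ P : Prop, [Decidable P] → Cls h2 (if P then 1 else 0) (if P then om h2 else 1) := by
        intro P _
        by_cases hP : P
        · rw [if_pos hP, if_pos hP]; exact cls_om h2
        · rw [if_neg hP, if_neg hP]; exact Cls.of_mem h2 (one_mem _)
      exact ((key (σ b = a₀)).mul h2 (hc b)).mul h2 ((key (b = a₀)).inv h2)
    · rw [Finset.sum_add_distrib, Finset.sum_add_distrib, Finset.sum_neg_distrib]
      have h3 : ∑ b ∈ A, (if σ b = a₀ then (1 : ℤ) else 0) = ∑ b ∈ A, (if b = a₀ then (1 : ℤ) else 0) :=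
        sum_perm (hTA σ hσ) (fun b => if b = a₀ then (1 : ℤ) else 0)
      rw [h3]
      have h4 : ∑ b ∈ A, (if b = a₀ then (1 : ℤ) else 0) + ∑ b ∈ A, c b + -∑ b ∈ A, (if b = a₀ then (1 : ℤ) else 0) =
          ∑ b ∈ A, c b := by ring
      rw [h4]
      exact hs
  obtain ⟨x, hx, hxe⟩ := hpr v
  have hxM : x ∈ MM h2 A T hTA := by
    have h3 : SG (Q8 F) T ⊔ (SG (Q8 F) T).map (MulAut.conj v).toMonoidHom ≤ MM h2 A T hTA := by
      refine sup_le (SG_le_MM h2 A T hTA) ?_
      rintro _ ⟨g, hg, rfl⟩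
      exact hvT g (SG_le_MM h2 A T hTA hg)
    exact h3 hx
  -- `y = v⁻¹ x` normalises
  obtain ⟨y, hy⟩ : ∃ y, y = v⁻¹ * x := ⟨_, rfl⟩
  have hxy : x = v * y := by rw [hy]; group
  have hyN : ∀ s ∈ SG (Q8 F) T, y * s * y⁻¹ ∈ SG (Q8 F) T := by
    intro s hs
    have h3 : x * s * x⁻¹ ∈ (SG (Q8 F) T).map (MulAut.conj x).toMonoidHom := ⟨s, hs, rfl⟩
    rw [← hxe] at h3
    obtain ⟨t, ht, hte⟩ := h3
    have h4 : v * t * v⁻¹ = x * s * x⁻¹ := hte
    have h5 : y * s * y⁻¹ = t := by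
      have h6 : v⁻¹ * (v * t * v⁻¹) * v = t := by group
      rw [← h6, h4, hxy]; group
    rw [h5]; exact ht
  obtain ⟨σ, hσ, hxm, u, c, hu, hc, hs⟩ := hxM
  have hvi : Mono (v⁻¹).1 1 := by
    have := hvm.star
    rw [inv_one] at this
    rwa [← coe_inv_GU] at this
  have hym : Mono y.1 σ := by
    have := hvi.mul hxm
    rw [one_mul] at this
    rw [hy]
    exact this
  choose w hwe using fun b => hym.entry b
  have hcw : ∀ b, Cls h2 (c b - (if σ b = a₀ then 1 else 0)) (w b) := by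
    intro b
    have h3 : u b = (if σ b = a₀ then om h2 else 1) * w b := by
      apply Subtype.ext
      rw [hu, hxy]
      have h8 : (v * y).1 = v.1 * y.1 := rfl
      rw [h8, hym.mul_apply, hv, Rj_apply, if_pos rfl, ← hwe]
      by_cases h4 : σ b = a₀
      · rw [if_pos h4, if_pos h4]; rfl
      · rw [if_neg h4, if_neg h4]; rfl
    have h4 : w b = (if σ b = a₀ then om h2 else 1)⁻¹ * u b := by rw [h3]; group
    have key : Cls h2 (if σ b = a₀ then 1 else 0) (if σ b = a₀ then om h2 else 1) := by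
      by_cases hP : σ b = a₀
      · rw [if_pos hP, if_pos hP]; exact cls_om h2
      · rw [if_neg hP, if_neg hP]; exact Cls.of_mem h2 (one_mem _)
    rw [h4]
    have h5 := (key.inv h2).mul h2 (hc b)
    have h6 : -(if σ b = a₀ then (1 : ℤ) else 0) + c b = c b - (if σ b = a₀ then 1 else 0) := by ring
    rwa [h6] at h5
  -- the classes of the entries of `y` are constant on `A`
  have hyi : Mono (y⁻¹).1 σ⁻¹ := by
    have := hym.star
    rwa [← coe_inv_GU] at this
  have hstep : ∀ τ ∈ T, ∀ b, w (τ b) * (w b)⁻¹ ∈ Q8 F := by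
    intro τ hτ b
    obtain ⟨ρ, hρ, hρm, hρe⟩ := hyN _ (PM_mem (F := F) (Q8 F) hτ)
    have h4 : Mono (y * PM τ * y⁻¹).1 (σ * τ * σ⁻¹) := (hym.mul (PM_mono τ)).mul hyi
    have h5 := hρm.unique h4
    subst h5
    obtain ⟨q, hq, hqe⟩ := hρe (σ b)
    have h6 : (σ * τ * σ⁻¹) (σ b) = σ (τ b) := by simp
    rw [h6] at hqe
    have h7 : (y * PM τ * y⁻¹).1 (σ (τ b)) (σ b) = y.1 (σ (τ b)) (τ b) * star (y.1 (σ b) b) := by
      have h8 : (y * PM τ * y⁻¹).1 = (y.1 * (PM τ : GU n F).1) * (y⁻¹).1 := rfl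
      rw [h8, hyi.mul_apply, coe_inv_GU, Matrix.conjTranspose_apply, (PM_mono τ).mul_apply]
      have h9 : σ⁻¹ (σ b) = b := by simp
      rw [h9, PM_apply, if_pos rfl, mul_one]
    rw [h7, ← hwe, ← hwe, ← PronQ.coe_inv] at hqe
    have h10 : q = w (τ b) * (w b)⁻¹ := Subtype.ext hqe
    rw [← h10]; exact hq
  have hconst : ∀ b ∈ A, (3 : ℤ) ∣ (c b - (if σ b = a₀ then 1 else 0)) - (c a₀ - (if σ a₀ = a₀ then 1 else 0)) := by
    intro b hb
    obtain ⟨τ, hτ, hτb⟩ := hTt a₀ ha₀ b hb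
    have h3 := hstep τ hτ a₀
    rw [hτb] at h3
    have h4 := (Cls.of_mem h2 h3).mul h2 (hcw a₀)
    have h5 : w b * (w a₀)⁻¹ * w a₀ = w b := by group
    rw [h5, zero_add] at h4
    exact Cls.unique h2 (hcw b) h4
  have hsum : (3 : ℤ) ∣ ∑ b ∈ A, (c b - (if σ b = a₀ then (1 : ℤ) else 0)) := by
    have h3 : ∑ b ∈ A, (c b - (if σ b = a₀ then (1 : ℤ) else 0)) =
        ∑ b ∈ A, ((c b - (if σ b = a₀ then (1 : ℤ) else 0)) - (c a₀ - (if σ a₀ = a₀ then 1 else 0))) +
          A.card * (c a₀ - (if σ a₀ = a₀ then 1 else 0)) := by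
      rw [Finset.sum_sub_distrib (s := A) (f := fun b => (c b - (if σ b = a₀ then (1 : ℤ) else 0))), Finset.sum_const, nsmul_eq_mul]
      ring
    rw [h3]
    refine dvd_add (Finset.dvd_sum hconst) (Dvd.dvd.mul_right ?_ _)
    exact_mod_cast hA3
  rw [Finset.sum_sub_distrib] at hsum
  have h3 : ∑ b ∈ A, (if σ b = a₀ then (1 : ℤ) else 0) = 1 := by
    rw [sum_perm (hTA σ hσ) (fun b => if b = a₀ then (1 : ℤ) else 0), Finset.sum_ite_eq' A a₀, if_pos ha₀]
  rw [h3] at hsum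
  have h4 := dvd_sub hs hsum
  rw [sub_sub_cancel] at h4
  exact absurd h4 (by decide)

end main

end Cfsg.Agent.H158.PronNeg
end

-- part: H158/PronNeg
section
prune_inst 0x103031041400000000180000200004203000000000088000514003060602904020400821802009021022204408000068110000000210000000000000011c008000000000c089ac00300000000004000000000000000000000000000000041000000000000
set_option linter.all false
open scoped Cfsg.Agent.FastGrp

/-!
# S2527: subgroups of odd index of `PSp (2n, q)`, `q = ±3 mod 8`, which are not pronormal (helper158)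

`not_po` : if `n` is neither `2 ^ m` nor `2 ^ m (2 ^ (2 k) + 1)` then `PSp n F` has a subgroup of odd
index which is not pronormal.
-/

set_option autoImplicit false
set_option linter.unusedSectionVars false

namespace Cfsg.Agent.H158.PronNeg

open Quaternion Matrix Equiv
open Cfsg.Agent.H158.PronQ Cfsg.Agent.H158.PronMat Cfsg.Agent.H158.PronMono
open Cfsg.Agent.H158.PronFrame Cfsg.Agent.H158.PronAvg

/-! ### Sylow 2-subgroups, intransitive case -/

section sylow

variable {F : Type*} [Field F] (h2 : (2 : F) ≠ 0) {n : Type*} [Fintype n] [DecidableEq n]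

theorem mem_of_cls {c : ℤ} (hc : (3 : ℤ) ∣ c) {u : U F} (hu : Cls h2 c u) : u ∈ Q8 F := by
  obtain ⟨d, rfl⟩ := hc
  have h1 : om h2 ^ (-(3 * d)) = 1 := by
    have h3 : om h2 ^ (3 : ℤ) = 1 := by rw [show (3 : ℤ) = ((3 : ℕ) : ℤ) from rfl, zpow_natCast, om_cube]
    rw [_root_.zpow_neg, _root_.zpow_mul, h3, _root_.one_zpow, inv_one]
  have h4 : om h2 ^ (-(3 * d)) * u ∈ Q8 F := hu
  rwa [h1, one_mul] at h4

include h2 in
theorem exists_sylow_SG' [Finite F] (hns : ¬ IsSquare (2 : F)) (T : Sylow 2 (Perm n)) :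
    ∃ S : Sylow 2 (GU n F), (S : Subgroup (GU n F)) = SG (Q8 F) (T : Subgroup (Perm n)) := by
  apply exists_sylow_eq _ (SG_isPGroup Q8_isPGroup T.isPGroup')
  rintro g hg ⟨k, hk⟩
  have hgn : g ∈ Subgroup.normalizer
      ((SG (Q8 F) (T : Subgroup (Perm n)) : Subgroup (GU n F)) : Set (GU n F)) := by
    have hginv : ∀ s ∈ SG (Q8 F) (T : Subgroup (Perm n)), g⁻¹ * s * g ∈ SG (Q8 F)
        (T : Subgroup (Perm n)) := by
      have h3 : ∀ j : ℕ, ∀ s ∈ SG (Q8 F) (T : Subgroup (Perm n)),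
          g ^ j * s * (g ^ j)⁻¹ ∈ SG (Q8 F) (T : Subgroup (Perm n)) := by
        intro j
        induction j with
        | zero => intro s hs; simpa using hs
        | succ j ih =>
          intro s hs
          have h4 : g ^ (j + 1) * s * (g ^ (j + 1))⁻¹ = g ^ j * (g * s * g⁻¹) * (g ^ j)⁻¹ := by
            rw [pow_succ]; group
          rw [h4]
          exact ih _ (hg s hs)
      intro s hs
      have h5 := h3 (2 ^ k - 1) s hs
      have h6 : g ^ (2 ^ k - 1) = g⁻¹ := by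
        rw [eq_inv_iff_mul_eq_one, ← pow_succ, Nat.sub_add_cancel Nat.one_le_two_pow, hk]
      rw [h6, inv_inv] at h5
      exact h5
    rw [Subgroup.mem_normalizer_iff]
    intro s
    refine ⟨fun h => hg s h, fun h => ?_⟩
    have h3 := hginv _ h
    have h4 : g⁻¹ * (g * s * g⁻¹) * g = s := by group
    rwa [h4] at h3
  obtain ⟨σ, hσT, hσ, hu⟩ := norm_mono h2 T ⟨uI, uI_mem, by
    apply Subtype.ext; show (qi : ℍ[F]) * qi = -1; exact qi_mul_qi⟩ hgn
  choose u hue using fun b => hσ.entry b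
  have hun : ∀ b, ∀ w ∈ Q8 F, u b * w * (u b)⁻¹ ∈ Q8 F := fun b => hu b (u b) (hue b)
  choose c hc using fun b => exists_cls h2 hns (hun b)
  have hstep : ∀ τ ∈ (T : Subgroup (Perm n)), ∀ b, u (τ b) * (u b)⁻¹ ∈ Q8 F := by
    intro τ hτ b
    have h3 := (Subgroup.mem_normalizer_iff.1 hgn _).1 (PM_mem (F := F) (Q8 F) hτ)
    obtain ⟨ρ, hρ, hρm, hρe⟩ := h3
    have hσi : Mono (g⁻¹).1 σ⁻¹ := by
      have := hσ.star
      rwa [← coe_inv_GU] at this
    have h4 : Mono (g * PM τ * g⁻¹).1 (σ * τ * σ⁻¹) := (hσ.mul (PM_mono τ)).mul hσi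
    have h5 := hρm.unique h4
    subst h5
    obtain ⟨w, hw, hwe⟩ := hρe (σ b)
    have h6 : (σ * τ * σ⁻¹) (σ b) = σ (τ b) := by simp
    rw [h6] at hwe
    have h7 : (g * PM τ * g⁻¹).1 (σ (τ b)) (σ b) = g.1 (σ (τ b)) (τ b) * star (g.1 (σ b) b) := by
      have h8 : (g * PM τ * g⁻¹).1 = (g.1 * (PM τ : GU n F).1) * (g⁻¹).1 := rfl
      rw [h8, hσi.mul_apply, coe_inv_GU, Matrix.conjTranspose_apply, (PM_mono τ).mul_apply]
      have h9 : σ⁻¹ (σ b) = b := by simp
      rw [h9, PM_apply, if_pos rfl, mul_one]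
    rw [h7, ← hue, ← hue, ← PronQ.coe_inv] at hwe
    have h10 : w = u (τ b) * (u b)⁻¹ := Subtype.ext hwe
    rw [← h10]; exact hw
  have hcT : ∀ τ ∈ (T : Subgroup (Perm n)), ∀ b, (3 : ℤ) ∣ c (τ b) - c b := by
    intro τ hτ b
    have h3 := (Cls.of_mem h2 (hstep τ hτ b)).mul h2 (hc b)
    rw [zero_add, inv_mul_cancel_right] at h3
    exact Cls.unique h2 (hc (τ b)) h3
  have h3 : g ^ 3 ∈ SG (Q8 F) (T : Subgroup (Perm n)) := by
    have hm2 : Mono (g * g).1 (σ * σ) := hσ.mul hσ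
    have hm3 : Mono (g * (g * g)).1 (σ * (σ * σ)) := hσ.mul hm2
    have e3 : g ^ 3 = g * (g * g) := by rw [pow_succ, pow_two, mul_assoc]
    rw [e3]
    refine ⟨σ * (σ * σ), mul_mem hσT (mul_mem hσT hσT), hm3, fun b => ⟨u (σ (σ b)) * (u (σ b) * u b), ?_, ?_⟩⟩
    · refine mem_of_cls h2 (c := c (σ (σ b)) + (c (σ b) + c b)) ?_ ((hc _).mul h2 ((hc _).mul h2 (hc b)))
      have h5 := hcT σ hσT (σ b)
      have h6 := hcT σ hσT b
      have h7 : c (σ (σ b)) + (c (σ b) + c b) = (c (σ (σ b)) - c (σ b)) + 2 * (c (σ b) - c b) + 3 * c b := by ring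
      rw [h7]
      exact dvd_add (dvd_add h5 (Dvd.dvd.mul_left h6 _)) (Dvd.intro _ rfl)
    · have h8 : (g * (g * g)).1 = g.1 * (g.1 * g.1) := rfl
      rw [h8, (show Mono (g.1 * g.1) (σ * σ) from hm2).mul_apply, hσ.mul_apply]
      show _ = g.1 (σ (σ (σ b))) (σ (σ b)) * (g.1 (σ (σ b)) (σ b) * g.1 (σ b) b)
      rw [← hue, ← hue, ← hue]
      rfl
  have hcop : Nat.Coprime 3 (2 ^ k) := Nat.Coprime.pow_right k (by norm_num)
  exact mem_of_pow_coprime _ hcop h3 (by rw [hk]; exact one_mem _)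

theorem SG_mono {W : Subgroup (U F)} {T T' : Subgroup (Perm n)} (h : T ≤ T') : SG W T ≤ SG W T' := by
  rintro g ⟨σ, hσ, hg, hent⟩
  exact ⟨σ, h hσ, hg, hent⟩

include h2 in
theorem odd_index_SG [Finite F] (hns : ¬ IsSquare (2 : F)) {T : Subgroup (Perm n)} (hT : Odd T.index) :
    Odd (SG (Q8 F) T : Subgroup (GU n F)).index := by
  obtain ⟨T', hT'⟩ := Cfsg.Agent.H158.PronProd.exists_sylow_le' hT
  obtain ⟨S, hS⟩ := exists_sylow_SG' (h2 := h2) hns T'
  apply Cfsg.Agent.H158.PronProd.odd_index_of_sylow_le S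
  rw [hS]
  exact SG_mono hT'

end sylow

/-! ### the stabilizer of a set -/

section stab

variable {n : Type*} [Fintype n] [DecidableEq n]

/-- the stabilizer of `A` -/
def StabA (A : Finset n) : Subgroup (Perm n) where
  carrier := {σ | ∀ b, σ b ∈ A ↔ b ∈ A}
  one_mem' := fun b => Iff.rfl
  mul_mem' := fun {σ τ} hσ hτ b => by rw [Perm.mul_apply, hσ, hτ]
  inv_mem' := fun {σ} hσ b => by
    have := hσ (σ⁻¹ b)
    rw [show σ (σ⁻¹ b) = b by simp] at this
    exact this.symm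

theorem stabA_trans (A : Finset n) : ∀ a ∈ A, ∀ b ∈ A, ∃ τ ∈ StabA A, τ a = b := by
  intro a ha b hb
  refine ⟨_root_.Equiv.swap a b, fun c => ?_, swap_apply_left a b⟩
  by_cases h1 : c = a
  · subst h1
    rw [swap_apply_left]; exact ⟨fun _ => ha, fun _ => hb⟩
  · by_cases h3 : c = b
    · subst h3
      rw [swap_apply_right]; exact ⟨fun _ => hb, fun _ => ha⟩
    · rw [swap_apply_of_ne_of_ne h1 h3]

open scoped Pointwise in
theorem index_stabA (A : Finset n) : (StabA A).index = (Fintype.card n).choose A.card := by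
  have h1 : StabA A = MulAction.stabilizer (Perm n) A := by
    ext σ
    rw [MulAction.mem_stabilizer_iff]
    constructor
    · intro h
      apply Finset.eq_of_subset_of_card_le
      · intro x hx
        obtain ⟨y, hy, rfl⟩ := Finset.mem_smul_finset.1 hx
        exact (h y).2 hy
      · rw [Finset.card_smul_finset]
    · intro h b
      have h3 : σ • b ∈ σ • A ↔ b ∈ A := Finset.smul_mem_smul_finset_iff σ
      rw [h] at h3
      exact h3
  rw [h1, MulAction.index_stabilizer]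
  have h3 : MulAction.orbit (Perm n) A = ((Finset.powersetCard A.card (Finset.univ : Finset n) : Finset (Finset n)) : Set (Finset n)) := by
    ext B
    rw [Finset.mem_coe, Finset.mem_powersetCard]
    constructor
    · rintro ⟨σ, rfl⟩
      exact ⟨Finset.subset_univ _, Finset.card_smul_finset σ A⟩
    · rintro ⟨-, hB⟩
      obtain ⟨e⟩ : Nonempty ({x // x ∈ A} ≃ {x // x ∈ B}) := by
        rw [← Fintype.card_eq]
        rw [Fintype.card_coe, Fintype.card_coe, hB]
      refine ⟨e.extendSubtype, ?_⟩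
      apply Finset.eq_of_subset_of_card_le
      · intro x hx
        obtain ⟨y, hy, rfl⟩ := Finset.mem_smul_finset.1 hx
        exact e.extendSubtype_mem y hy
      · show B.card ≤ (e.extendSubtype • A).card
        rw [Finset.card_smul_finset, hB]
  rw [h3, Set.ncard_coe_finset, Finset.card_powersetCard, Finset.card_univ]

end stab

/-! ### passing to a quotient -/

section quot

variable {G G' : Type*} [Group G] [Group G']

theorem isPronormal_of_map (f : G →* G') (H : Subgroup G) (hk : f.ker ≤ H) (h : Cfsg.IsPronormal (H.map f)) :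
    Cfsg.IsPronormal H := by
  intro g
  obtain ⟨x', hx', hxe⟩ := h (f g)
  have key : ∀ y : G, (H.map f).map (MulAut.conj (f y)).toMonoidHom = (H.map (MulAut.conj y).toMonoidHom).map f := by
    intro y
    ext z
    constructor
    · rintro ⟨_, ⟨w, hw, rfl⟩, rfl⟩
      exact ⟨_, ⟨w, hw, rfl⟩, by simp only [_root_.MulEquiv.toMonoidHom_eq_coe, _root_.MonoidHom.coe_coe, _root_.MulAut.conj_apply, _root_.map_mul, _root_.map_inv]⟩
    · rintro ⟨_, ⟨w, hw, rfl⟩, rfl⟩
      exact ⟨_, ⟨w, hw, rfl⟩, by simp only [_root_.MulEquiv.toMonoidHom_eq_coe, _root_.MonoidHom.coe_coe, _root_.MulAut.conj_apply, _root_.map_mul, _root_.map_inv]⟩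
  rw [key, ← Subgroup.map_sup] at hx'
  obtain ⟨x, hx, rfl⟩ := hx'
  refine ⟨x, hx, ?_⟩
  rw [key, key] at hxe
  have hk' : ∀ y : G, f.ker ≤ H.map (MulAut.conj y).toMonoidHom := by
    intro y z hz
    rw [Cfsg.Agent.H158.PronProd.mem_map_conj]
    apply hk
    rw [MonoidHom.mem_ker] at hz ⊢
    rw [map_mul, map_mul, hz, map_inv, mul_one, inv_mul_cancel]
  have h3 := congrArg (Subgroup.comap f) hxe
  rwa [Subgroup.comap_map_eq_self (hk' g), Subgroup.comap_map_eq_self (hk' x)] at h3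

end quot


/-! ### the result -/

section final

variable {F : Type*} [Field F] {n : Type*} [Fintype n] [DecidableEq n]

theorem mem_SG_of_comm (h2 : (2 : F) ≠ 0) {z : GU n F} (hz : ∀ g : GU n F, z * g = g * z) (T : Subgroup (Perm n)) :
    z ∈ SG (Q8 F) T := by
  have hd : ∀ a b : n, a ≠ b → z.1 a b = 0 := by
    intro a b hab
    have h1 := congrArg (fun g : GU n F => g.1 a b) (hz (Rj b nu))
    have h3 : (z * Rj b nu).1 a b = z.1 a b * (-1) := by
      have h8 : (z * Rj b nu).1 = z.1 * (Rj b nu : GU n F).1 := rfl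
      rw [h8, (Rj_mono b nu).mul_apply, Perm.one_apply, Rj_apply, if_pos rfl, if_pos rfl, coe_nu]
    have h4 : (Rj b nu * z).1 a b = z.1 a b := by
      have h8 : (Rj b nu * z).1 = (Rj b nu : GU n F).1 * z.1 := rfl
      rw [h8, Matrix.mul_apply, Finset.sum_eq_single a]
      · rw [Rj_apply, if_pos rfl, if_neg hab, one_mul]
      · intro c _ hc
        rw [Rj_apply, if_neg (fun h => hc h.symm), zero_mul]
      · intro h; exact absurd (Finset.mem_univ _) h
    have h5 : z.1 a b * (-1) = z.1 a b := by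
      rw [← h3, ← h4]; exact h1
    apply two_ne h2
    have h6 : z.1 a b + z.1 a b = 0 := by
      nth_rewrite 1 [← h5]
      simp
    rw [two_mul]; exact h6
  have hm : Mono z.1 1 := fun a b hab => hd a b hab
  refine ⟨1, one_mem _, hm, fun b => ?_⟩
  obtain ⟨u, hu⟩ := hm.entry b
  refine ⟨u, ?_, hu⟩
  rw [Perm.one_apply] at hu
  have hc : ∀ w : U F, (u : ℍ[F]) * w = w * u := by
    intro w
    have h1 := congrArg (fun g : GU n F => g.1 b b) (hz (Rj b w))
    have h3 : (z * Rj b w).1 b b = z.1 b b * w := by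
      have h8 : (z * Rj b w).1 = z.1 * (Rj b w : GU n F).1 := rfl
      rw [h8, (Rj_mono b w).mul_apply, Perm.one_apply, Rj_apply, if_pos rfl, if_pos rfl]
    have h4 : (Rj b w * z).1 b b = w * z.1 b b := by
      have h8 : (Rj b w * z).1 = (Rj b w : GU n F).1 * z.1 := rfl
      rw [h8, hm.mul_apply, Perm.one_apply, Rj_apply, if_pos rfl, if_pos rfl]
    rw [hu, ← h3, ← h4]; exact h1
  have h1 : (u : ℍ[F]) = ((u : ℍ[F]).re : ℍ[F]) := eq_coe_of_comm h2 (hc uI) (hc uJ)
  have h3 : (u : ℍ[F]).re * (u : ℍ[F]).re = 1 := by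
    have h4 : (u : ℍ[F]) * star (u : ℍ[F]) = 1 := Unitary.coe_mul_star_self u
    rw [h1] at h4
    have h5 := congrArg QuaternionAlgebra.re h4
    simpa only [_root_.Quaternion.star_coe, _root_.Quaternion.re_mul, _root_.Quaternion.re_coe, _root_.Quaternion.imI_coe, _root_.MulZeroClass.mul_zero, _root_.sub_zero, _root_.Quaternion.imJ_coe, _root_.Quaternion.imK_coe, _root_.Quaternion.re_one] using h5
  rw [mem_Q8, h1]
  rcases mul_self_eq_one_iff.1 h3 with h4 | h4
  · rw [h4]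
    exact Or.inl (by ext <;> simp)
  · rw [h4]
    exact Or.inr (Or.inl (by ext <;> simp))

end final

theorem not_po {F : Type*} [Field F] [Fintype F] (h8 : Fintype.card F % 8 = 3 ∨ Fintype.card F % 8 = 5) {n : ℕ}
    (hn : 1 ≤ n) (h1 : ¬ ∃ m : ℕ, n = 2 ^ m) (h3 : ¬ ∃ m k : ℕ, n = 2 ^ m * (2 ^ (2 * k) + 1)) :
    ¬ Cfsg.Agent.H408.Pron.PO (Cfsg.PSp n F) := by
  intro hPO
  have hns : ¬ IsSquare (2 : F) := by
    rw [FiniteField.isSquare_two_iff]
    omega
  have h2 : (2 : F) ≠ 0 := fun h => hns (h ▸ IsSquare.zero)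
  obtain ⟨a, ha1, ha2, ha3, hodd⟩ := exists_three n hn h1 h3
  obtain ⟨A, hA⟩ : ∃ A : Finset (Fin n), A.card = a := by
    obtain ⟨A, -, hA⟩ := Finset.exists_subset_card_eq (s := (Finset.univ : Finset (Fin n))) (n := a) (by simpa only [_root_.Finset.card_univ, _root_.Fintype.card_fin] using ha2)
    exact ⟨A, hA⟩
  have hA0 : A.Nonempty := by rw [← Finset.card_pos]; omega
  have hind : Odd (StabA A).index := by
    rw [index_stabA, Fintype.card_fin, hA]; exact hodd
  apply not_pronormal h2 A hA0 (hA ▸ ha3) (StabA A) (fun σ hσ => hσ) (stabA_trans A)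
  obtain ⟨x, y, hxy⟩ := Cfsg.Agent.H158.PronM2.exists_sq_add_sq (-1 : F)
  let f : GU (Fin n) F →* Cfsg.PSp n F := (QuotientGroup.mk' _).comp (Cfsg.Agent.H158.PronSp.toSp hxy)
  have hf : Function.Surjective f :=
    (QuotientGroup.mk'_surjective _).comp (Cfsg.Agent.H158.PronSp.toSp_surjective hxy h2)
  have hker : f.ker ≤ SG (Q8 F) (StabA A) := by
    intro z hz
    apply mem_SG_of_comm h2
    intro g
    have h4 : Cfsg.Agent.H158.PronSp.toSp hxy z ∈ Subgroup.center (Matrix.symplecticGroup (Fin n) F) := by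
      have : (QuotientGroup.mk' (Subgroup.center (Matrix.symplecticGroup (Fin n) F)))
        (Cfsg.Agent.H158.PronSp.toSp hxy z) = 1 := hz
      rwa [← MonoidHom.mem_ker, QuotientGroup.ker_mk'] at this
    have h5 := Subgroup.mem_center_iff.1 h4 (Cfsg.Agent.H158.PronSp.toSp hxy g)
    rw [← map_mul, ← map_mul] at h5
    apply Subtype.ext
    apply Cfsg.Agent.H158.PronSp.Th_injective hxy h2
    exact (congrArg Subtype.val h5).symm
  apply isPronormal_of_map f _ hker
  apply hPO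
  have h6 := odd_index_SG h2 hns hind
  rw [← Nat.not_even_iff_odd, even_iff_two_dvd] at h6 ⊢
  intro h7
  apply h6
  refine h7.trans ?_
  have := Subgroup.index_map_dvd (SG (Q8 F) (StabA A)) hf
  exact this

end Cfsg.Agent.H158.PronNeg
end

-- part: H223/J3Pron/RowJ3
section
prune_inst 0x2030040800000000000000000006000000000000088000510006040606104200000820c00008020020a00400000048121000000010000000000400011800800082020460c1a000000016002002000000000000000000000000000000041000000000000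
set_option linter.all false
open scoped Cfsg.Agent.FastGrp

-- part: H223/J3Pron/Two
section
/-!
# Overgroups of the Sylow 2-subgroup of `J₂`, `J₃`: the abstract fusion argument (helper223)

`TwoX T z A B`: the structure of a Sylow 2-subgroup `T` of `J₂` or `J₃` (helper788's `TwoE`) and the involutions outside
`A ∪ B`.
-/

set_option autoImplicit false

namespace Cfsg.Agent.H223.J3Pron

open Subgroup Cfsg.Agent.H788.SF

section burn

variable {L : Type*} [Group L] [Finite L]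

/-- Burnside's count for the conjugation action on an invariant set -/
theorem burn (D : Set L) (hD : ∀ g x, x ∈ D → g * x * g⁻¹ ∈ D) (H : Subgroup L) (c : ℕ)
    (h : ∀ g ∈ H, g ≠ 1 → Nat.card {x : L // x ∈ D ∧ g * x = x * g} = c) :
    Nat.card H ∣ Nat.card D + (Nat.card H - 1) * c := by
  classical
  let _ : MulAction H D :=
    { smul := fun g x => ⟨(g : L) * x * (g : L)⁻¹, hD g x x.2⟩
      one_smul := fun x => Subtype.ext (by show (1 : L) * x * (1 : L)⁻¹ = x; group)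
      mul_smul := fun g k x => Subtype.ext (by
        show ((g * k : H) : L) * x * ((g * k : H) : L)⁻¹ = g * (k * x * (k : L)⁻¹) * (g : L)⁻¹
        push_cast; group) }
  have hfD : Finite D := inferInstance
  let _ := Fintype.ofFinite D
  let _ := Fintype.ofFinite H
  have key := MulAction.sum_card_fixedBy_eq_card_orbits_mul_card_group H D
  have hsum : ∑ a : H, Fintype.card (MulAction.fixedBy D a) = Nat.card D + (Nat.card H - 1) * c := by
    have h1 : ∀ a : H, Fintype.card (MulAction.fixedBy D a) = if a = 1 then Nat.card D else c := by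
      intro a
      by_cases ha : a = 1
      · subst ha
        rw [if_pos rfl, ← Nat.card_eq_fintype_card]
        refine Nat.card_congr ⟨fun x => x.1, fun x => ⟨x, ?_⟩, fun x => rfl, fun x => rfl⟩
        rw [MulAction.mem_fixedBy, one_smul]
      · rw [if_neg ha, ← h a a.2 (fun h1 => ha (Subtype.ext h1)), ← Nat.card_eq_fintype_card]
        refine Nat.card_congr ⟨fun x => ⟨x.1, x.1.2, ?_⟩, fun x => ⟨⟨x.1, x.2.1⟩, ?_⟩, fun x => rfl, fun x => rfl⟩
        · have h2 : (a : L) * x.1 * (a : L)⁻¹ = x.1 := congrArg Subtype.val x.2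
          exact mul_inv_eq_iff_eq_mul.1 h2
        · rw [MulAction.mem_fixedBy]
          exact Subtype.ext (show (a : L) * x.1 * (a : L)⁻¹ = x.1 from mul_inv_eq_iff_eq_mul.2 x.2.2)
    rw [Finset.sum_congr rfl fun a _ => h1 a, Finset.sum_ite, Finset.sum_const, Finset.sum_const,
      Finset.filter_eq' Finset.univ (1 : H), if_pos (Finset.mem_univ _), Finset.card_singleton, one_smul,
      Finset.filter_not, Finset.filter_eq' Finset.univ (1 : H), if_pos (Finset.mem_univ _),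
      Finset.card_sdiff_of_subset (Finset.subset_univ _), Finset.card_singleton, Finset.card_univ, smul_eq_mul,
      Nat.card_eq_fintype_card (α := H)]
  rw [hsum] at key
  rw [key, Nat.card_eq_fintype_card (α := H)]
  exact dvd_mul_left _ _

end burn

/-- a four-group and two of its involutions -/
theorem four {L : Type*} [Group L] {U : Subgroup L} (h4 : Nat.card U = 4) (sq : ∀ u ∈ U, u * u = 1) {a b : L} (ha : a ∈ U)
    (hb : b ∈ U) (ha1 : a ≠ 1) (hb1 : b ≠ 1) (hab : a ≠ b) {w : L} (hw : w ∈ U) :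
    w = 1 ∨ w = a ∨ w = b ∨ w = a * b := by
  classical
  have hfin : Finite U := Nat.finite_of_card_ne_zero (by omega)
  let _ := Fintype.ofFinite U
  have haa := sq a ha
  have h1 : (({1, ⟨a, ha⟩, ⟨b, hb⟩, ⟨a * b, U.mul_mem ha hb⟩} : Finset U)).card = 4 := by
    rw [Finset.card_insert_of_notMem, Finset.card_insert_of_notMem, Finset.card_insert_of_notMem, Finset.card_singleton]
    · rw [Finset.mem_singleton]
      intro h
      have h2 : b = a * b := congrArg Subtype.val h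
      exact ha1 (by simpa using h2)
    · rw [Finset.mem_insert, Finset.mem_singleton]
      rintro (h | h)
      · exact hab (congrArg Subtype.val h)
      · have h2 : a = a * b := congrArg Subtype.val h
        exact hb1 (by simpa using h2)
    · rw [Finset.mem_insert, Finset.mem_insert, Finset.mem_singleton]
      rintro (h | h | h)
      · exact ha1 (congrArg Subtype.val h).symm
      · exact hb1 (congrArg Subtype.val h).symm
      · have h2 : 1 = a * b := congrArg Subtype.val h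
        apply hab
        calc a = a * (a * b) := by rw [← h2, mul_one]
          _ = b := by rw [← mul_assoc, haa, one_mul]
  have h2 : ({1, ⟨a, ha⟩, ⟨b, hb⟩, ⟨a * b, U.mul_mem ha hb⟩} : Finset U) = Finset.univ := by
    apply Finset.eq_univ_of_card
    rw [h1, ← Nat.card_eq_fintype_card, h4]
  have h3 : (⟨w, hw⟩ : U) ∈ ({1, ⟨a, ha⟩, ⟨b, hb⟩, ⟨a * b, U.mul_mem ha hb⟩} : Finset U) := by
    rw [h2]; exact Finset.mem_univ _
  simp only [Finset.mem_insert, Finset.mem_singleton] at h3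
  rcases h3 with h | h | h | h
  · exact Or.inl (congrArg Subtype.val h)
  · exact Or.inr (Or.inl (congrArg Subtype.val h))
  · exact Or.inr (Or.inr (Or.inl (congrArg Subtype.val h)))
  · exact Or.inr (Or.inr (Or.inr (congrArg Subtype.val h)))

namespace TwoL

variable {L : Type*} [Group L] {T : Subgroup L} {z : L} {A B : Subgroup L}

/-- the centralizer in `T` of an element of `A` outside `B` -/
theorem cent (h : TwoE T z A B) {t c : L} (ht : t ∈ A) (ht2 : t ∉ B) (hc : c ∈ T) (hct : c * t = t * c) : c ∈ A := by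
  rcases h.cases c hc with ⟨a, ha, b, hb, rfl⟩ | ⟨h1, -, -⟩
  · have h2 : t * b = b * t := by
      have h4 := TwoE.comm_of_sq h.sq₁ ha ht
      apply mul_left_cancel (a := a)
      calc a * (t * b) = a * t * b := by group
        _ = t * a * b := by rw [h4]
        _ = t * (a * b) := by group
        _ = a * b * t := hct.symm
        _ = a * (b * t) := by group
    exact A.mul_mem ha ((h.comm t ht b hb h2).resolve_left ht2)
  · exfalso
    apply ht2
    have h2 := h1 t ht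
    rwa [hct, mul_inv_cancel_right] at h2

theorem J_le (h : TwoE T z A B) : A ⊔ B ≤ T := sup_le h.le₁ h.le₂

/-- `T` normalises `A ⊓ B` -/
theorem conj_inf (h : TwoE T z A B) {t u : L} (ht : t ∈ T) (hu : u ∈ A ⊓ B) : t * u * t⁻¹ ∈ A ⊓ B := by
  by_cases htJ : t ∈ A ⊔ B
  · exact ⟨h.conj_mem₁ htJ hu.1, h.conj_mem₂ htJ hu.2⟩
  · have h1 := h.outer ht htJ
    exact ⟨h1.2.1 u hu.2, h1.1 u hu.1⟩

theorem sqU (h : TwoE T z A B) : ∀ u ∈ A ⊓ B, u * u = 1 := fun u hu => h.sq₁ u hu.1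

theorem zz (h : TwoE T z A B) : z * z = 1 := h.sq₁ z h.z_mem.1

theorem fourz (h : TwoE T z A B) {u w : L} (hu : u ∈ A ⊓ B) (hu1 : u ≠ 1) (huz : u ≠ z) (hw : w ∈ A ⊓ B) :
    w = 1 ∨ w = z ∨ w = u ∨ w = z * u :=
  four h.inter (sqU h) h.z_mem hu h.z_ne hu1 (Ne.symm huz) hw

/-- the other involutions of `A ⊓ B` are swapped by `T` -/
theorem exists_swap (h : TwoE T z A B) {u : L} (hu : u ∈ A ⊓ B) (hu1 : u ≠ 1) (huz : u ≠ z) :
    ∃ s ∈ T, s * u * s⁻¹ = z * u := by
  have huT : u ∈ T := h.le₁ hu.1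
  have h1 : ∃ s ∈ T, s * u ≠ u * s := by
    by_contra hcon
    push Not at hcon
    rcases h.center u huT hcon with h2 | h2
    · exact hu1 h2
    · exact huz h2
  obtain ⟨s, hs, hsu⟩ := h1
  refine ⟨s, hs, ?_⟩
  rcases fourz h hu hu1 huz (conj_inf h hs hu) with h2 | h2 | h2 | h2
  · exfalso
    apply hu1
    have : u = s⁻¹ * (s * u * s⁻¹) * s := by group
    rw [this, h2]; group
  · exfalso
    apply huz
    have h3 : u = s⁻¹ * (s * u * s⁻¹) * s := by group
    rw [h3, h2]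
    have h4 := h.z_comm s⁻¹ (T.inv_mem hs)
    rw [h4]; group
  · exact absurd (mul_inv_eq_iff_eq_mul.1 h2) hsu
  · exact h2

theorem exists_outer (h : TwoE T z A B) : ∃ s ∈ T, s ∉ A ⊔ B := by
  obtain ⟨t, ht, h1⟩ := h.swap
  refine ⟨t, ht, ?_⟩
  intro hJ
  apply h.ne
  have hfin := h.finite₂
  have hfin' := h.finite₁
  apply Subgroup.eq_of_le_of_card_ge _ (by rw [h.card₁, h.card₂])
  intro x hx
  have h2 := h.conj_mem₁ ((A ⊔ B).inv_mem hJ) hx
  have h3 := h1 _ h2
  have h4 : t * (t⁻¹ * x * t⁻¹⁻¹) * t⁻¹ = x := by group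
  rwa [h4] at h3

theorem card_J (h : TwoE T z A B) : Nat.card (A ⊔ B : Subgroup L) = 64 := by
  obtain ⟨s, hs, hsJ⟩ := exists_outer h
  have h1 : ((A ⊔ B).subgroupOf T).index = 2 := by
    rw [Subgroup.index_eq_two_iff]
    refine ⟨⟨s, hs⟩, fun b => ?_⟩
    rw [Subgroup.mem_subgroupOf, Subgroup.mem_subgroupOf]
    by_cases hb : (b : L) ∈ A ⊔ B
    · refine Or.inr ⟨hb, fun h2 => hsJ ?_⟩
      have h3 : s = (b : L)⁻¹ * ((b * ⟨s, hs⟩ : T) : L) := by
        show s = (b : L)⁻¹ * ((b : L) * s); group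
      rw [h3]
      exact mul_mem (inv_mem hb) h2
    · exact Or.inl ⟨h.mul_outer b.2 hs hb hsJ, hb⟩
  have h2 := Subgroup.card_mul_index ((A ⊔ B).subgroupOf T)
  rw [h1, h.cardT, Nat.card_congr (Subgroup.subgroupOfEquivOfLe (J_le h)).toEquiv] at h2
  omega

/-- the conjugates of an element of `A` outside `B` under `B` form a coset of `A ⊓ B` -/
theorem orb (h : TwoE T z A B) {a u : L} (ha : a ∈ A) (haB : a ∉ B) (hu : u ∈ A ⊓ B) :
    ∃ b ∈ B, b * a * b⁻¹ = u * a := by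
  have hfB := h.finite₂
  have hcomm : ∀ b ∈ B, ∀ w ∈ A ⊓ B, b * w = w * b := fun b hb w hw => TwoE.comm_of_sq h.sq₂ hb hw.2
  have hbr : ∀ b ∈ B, b * a * b⁻¹ * a⁻¹ ∈ A ⊓ B := by
    intro b hb
    have h1 := (A ⊓ B).inv_mem (h.br a ha b hb)
    have h2 : (a * b * a⁻¹ * b⁻¹)⁻¹ = b * a * b⁻¹ * a⁻¹ := by group
    rwa [h2] at h1
  let f : B →* L :=
    { toFun := fun b => (b : L) * a * (b : L)⁻¹ * a⁻¹
      map_one' := by show (1 : L) * a * (1 : L)⁻¹ * a⁻¹ = 1; group
      map_mul' := by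
        intro b b'
        show ((b * b' : B) : L) * a * ((b * b' : B) : L)⁻¹ * a⁻¹ = (b * a * (b : L)⁻¹ * a⁻¹) * (b' * a * (b' : L)⁻¹ * a⁻¹)
        have h3 := hbr b' b'.2
        have h5 := hcomm b b.2 _ h3
        calc ((b * b' : B) : L) * a * ((b * b' : B) : L)⁻¹ * a⁻¹
            = b * (b' * a * (b' : L)⁻¹ * a⁻¹) * a * (b : L)⁻¹ * a⁻¹ := by push_cast; group
          _ = (b' * a * (b' : L)⁻¹ * a⁻¹) * (b * a * (b : L)⁻¹ * a⁻¹) := by rw [h5]; group
          _ = (b * a * (b : L)⁻¹ * a⁻¹) * (b' * a * (b' : L)⁻¹ * a⁻¹) :=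
              TwoE.comm_of_sq (sqU h) h3 (hbr b b.2) }
  have hker : f.ker = (A ⊓ B).subgroupOf B := by
    ext b
    rw [MonoidHom.mem_ker, Subgroup.mem_subgroupOf]
    show (b : L) * a * (b : L)⁻¹ * a⁻¹ = 1 ↔ _
    constructor
    · intro h1
      have h2 : (b : L) * a = a * b := by
        have := mul_inv_eq_one.1 h1
        exact mul_inv_eq_iff_eq_mul.1 this
      exact ⟨(h.comm a ha b b.2 h2.symm).resolve_left haB, b.2⟩
    · intro h1
      have h2 := TwoE.comm_of_sq h.sq₁ h1.1 ha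
      rw [h2]; group
  have hck : Nat.card f.ker = 4 := by
    rw [hker, Nat.card_congr (Subgroup.subgroupOfEquivOfLe (inf_le_right : A ⊓ B ≤ B)).toEquiv, h.inter]
  have hrange : f.range = A ⊓ B := by
    have hfU : Finite (A ⊓ B : Subgroup L) := Nat.finite_of_card_ne_zero (by rw [h.inter]; norm_num)
    apply Subgroup.eq_of_le_of_card_ge
    · rintro _ ⟨b, rfl⟩
      exact hbr b b.2
    · have h1 := Subgroup.card_mul_index f.ker
      rw [Subgroup.index_ker, hck, h.card₂] at h1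
      rw [h.inter]; omega
  have hu' : u ∈ f.range := by rw [hrange]; exact hu
  obtain ⟨b, hb⟩ := hu'
  refine ⟨b, b.2, ?_⟩
  have h1 : (b : L) * a * (b : L)⁻¹ * a⁻¹ = u := hb
  rw [← h1]; group

end TwoL

end Cfsg.Agent.H223.J3Pron
end

-- part: H223/J3Pron/Fus
section
/-!
# Overgroups of the Sylow 2-subgroup of `J₂`, `J₃`: fusion of the central involution (helper223)
-/

set_option autoImplicit false

namespace Cfsg.Agent.H223.J3Pron

open Subgroup Cfsg.Agent.H788.SF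

universe u

section basic

variable {L : Type*} [Group L]

/-- `TwoE` and the involutions outside `A ∪ B` -/
structure TwoX (T : Subgroup L) (z : L) (A B : Subgroup L) : Prop where
  two : TwoE T z A B
  out : ∀ t ∈ T, t * t = 1 → t ∉ A → t ∉ B →
    (∃ c ∈ T, c * t = t * c ∧ c * c = z) ∧ ∀ c ∈ T, c * t = t * c → c * c = 1 ∨ c * c = z

theorem TwoX.symm {T : Subgroup L} {z : L} {A B : Subgroup L} (h : TwoX T z A B) : TwoX T z B A :=
  ⟨h.two.symm, fun t ht htt hB hA => h.out t ht htt hA hB⟩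

theorem TwoX.map {T : Subgroup L} {z : L} {A B : Subgroup L} (h : TwoX T z A B) {L' : Type*} [Group L'] (φ : L →* L')
    (hφ : Function.Injective φ) : TwoX (T.map φ) (φ z) (A.map φ) (B.map φ) := by
  refine ⟨h.two.map φ hφ, ?_⟩
  rintro _ ⟨t, ht, rfl⟩ htt hA hB
  obtain ⟨⟨c, hc, h1, h2⟩, h3⟩ := h.out t ht (hφ (by rw [map_mul, htt, map_one])) (fun h => hA ⟨t, h, rfl⟩)
    (fun h => hB ⟨t, h, rfl⟩)
  refine ⟨⟨φ c, ⟨c, hc, rfl⟩, by rw [← map_mul, h1, map_mul], by rw [← map_mul, h2]⟩, ?_⟩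
  rintro _ ⟨d, hd, rfl⟩ hdt
  rcases h3 d hd (hφ (by rw [map_mul, map_mul]; exact hdt)) with h4 | h4
  · left; rw [← map_mul, h4, map_one]
  · right; rw [← map_mul, h4]

/-- the centralizer of `x` has the structure `TwoX` -/
def Dat (x : L) (A B : Subgroup L) : Prop := TwoX (centralizer ({x} : Set L)) x A B

theorem Dat.symm {x : L} {A B : Subgroup L} (h : Dat x A B) : Dat x B A := TwoX.symm h

theorem mem_conj {A : Subgroup L} {g y : L} : y ∈ A.map (MulAut.conj g).toMonoidHom ↔ g⁻¹ * y * g ∈ A := by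
  constructor
  · rintro ⟨a, ha, rfl⟩
    have : g⁻¹ * (g * a * g⁻¹) * g = a := by group
    show g⁻¹ * (g * a * g⁻¹) * g ∈ A
    rw [this]; exact ha
  · intro h
    exact ⟨_, h, show g * (g⁻¹ * y * g) * g⁻¹ = y by group⟩

theorem cent_conj (x g : L) : (centralizer ({x} : Set L)).map (MulAut.conj g).toMonoidHom =
    centralizer ({g * x * g⁻¹} : Set L) := by
  ext y
  rw [mem_conj, mem_centralizer_singleton_iff, mem_centralizer_singleton_iff]
  constructor
  · intro h
    calc y * (g * x * g⁻¹) = g * (g⁻¹ * y * g * x) * g⁻¹ := by group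
      _ = g * (x * (g⁻¹ * y * g)) * g⁻¹ := by rw [h]
      _ = g * x * g⁻¹ * y := by group
  · intro h
    calc g⁻¹ * y * g * x = g⁻¹ * (y * (g * x * g⁻¹)) * g := by group
      _ = g⁻¹ * (g * x * g⁻¹ * y) * g := by rw [h]
      _ = x * (g⁻¹ * y * g) := by group

theorem Dat.conj {x : L} {A B : Subgroup L} (h : Dat x A B) (g : L) :
    Dat (g * x * g⁻¹) (A.map (MulAut.conj g).toMonoidHom) (B.map (MulAut.conj g).toMonoidHom) := by
  have h1 := TwoX.map h (MulAut.conj g).toMonoidHom (MulAut.conj g).injective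
  rw [cent_conj] at h1
  exact h1

variable {x t : L} {A B A' B' : Subgroup L}

theorem Dat.near (hx : Dat x A B) (ht : Dat t A' B') (htU : t ∈ A ⊓ B) : (A' = A ∧ B' = B) ∨ (A' = B ∧ B' = A) := by
  have hA : A ≤ centralizer ({t} : Set L) := fun a ha =>
    mem_centralizer_singleton_iff.2 (TwoE.comm_of_sq hx.two.sq₁ ha htU.1)
  have hB : B ≤ centralizer ({t} : Set L) := fun a ha =>
    mem_centralizer_singleton_iff.2 (TwoE.comm_of_sq hx.two.sq₂ ha htU.2)
  have hne := hx.two.ne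
  rcases ht.two.sixteen hA hx.two.sq₁ hx.two.card₁ with h1 | h1 <;>
    rcases ht.two.sixteen hB hx.two.sq₂ hx.two.card₂ with h2 | h2
  · exact absurd (h1.trans h2.symm) hne
  · exact Or.inl ⟨h1.symm, h2.symm⟩
  · exact Or.inr ⟨h2.symm, h1.symm⟩
  · exact absurd (h1.trans h2.symm) hne

theorem Dat.far (hx : Dat x A B) (ht : Dat t A' B') (htA : t ∈ A) : A' = A ∨ B' = A := by
  have hA : A ≤ centralizer ({t} : Set L) := fun a ha =>
    mem_centralizer_singleton_iff.2 (TwoE.comm_of_sq hx.two.sq₁ ha htA)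
  rcases ht.two.sixteen hA hx.two.sq₁ hx.two.card₁ with h1 | h1
  · exact Or.inl h1.symm
  · exact Or.inr h1.symm

theorem Dat.uniq (hx : Dat x A B) (ht : Dat x A' B') : (A' = A ∧ B' = B) ∨ (A' = B ∧ B' = A) :=
  hx.near ht hx.two.z_mem

theorem Dat.self_mem (hx : Dat x A B) : x ∈ A ⊓ B := hx.two.z_mem

theorem Dat.noout (hx : Dat x A B) (ht : Dat t A' B') (h : t * x = x * t) : t ∈ A ∨ t ∈ B := by
  by_contra hcon
  push Not at hcon
  obtain ⟨hA, hB⟩ := hcon
  have htt : t * t = 1 := TwoL.zz ht.two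
  obtain ⟨⟨c, hc, h1, h2⟩, -⟩ := hx.out t (mem_centralizer_singleton_iff.2 h) htt hA hB
  have hxC : x ∈ centralizer ({t} : Set L) := mem_centralizer_singleton_iff.2 h.symm
  have hcC : c ∈ centralizer ({t} : Set L) := mem_centralizer_singleton_iff.2 h1
  have hcx : c * x = x * c := mem_centralizer_singleton_iff.1 hc
  have hx1 : x ≠ 1 := hx.two.z_ne
  have hxx : x * x = 1 := TwoL.zz hx.two
  by_cases hxA : x ∈ A'
  · by_cases hxB : x ∈ B'
    · rcases ht.near hx ⟨hxA, hxB⟩ with ⟨h3, h4⟩ | ⟨h3, h4⟩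
      · exact hA (by rw [h3]; exact ht.two.z_mem.1)
      · exact hA (by rw [h3]; exact ht.two.z_mem.2)
    · have h3 := TwoL.cent ht.two hxA hxB hcC hcx
      exact hx1 (by rw [← h2]; exact ht.two.sq₁ c h3)
  · by_cases hxB : x ∈ B'
    · have h3 := TwoL.cent ht.two.symm hxB hxA hcC hcx
      exact hx1 (by rw [← h2]; exact ht.two.sq₂ c h3)
    · rcases (ht.out x hxC hxx hxA hxB).2 c hcC hcx with h3 | h3
      · exact hx1 (by rw [← h2, h3])
      · apply hA
        rw [← h3, h2]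
        exact hx.two.z_mem.1

end basic

section D

variable {L : Type*} [Group L]

/-- the class of `z` -/
def DD (z : L) : Set L := {x | ∃ g : L, g * z * g⁻¹ = x}

theorem DD_conj (z g x : L) (hx : x ∈ DD z) : g * x * g⁻¹ ∈ DD z := by
  obtain ⟨k, rfl⟩ := hx
  exact ⟨g * k, by group⟩

theorem DD_conj' (z g x : L) (hx : g * x * g⁻¹ ∈ DD z) : x ∈ DD z := by
  have h1 := DD_conj z g⁻¹ _ hx
  have h2 : g⁻¹ * (g * x * g⁻¹) * g⁻¹⁻¹ = x := by group
  rwa [h2] at h1

theorem self_DD (z : L) : z ∈ DD z := ⟨1, by group⟩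

variable {z : L} {A B : Subgroup L} (hz : Dat z A B)
include hz

theorem exists_dat {x : L} (hx : x ∈ DD z) : ∃ A' B', Dat x A' B' := by
  obtain ⟨g, rfl⟩ := hx
  exact ⟨_, _, hz.conj g⟩

theorem card_DD [Finite L] : Nat.card L = 128 * Nat.card (DD z) := by
  have h1 := Cfsg.Agent.J2Type.CStruct.card_conj z
  have h2 : Nat.card {k : L // k * z = z * k} = 128 := by
    rw [← hz.two.cardT]
    exact Nat.card_congr (Equiv.subtypeEquivRight fun k => mem_centralizer_singleton_iff.symm)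
  rw [h2] at h1
  rw [← h1, mul_comm]
  rfl

end D

section U

variable {L : Type*} [Group L] {z : L}

/-- if two involutions of `A ⊓ B` are in the class then all are -/
theorem U_DD {x t : L} {A B : Subgroup L} (hx : Dat x A B) (hxD : x ∈ DD z) (htD : t ∈ DD z) (htU : t ∈ A ⊓ B)
    (ht1 : t ≠ 1) (htx : t ≠ x) : ∀ u ∈ A ⊓ B, u ≠ 1 → u ∈ DD z := by
  intro u hu hu1
  rcases TwoL.fourz hx.two htU ht1 htx hu with h | h | h | h
  · exact absurd h hu1
  · rw [h]; exact hxD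
  · rw [h]; exact htD
  · obtain ⟨s, -, hs⟩ := TwoL.exists_swap hx.two htU ht1 htx
    rw [h, ← hs]
    exact DD_conj z s t htD

end U

end Cfsg.Agent.H223.J3Pron
end

-- part: H223/J3Pron/FusTwo
section
/-!
# Overgroups of the Sylow 2-subgroup of `J₂`, `J₃`: the class of `z` meets `C(z)` in `A ∩ B` (helper223)

Then `A ⊔ B` acts semiregularly on the rest of the class.
-/

set_option autoImplicit false
set_option linter.unusedSectionVars false

namespace Cfsg.Agent.H223.J3Pron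

open Subgroup Cfsg.Agent.H788.SF

variable {L : Type*} [Group L]

/-- `J` acts trivially on `B / (A ⊓ B)` -/
theorem J_triv {T : Subgroup L} {z : L} {A B : Subgroup L} (h : TwoE T z A B) {j b : L} (hj : j ∈ A ⊔ B) (hb : b ∈ B) :
    j * b * j⁻¹ * b⁻¹ ∈ A ⊓ B := by
  obtain ⟨a, ha, b', hb', rfl⟩ := (h.mem_sup j).1 hj
  have h1 := TwoE.comm_of_sq h.sq₂ hb' hb
  have h2 := h.br a ha b hb
  have h3 : a * b' * b * (a * b')⁻¹ * b⁻¹ = a * b * a⁻¹ * b⁻¹ := by
    calc a * b' * b * (a * b')⁻¹ * b⁻¹ = a * (b' * b) * b'⁻¹ * a⁻¹ * b⁻¹ := by group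
      _ = a * (b * b') * b'⁻¹ * a⁻¹ * b⁻¹ := by rw [h1]
      _ = a * b * a⁻¹ * b⁻¹ := by group
  rw [h3]; exact h2

/-- the elements of `N(A ⊓ B)` acting trivially on `B` modulo `A ⊓ B` -/
def Tr (U B : Subgroup L) : Subgroup L where
  carrier := {g | g ∈ normalizer (U : Set L) ∧ ∀ b ∈ B, g * b * g⁻¹ * b⁻¹ ∈ U}
  one_mem' := ⟨one_mem _, fun b _ => by
    have : (1 : L) * b * (1 : L)⁻¹ * b⁻¹ = 1 := by group
    rw [this]; exact one_mem _⟩
  mul_mem' := by
    rintro g k ⟨hg, hg'⟩ ⟨hk, hk'⟩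
    refine ⟨mul_mem hg hk, fun b hb => ?_⟩
    have h1 : g * k * b * (g * k)⁻¹ * b⁻¹ = g * (k * b * k⁻¹ * b⁻¹) * g⁻¹ * (g * b * g⁻¹ * b⁻¹) := by group
    rw [h1]
    exact mul_mem ((mem_normalizer_iff.1 hg _).1 (hk' b hb)) (hg' b hb)
  inv_mem' := by
    rintro g ⟨hg, hg'⟩
    refine ⟨inv_mem hg, fun b hb => ?_⟩
    have h1 : g⁻¹ * b * g⁻¹⁻¹ * b⁻¹ = g⁻¹ * (g * b * g⁻¹ * b⁻¹)⁻¹ * g⁻¹⁻¹ := by group
    rw [h1]
    exact (mem_normalizer_iff.1 (inv_mem hg) _).1 (inv_mem (hg' b hb))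

/-- on a subgroup, stability under conjugation by `n` gives normalization if the subgroup is finite -/
theorem mem_norm {U : Subgroup L} [Finite U] {n : L} (h : ∀ u ∈ U, n * u * n⁻¹ ∈ U) : n ∈ normalizer (U : Set L) := by
  rw [mem_normalizer_iff]
  intro u
  refine ⟨h u, fun hu => ?_⟩
  have hinj : Function.Injective (fun w : U => (⟨n * w * n⁻¹, h w w.2⟩ : U)) := by
    intro w w' hw
    have := congrArg Subtype.val hw
    simp only [mul_left_inj, mul_right_inj] at this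
    exact Subtype.ext this
  obtain ⟨w, hw⟩ := Finite.surjective_of_injective hinj ⟨_, hu⟩
  have h1 : n * w * n⁻¹ = n * u * n⁻¹ := congrArg Subtype.val hw
  have h2 : (w : L) = u := by simpa only [_root_.mul_left_inj, _root_.mul_right_inj] using h1
  rw [← h2]; exact w.2

section trip

variable {z : L} {A B : Subgroup L} (hz : Dat z A B)
include hz

/-- an element `n` permuting `A ⊓ B` without fixed points is a three-cycle -/
theorem cycle {n : L} (hU : ∀ u ∈ A ⊓ B, n * u * n⁻¹ ∈ A ⊓ B) (hf : ∀ u ∈ A ⊓ B, u ≠ 1 → n * u * n⁻¹ ≠ u) :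
    ∃ t ∈ A ⊓ B, t ≠ 1 ∧ t ≠ z ∧ n * z * n⁻¹ = t ∧ n * t * n⁻¹ = z * t ∧ n * (z * t) * n⁻¹ = z := by
  have hzU := hz.self_mem
  have hz1 : z ≠ 1 := hz.two.z_ne
  have hzz : z * z = 1 := TwoL.zz hz.two
  have hconj1 : ∀ u, n * u * n⁻¹ = 1 → u = 1 := by
    intro u hu
    have : u = n⁻¹ * (n * u * n⁻¹) * n := by group
    rw [this, hu]; group
  have hinj : ∀ u w, n * u * n⁻¹ = n * w * n⁻¹ → u = w := by
    intro u w huw
    simpa only [_root_.mul_left_inj, _root_.mul_right_inj] using huw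
  set t := n * z * n⁻¹ with ht
  have htU : t ∈ A ⊓ B := hU z hzU
  have ht1 : t ≠ 1 := fun h => hz1 (hconj1 z h)
  have htz : t ≠ z := hf z hzU hz1
  have htt : t * t = 1 := TwoL.sqU hz.two t htU
  have hcomm : z * t = t * z := TwoE.comm_of_sq (TwoL.sqU hz.two) hzU htU
  have hzt1 : z * t ≠ 1 := by
    intro h
    apply htz
    calc t = z * z * t := by rw [hzz, one_mul]
      _ = z * (z * t) := by group
      _ = z := by rw [h, mul_one]
  have hmul : n * (z * t) * n⁻¹ = t * (n * t * n⁻¹) := by rw [ht]; group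
  have hr : n * t * n⁻¹ = z * t := by
    rcases TwoL.fourz hz.two htU ht1 htz (hU t htU) with h | h | h | h
    · exact absurd (hconj1 t h) ht1
    · exfalso
      apply hf (z * t) (mul_mem hzU htU) hzt1
      rw [hmul, h, hcomm]
    · exact absurd h (hf t htU ht1)
    · exact h
  refine ⟨t, htU, ht1, htz, rfl, hr, ?_⟩
  rw [hmul, hr, hcomm, ← mul_assoc, htt, one_mul]

/-- `n` acts trivially on `A` modulo `U` -/
theorem triv_A {n y : L} (hy : y ∈ A) (hyB : y ∉ B) (hny : n * y = y * n) (hA : ∀ a ∈ A, n * a * n⁻¹ ∈ A)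
    (hU : ∀ u ∈ A ⊓ B, n * u * n⁻¹ ∈ A ⊓ B) (h3 : n * n * n ∈ A) :
    ∀ a ∈ A, n * a * n⁻¹ * a⁻¹ ∈ A ⊓ B := by
  have hfA := hz.two.finite₁
  have hcA : ∀ a ∈ A, ∀ b ∈ A, a * b = b * a := fun a ha b hb => TwoE.comm_of_sq hz.two.sq₁ ha hb
  let W : Subgroup L :=
    { carrier := {a | a ∈ A ∧ n * a * n⁻¹ * a⁻¹ ∈ A ⊓ B}
      one_mem' := ⟨one_mem _, by
        have : n * 1 * n⁻¹ * (1 : L)⁻¹ = 1 := by group
        rw [this]; exact one_mem _⟩
      mul_mem' := by
        rintro a b ⟨ha, ha'⟩ ⟨hb, hb'⟩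
        refine ⟨mul_mem ha hb, ?_⟩
        have h1 : n * (a * b) * n⁻¹ * (a * b)⁻¹ = (n * a * n⁻¹) * ((n * b * n⁻¹ * b⁻¹) * a⁻¹) := by group
        have h2 := hcA _ hb'.1 _ (A.inv_mem ha)
        rw [h1, h2, ← mul_assoc]
        exact mul_mem ha' hb'
      inv_mem' := by
        rintro a ⟨ha, ha'⟩
        refine ⟨inv_mem ha, ?_⟩
        have h1 : n * a⁻¹ * n⁻¹ * a⁻¹⁻¹ = (a⁻¹ * (n * a * n⁻¹))⁻¹ := by group
        have h2 := hcA _ (A.inv_mem ha) _ (hA a ha)
        rw [h1, h2]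
        exact inv_mem ha' }
  have hWA : W ≤ A := fun a ha => ha.1
  have hUW : A ⊓ B ≤ W := fun u hu => ⟨hu.1, mul_mem (hU u hu) (inv_mem hu)⟩
  have hyW : y ∈ W := ⟨hy, by
    have : n * y * n⁻¹ * y⁻¹ = 1 := by rw [hny]; group
    rw [this]; exact one_mem _⟩
  by_contra hcon
  push Not at hcon
  obtain ⟨a, ha, haW⟩ := hcon
  have haW' : a ∉ W := fun h => haW h.2
  -- the index of `W` in `A` is two
  have hfW : Finite W := Finite.of_injective (Subgroup.inclusion hWA) (Subgroup.inclusion_injective _)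
  have hcU : Nat.card (A ⊓ B : Subgroup L) = 4 := hz.two.inter
  have hd1 : Nat.card (A ⊓ B : Subgroup L) ∣ Nat.card W := Subgroup.card_dvd_of_le hUW
  have hd2 : Nat.card W ∣ Nat.card A := Subgroup.card_dvd_of_le hWA
  have hne : Nat.card W ≠ 4 := by
    intro h
    have h1 : A ⊓ B = W := Subgroup.eq_of_le_of_card_ge hUW (by rw [h, hcU])
    have h2 : y ∈ A ⊓ B := by rw [h1]; exact hyW
    exact hyB h2.2
  have hne2 : Nat.card W ≠ 16 := by
    intro h
    have h1 : W = A := Subgroup.eq_of_le_of_card_ge hWA (by rw [h, hz.two.card₁])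
    exact haW' (by rw [h1]; exact ha)
  rw [hcU] at hd1
  rw [hz.two.card₁] at hd2
  have hc8 : Nat.card W = 8 := by
    have h1 : Nat.card W ≤ 16 := Nat.le_of_dvd (by norm_num) hd2
    have h0 : 0 < Nat.card W := Nat.card_pos
    obtain ⟨k, hk⟩ := hd1
    have hk4 : k ≤ 4 := by omega
    interval_cases k
    · omega
    · omega
    · exact hk
    · rw [hk] at hd2; norm_num at hd2
    · omega
  have hidx : (W.subgroupOf A).index = 2 := by
    have h1 := Subgroup.card_mul_index (W.subgroupOf A)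
    rw [Nat.card_congr (Subgroup.subgroupOfEquivOfLe hWA).toEquiv, hc8, hz.two.card₁] at h1
    omega
  have hmul : ∀ b ∈ A, b ∉ W → b * a ∈ W := by
    intro b hb hbW
    have h1 := (Subgroup.mul_mem_iff_of_index_two hidx (a := ⟨b, hb⟩) (b := ⟨a, ha⟩)).2 (by
      rw [Subgroup.mem_subgroupOf, Subgroup.mem_subgroupOf]
      exact ⟨fun h => absurd h hbW, fun h => absurd h haW'⟩)
    exact h1
  -- `n a n⁻¹ ∉ W`
  have hnW : n * a * n⁻¹ ∉ W := by
    intro h1
    apply haW'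
    -- `n⁻¹` maps `W` to `W`
    have hnn : n ∈ normalizer (W : Set L) := by
      apply mem_norm
      rintro w ⟨hw, hw'⟩
      refine ⟨hA w hw, ?_⟩
      have e1 : n * (n * w * n⁻¹) * n⁻¹ * (n * w * n⁻¹)⁻¹ = n * (n * w * n⁻¹ * w⁻¹) * n⁻¹ := by group
      rw [e1]
      exact hU _ hw'
    exact (mem_normalizer_iff.1 hnn a).2 h1
  have haa : a * a = 1 := hz.two.sq₁ a ha
  have hw := hmul _ (hA a ha) hnW
  set w := n * a * n⁻¹ * a with hw_def
  have hna : n * a * n⁻¹ = w * a := by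
    rw [hw_def, mul_assoc _ a a, haa, mul_one]
  have hww : w * w = 1 := hz.two.sq₁ w hw.1
  -- `n w n⁻¹ = u w`
  set! u := n * w * n⁻¹ * w⁻¹ with hu_def
  have hu : u ∈ A ⊓ B := hw.2
  have hnw : n * w * n⁻¹ = u * w := by rw [hu_def]; group
  have h2 : n * (n * a * n⁻¹) * n⁻¹ = u * a := by
    calc n * (n * a * n⁻¹) * n⁻¹ = n * (w * a) * n⁻¹ := by rw [hna]
      _ = (n * w * n⁻¹) * (n * a * n⁻¹) := by group
      _ = u * w * (w * a) := by rw [hnw, hna]
      _ = u * (w * w) * a := by group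
      _ = u * a := by rw [hww, mul_one]
  have h4 : n * n * n * a * (n * n * n)⁻¹ = (n * u * n⁻¹) * (w * a) := by
    calc n * n * n * a * (n * n * n)⁻¹ = n * (n * (n * a * n⁻¹) * n⁻¹) * n⁻¹ := by group
      _ = n * (u * a) * n⁻¹ := by rw [h2]
      _ = (n * u * n⁻¹) * (n * a * n⁻¹) := by group
      _ = _ := by rw [hna]
  have h5 : n * n * n * a * (n * n * n)⁻¹ = a := by
    rw [hcA _ h3 a ha, mul_inv_cancel_right]
  have h6 : w = (n * u * n⁻¹)⁻¹ := by
    rw [h5] at h4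
    have h7 : (n * u * n⁻¹) * w = 1 := by
      apply mul_right_cancel (b := a)
      rw [one_mul, mul_assoc]
      exact h4.symm
    exact (inv_eq_of_mul_eq_one_right h7).symm
  have hwU : w ∈ A ⊓ B := by rw [h6]; exact inv_mem (hU u hu)
  -- then `n a n⁻¹ a⁻¹ = w ∈ U`
  apply haW
  have h8 : n * a * n⁻¹ * a⁻¹ = w := by
    rw [hna]; group
  rw [h8]; exact hwU

/-- no element inducing a three-cycle on `U` acts trivially on `A` modulo `U` -/
theorem no_triv {n : L} (hA : ∀ a ∈ A, n * a * n⁻¹ * a⁻¹ ∈ A ⊓ B)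
    (hU : ∀ u ∈ A ⊓ B, n * u * n⁻¹ ∈ A ⊓ B) (hf : ∀ u ∈ A ⊓ B, u ≠ 1 → n * u * n⁻¹ ≠ u) : False := by
  have hfU : Finite (A ⊓ B : Subgroup L) := Nat.finite_of_card_ne_zero (by rw [hz.two.inter]; norm_num)
  have hnN : n ∈ normalizer ((A ⊓ B : Subgroup L) : Set L) := mem_norm hU
  obtain ⟨t, htU, ht1, htz, e1, e2, e3⟩ := cycle hz hU hf
  obtain ⟨s, hs, hsJ⟩ := TwoL.exists_outer hz.two
  have hso := hz.two.outer hs hsJ
  have hso' := hz.two.outer (inv_mem hs) (fun h => hsJ (by have := inv_mem h; rwa [inv_inv] at this))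
  set! k := s * n * s⁻¹ with hk
  have hkU : ∀ u ∈ A ⊓ B, k * u * k⁻¹ ∈ A ⊓ B := by
    intro u hu
    have h1 := TwoL.conj_inf hz.two (inv_mem hs) hu
    have h2 := TwoL.conj_inf hz.two hs (hU _ h1)
    have h3 : k * u * k⁻¹ = s * (n * (s⁻¹ * u * s⁻¹⁻¹) * n⁻¹) * s⁻¹ := by rw [hk]; group
    rw [h3]; exact h2
  have hkf : ∀ u ∈ A ⊓ B, u ≠ 1 → k * u * k⁻¹ ≠ u := by
    intro u hu hu1 h
    have h1 := TwoL.conj_inf hz.two (inv_mem hs) hu
    have h2 : s⁻¹ * u * s⁻¹⁻¹ ≠ 1 := by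
      intro h3
      apply hu1
      have : u = s * (s⁻¹ * u * s⁻¹⁻¹) * s⁻¹ := by group
      rw [this, h3]; group
    apply hf _ h1 h2
    calc n * (s⁻¹ * u * s⁻¹⁻¹) * n⁻¹ = s⁻¹ * (k * u * k⁻¹) * s⁻¹⁻¹ := by rw [hk]; group
      _ = s⁻¹ * u * s⁻¹⁻¹ := by rw [h]
  have hkN : k ∈ normalizer ((A ⊓ B : Subgroup L) : Set L) := mem_norm hkU
  have hkTr : k ∈ Tr (A ⊓ B) B := by
    refine ⟨hkN, fun b hb => ?_⟩
    have h1 := hso'.2.1 b hb
    have h2 := TwoL.conj_inf hz.two hs (hA _ h1)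
    have h3 : k * b * k⁻¹ * b⁻¹ = s * (n * (s⁻¹ * b * s⁻¹⁻¹) * n⁻¹ * (s⁻¹ * b * s⁻¹⁻¹)⁻¹) * s⁻¹ := by
      rw [hk]; group
    rw [h3]; exact h2
  -- `J ≤ Tr`
  have hJTr : A ⊔ B ≤ Tr (A ⊓ B) B := by
    intro j hj
    refine ⟨mem_norm fun u hu => TwoL.conj_inf hz.two (TwoL.J_le hz.two hj) hu, fun b hb => J_triv hz.two hj hb⟩
  -- an element of the normalizer of `U` fixing `z` and `t` is in `J`
  have hfix : ∀ g : L, g * z * g⁻¹ = z → g * t * g⁻¹ = t → g ∈ A ⊔ B := by
    intro g hg1 hg2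
    have hgT : g ∈ centralizer ({z} : Set L) := mem_centralizer_singleton_iff.2 (mul_inv_eq_iff_eq_mul.1 hg1)
    by_contra hgJ
    obtain ⟨-, -, u, hu, hgu⟩ := hz.two.outer hgT hgJ
    apply hgu
    apply mul_inv_eq_iff_eq_mul.1
    rcases TwoL.fourz hz.two htU ht1 htz hu with h | h | h | h
    · rw [h]; group
    · rw [h]; exact hg1
    · rw [h]; exact hg2
    · calc g * u * g⁻¹ = (g * z * g⁻¹) * (g * t * g⁻¹) := by rw [h]; group
        _ = u := by rw [hg1, hg2, h]
  -- `k` is a three-cycle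
  obtain ⟨r, hrU, hr1, hrz, f1, f2, f3⟩ := cycle hz hkU hkf
  have hnTr : n ∈ Tr (A ⊓ B) B := by
    rcases TwoL.fourz hz.two htU ht1 htz hrU with h | h | h | h
    · exact absurd h hr1
    · exact absurd h hrz
    · -- same action
      rw [h] at f1 f2 f3
      have h1 : n⁻¹ * k ∈ A ⊔ B := by
        apply hfix
        · calc n⁻¹ * k * z * (n⁻¹ * k)⁻¹ = n⁻¹ * (k * z * k⁻¹) * n := by group
            _ = n⁻¹ * (n * z * n⁻¹) * n := by rw [f1, e1]
            _ = z := by group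
        · calc n⁻¹ * k * t * (n⁻¹ * k)⁻¹ = n⁻¹ * (k * t * k⁻¹) * n := by group
            _ = n⁻¹ * (n * t * n⁻¹) * n := by rw [f2, e2]
            _ = t := by group
      have h2 : n = k * (n⁻¹ * k)⁻¹ := by group
      rw [h2]
      exact mul_mem hkTr (inv_mem (hJTr h1))
    · -- inverse action
      rw [h] at f1 f2 f3
      have hzz : z * z = 1 := TwoL.zz hz.two
      have hzt : z * (z * t) = t := by rw [← mul_assoc, hzz, one_mul]
      rw [hzt] at f2 f3
      have h1 : n * k ∈ A ⊔ B := by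
        apply hfix
        · calc n * k * z * (n * k)⁻¹ = n * (k * z * k⁻¹) * n⁻¹ := by group
            _ = z := by rw [f1, e3]
        · calc n * k * t * (n * k)⁻¹ = n * (k * t * k⁻¹) * n⁻¹ := by group
            _ = t := by rw [f3, e1]
      have h2 : n = (n * k) * k⁻¹ := by group
      rw [h2]
      exact mul_mem (hJTr h1) (inv_mem hkTr)
  -- commutators
  obtain ⟨a, ha, haB⟩ := hz.two.exists_not₁
  obtain ⟨b, hb, hbA⟩ := hz.two.exists_not₂
  have hab : a * b * a⁻¹ * b⁻¹ ≠ 1 := by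
    intro h
    have h1 : a * b = b * a := by
      have h2 := mul_inv_eq_one.1 h
      exact mul_inv_eq_iff_eq_mul.1 h2
    rcases hz.two.comm a ha b hb h1 with h3 | h3
    · exact haB h3
    · exact hbA h3
  apply hf _ (hz.two.br a ha b hb) hab
  set! u1 := n * a * n⁻¹ * a⁻¹ with hu1
  set! u2 := n * b * n⁻¹ * b⁻¹ with hu2
  have hu1U : u1 ∈ A ⊓ B := hA a ha
  have hu2U : u2 ∈ A ⊓ B := hnTr.2 b hb
  have ha' : n * a * n⁻¹ = u1 * a := by rw [hu1]; group
  have hb' : n * b * n⁻¹ = u2 * b := by rw [hu2]; group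
  have c1 : b * u1 = u1 * b := TwoE.comm_of_sq hz.two.sq₂ hb hu1U.2
  have c2 : a * u2 = u2 * a := TwoE.comm_of_sq hz.two.sq₁ ha hu2U.1
  have c3 : u1 * u2 = u2 * u1 := TwoE.comm_of_sq hz.two.sq₁ hu1U.1 hu2U.1
  have c4 : Commute u1 b := c1.symm
  have c5 : Commute u2 a := c2.symm
  have c6 : Commute u1 u2 := c3
  have c7 : Commute u1 a := TwoE.comm_of_sq hz.two.sq₁ hu1U.1 ha
  have c8 : Commute u2 b := TwoE.comm_of_sq hz.two.sq₂ hu2U.2 hb
  calc n * (a * b * a⁻¹ * b⁻¹) * n⁻¹ = (n * a * n⁻¹) * (n * b * n⁻¹) * (n * a * n⁻¹)⁻¹ * (n * b * n⁻¹)⁻¹ := by group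
    _ = u1 * a * (u2 * b) * (u1 * a)⁻¹ * (u2 * b)⁻¹ := by rw [ha', hb']
    _ = u1 * (a * u2) * b * (a⁻¹ * u1⁻¹) * (b⁻¹ * u2⁻¹) := by group
    _ = u1 * (u2 * a) * b * (u1⁻¹ * a⁻¹) * (u2⁻¹ * b⁻¹) := by
        rw [c5.eq.symm, (c7.inv_inv.eq : u1⁻¹ * a⁻¹ = a⁻¹ * u1⁻¹), (c8.inv_inv.eq : u2⁻¹ * b⁻¹ = b⁻¹ * u2⁻¹)]
    _ = u1 * u2 * a * (b * u1⁻¹) * a⁻¹ * u2⁻¹ * b⁻¹ := by group
    _ = u1 * u2 * a * (u1⁻¹ * b) * a⁻¹ * u2⁻¹ * b⁻¹ := by rw [(c4.inv_left.eq : u1⁻¹ * b = b * u1⁻¹)]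
    _ = u1 * u2 * (a * u1⁻¹) * b * (a⁻¹ * u2⁻¹) * b⁻¹ := by group
    _ = u1 * u2 * (u1⁻¹ * a) * b * (u2⁻¹ * a⁻¹) * b⁻¹ := by
        rw [(c7.inv_left.eq : u1⁻¹ * a = a * u1⁻¹), (c5.inv_inv.eq : u2⁻¹ * a⁻¹ = a⁻¹ * u2⁻¹)]
    _ = u1 * u2 * u1⁻¹ * a * (b * u2⁻¹) * a⁻¹ * b⁻¹ := by group
    _ = u1 * u2 * u1⁻¹ * a * (u2⁻¹ * b) * a⁻¹ * b⁻¹ := by rw [(c8.inv_left.eq : u2⁻¹ * b = b * u2⁻¹)]
    _ = (u1 * u2) * u1⁻¹ * (a * u2⁻¹) * b * a⁻¹ * b⁻¹ := by group
    _ = (u2 * u1) * u1⁻¹ * (u2⁻¹ * a) * b * a⁻¹ * b⁻¹ := by rw [c3, (c5.inv_left.eq : u2⁻¹ * a = a * u2⁻¹)]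
    _ = a * b * a⁻¹ * b⁻¹ := by group

end trip

/-- two involutions are conjugate, or there is an involution commuting with both whose product with the first
is conjugate to one of them -/
theorem conj_or [Finite L] {e d : L} (hee : e * e = 1) (hdd : d * d = 1) :
    (∃ k : ℕ, (e * d) ^ k * e * ((e * d) ^ k)⁻¹ = d) ∨
    ∃ k : ℕ, (e * d) ^ k ≠ 1 ∧ (e * d) ^ k * (e * d) ^ k = 1 ∧ (∃ g : L, g * e * g⁻¹ = e * (e * d) ^ k ∨
      g * d * g⁻¹ = e * (e * d) ^ k) := by
  have hei : e⁻¹ = e := inv_eq_of_mul_eq_one_left hee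
  have hdi : d⁻¹ = d := inv_eq_of_mul_eq_one_left hdd
  set x := e * d with hx
  have hexe : e * x * e = x⁻¹ := by
    rw [hx, mul_inv_rev, hei, hdi]
    calc e * (e * d) * e = (e * e) * d * e := by group
      _ = d * e := by rw [hee, one_mul]
  have hxe : ∀ k : ℕ, e * x ^ k = (x ^ k)⁻¹ * e := by
    intro k
    induction k with
    | zero => simp
    | succ k ih =>
      rw [pow_succ, ← mul_assoc, ih, mul_inv_rev]
      have h1 : e * x = x⁻¹ * e := by
        calc e * x = e * x * (e * e) := by rw [hee, mul_one]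
          _ = (e * x * e) * e := by group
          _ = x⁻¹ * e := by rw [hexe]
      calc (x ^ k)⁻¹ * e * x = (x ^ k)⁻¹ * (e * x) := by group
        _ = (x ^ k)⁻¹ * (x⁻¹ * e) := by rw [h1]
        _ = ((x ^ k)⁻¹ * x⁻¹) * e := by group
        _ = (x * x ^ k)⁻¹ * e := by rw [mul_inv_rev x (x ^ k)]
        _ = (x ^ k * x)⁻¹ * e := by rw [pow_mul_comm']
        _ = x⁻¹ * (x ^ k)⁻¹ * e := by rw [mul_inv_rev (x ^ k) x]
  -- conjugating `e` by powers
  have hce : ∀ k : ℕ, x ^ k * e * (x ^ k)⁻¹ = x ^ (2 * k) * e := by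
    intro k
    have h1 : e * (x ^ k)⁻¹ = x ^ k * e := by
      have h2 := hxe k
      have h3 : x ^ k = e * (x ^ k)⁻¹ * e := by
        calc x ^ k = (e * e) * x ^ k := by rw [hee, one_mul]
          _ = e * (e * x ^ k) := by group
          _ = e * ((x ^ k)⁻¹ * e) := by rw [h2]
          _ = _ := by group
      calc e * (x ^ k)⁻¹ = e * (x ^ k)⁻¹ * (e * e) := by rw [hee, mul_one]
        _ = (e * (x ^ k)⁻¹ * e) * e := by group
        _ = x ^ k * e := by rw [← h3]
    rw [mul_assoc, h1, ← mul_assoc, ← pow_add, two_mul]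
  have hd : d = e * x := by rw [hx, ← mul_assoc, hee, one_mul]
  have hn : 0 < orderOf x := orderOf_pos x
  rcases Nat.even_or_odd' (orderOf x) with ⟨m, hm | hm⟩
  · right
    have hm0 : 0 < m := by omega
    have h1 : x ^ m ≠ 1 := by
      intro h
      have := Nat.le_of_dvd hm0 (orderOf_dvd_of_pow_eq_one h)
      omega
    have h2 : x ^ m * x ^ m = 1 := by
      rw [← pow_add, ← two_mul, ← hm, pow_orderOf_eq_one]
    have h2i : (x ^ m)⁻¹ = x ^ m := inv_eq_of_mul_eq_one_left h2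
    have h3 : e * x ^ m = x ^ m * e := by rw [hxe, h2i]
    refine ⟨m, h1, h2, ?_⟩
    rcases Nat.even_or_odd' m with ⟨j, hj | hj⟩
    · refine ⟨x ^ j, Or.inl ?_⟩
      rw [hce, ← hj, h3]
    · refine ⟨x ^ j * e, Or.inr ?_⟩
      have h4 : e * d * e⁻¹ = x * e := by rw [hei, hx]
      calc x ^ j * e * d * (x ^ j * e)⁻¹ = x ^ j * (e * d * e⁻¹) * (x ^ j)⁻¹ := by group
        _ = x ^ j * (x * e) * (x ^ j)⁻¹ := by rw [h4]
        _ = (x ^ j * x) * e * (x ^ j)⁻¹ := by group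
        _ = (x * x ^ j) * e * (x ^ j)⁻¹ := by rw [pow_mul_comm']
        _ = x * (x ^ j * e * (x ^ j)⁻¹) := by group
        _ = x * (x ^ (2 * j) * e) := by rw [hce]
        _ = x ^ (2 * j + 1) * e := by rw [pow_succ' x (2 * j)]; group
        _ = x ^ m * e := by rw [← hj]
        _ = e * x ^ m := h3.symm
  · left
    -- `x ^ (2m+1) = 1`
    have h1 : x ^ (2 * m + 1) = 1 := by rw [← hm, pow_orderOf_eq_one]
    refine ⟨m, ?_⟩
    rw [hce]
    have h2 : x ^ (2 * m) = x⁻¹ := by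
      rw [pow_succ] at h1
      exact eq_inv_of_mul_eq_one_left h1
    rw [h2, hx, mul_inv_rev, hei, hdi, mul_assoc, hee, mul_one]

section two

variable [Finite L] {z : L} {A B : Subgroup L} (hz : Dat z A B)
  (hnf : ∀ t ∈ DD z, t * z = z * t → t ∈ A ⊓ B) (hUD : ∀ u ∈ A ⊓ B, u ≠ 1 → u ∈ DD z)
include hz hnf

theorem nf_all {x : L} (hxD : x ∈ DD z) {A' B' : Subgroup L} (hx : Dat x A' B') : ∀ t ∈ DD z, t * x = x * t → t ∈ A' ⊓ B' := by
  intro t ht htx
  obtain ⟨g, rfl⟩ := hxD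
  have h1 : g⁻¹ * t * g ∈ A ⊓ B := by
    apply hnf
    · have := DD_conj z g⁻¹ t ht
      rwa [inv_inv] at this
    · calc g⁻¹ * t * g * z = g⁻¹ * (t * (g * z * g⁻¹)) * g := by group
        _ = g⁻¹ * (g * z * g⁻¹ * t) * g := by rw [htx]
        _ = z * (g⁻¹ * t * g) := by group
  rcases (hz.conj g).uniq hx with ⟨h2, h3⟩ | ⟨h2, h3⟩
  · rw [h2, h3]
    exact ⟨mem_conj.2 h1.1, mem_conj.2 h1.2⟩
  · rw [h2, h3]
    exact ⟨mem_conj.2 h1.2, mem_conj.2 h1.1⟩

include hUD

theorem datU {u : L} (hu : u ∈ A ⊓ B) (hu1 : u ≠ 1) : Dat u A B := by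
  obtain ⟨A', B', h⟩ := exists_dat hz (hUD u hu hu1)
  rcases hz.near h hu with ⟨rfl, rfl⟩ | ⟨rfl, rfl⟩
  · exact h
  · exact h.symm

/-- `N(A) ∩ C(y) = A` -/
theorem claim1 {n y : L} (hy : y ∈ A) (hyB : y ∉ B) (hny : n * y = y * n) (hA : ∀ a ∈ A, n * a * n⁻¹ ∈ A)
    (hU : ∀ u ∈ A ⊓ B, n * u * n⁻¹ ∈ A ⊓ B) : n ∈ A := by
  by_contra hn
  have hf : ∀ u ∈ A ⊓ B, u ≠ 1 → n * u * n⁻¹ ≠ u := by
    intro u hu hu1 h
    apply hn
    exact TwoL.cent (datU hz hnf hUD hu hu1).two hy hyB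
      (mem_centralizer_singleton_iff.2 (mul_inv_eq_iff_eq_mul.1 h)) hny
  obtain ⟨t, htU, ht1, htz, e1, e2, e3⟩ := cycle hz hU hf
  have h3 : n * n * n ∈ A := by
    refine TwoL.cent hz.two hy hyB (mem_centralizer_singleton_iff.2 (mul_inv_eq_iff_eq_mul.1 ?_)) ?_
    · calc n * n * n * z * (n * n * n)⁻¹ = n * (n * (n * z * n⁻¹) * n⁻¹) * n⁻¹ := by group
        _ = z := by rw [e1, e2, e3]
    · have hc : Commute n y := hny
      exact ((hc.mul_left hc).mul_left hc).eq
  exact no_triv hz (triv_A hz hy hyB hny hA hU h3) hU hf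

/-- elements of the class commuting with `y ∈ A \ B` lie in `A ⊓ B` -/
theorem claim2 (hU : ∃ t ∈ A ⊓ B, t ≠ 1 ∧ t ≠ z) {y d : L} (hy : y ∈ A) (hyB : y ∉ B) (hd : d ∈ DD z)
    (hdy : d * y = y * d) : d ∈ A ⊓ B := by
  by_contra hdU
  obtain ⟨Ad, Bd, hdd⟩ := exists_dat hz hd
  have key : ∀ e ∈ A ⊓ B, e ≠ 1 → ∃ g : L, g * y = y * g ∧ g * e * g⁻¹ = d := by
    intro e he he1
    have hey : e * y = y * e := TwoE.comm_of_sq hz.two.sq₁ he.1 hy
    have hcom : ∀ k : ℕ, Commute ((e * d) ^ k) y := fun k =>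
      (Commute.mul_left (show Commute e y from hey) (show Commute d y from hdy)).pow_left k
    have hde := datU hz hnf hUD he he1
    rcases conj_or (TwoL.sqU hz.two e he) (TwoL.zz hdd.two) with ⟨k, hk⟩ | ⟨k, hk1, hk2, g, hg⟩
    · exact ⟨_, (hcom k).eq, hk⟩
    · exfalso
      have hcD : e * (e * d) ^ k ∈ DD z := by
        rcases hg with hg | hg
        · rw [← hg]; exact DD_conj z g e (hUD e he he1)
        · rw [← hg]; exact DD_conj z g d hd
      have hee := TwoL.sqU hz.two e he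
      have hddd := TwoL.zz hdd.two
      -- `(e d)^k` commutes with `e` and `d`
      have hinv : ((e * d) ^ k)⁻¹ = (e * d) ^ k := inv_eq_of_mul_eq_one_left hk2
      have hei : e⁻¹ = e := inv_eq_of_mul_eq_one_left hee
      have hdi : d⁻¹ = d := inv_eq_of_mul_eq_one_left hddd
      have hce : e * (e * d) ^ k * e⁻¹ = (e * d) ^ k := by
        have h1 : e * (e * d) ^ k * e⁻¹ = (e * (e * d) * e⁻¹) ^ k := by
          rw [conj_pow]
        have h2 : e * (e * d) * e⁻¹ = (e * d)⁻¹ := by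
          rw [mul_inv_rev, hei, hdi, ← mul_assoc, hee, one_mul]
        rw [h1, h2, inv_pow, hinv]
      have hcd : (e * d) ^ k * (e * d) = (e * d) * (e * d) ^ k := pow_mul_comm' _ _
      have hce' : (e * d) ^ k * e = e * (e * d) ^ k := (mul_inv_eq_iff_eq_mul.1 hce).symm
      have hcd' : d * (e * d) ^ k = (e * d) ^ k * d := by
        apply mul_left_cancel (a := e)
        calc e * (d * (e * d) ^ k) = (e * d) * (e * d) ^ k := by group
          _ = (e * d) ^ k * (e * d) := hcd.symm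
          _ = ((e * d) ^ k * e) * d := by group
          _ = (e * (e * d) ^ k) * d := by rw [hce']
          _ = e * ((e * d) ^ k * d) := by group
      have h1 : e * (e * d) ^ k ∈ A ⊓ B := by
        apply nf_all hz hnf (hUD e he he1) hde _ hcD
        rw [mul_assoc, hce']
      have h2 : (e * d) ^ k ∈ A ⊓ B := by
        have : (e * d) ^ k = e⁻¹ * (e * (e * d) ^ k) := by group
        rw [this]
        exact mul_mem (inv_mem he) h1
      exact hdU (nf_all hz hnf (hUD _ h2 hk1) (datU hz hnf hUD h2 hk1) d hd hcd')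
  obtain ⟨t, htU, ht1, htz⟩ := hU
  obtain ⟨g1, hg1y, hg1⟩ := key z hz.self_mem hz.two.z_ne
  obtain ⟨g2, hg2y, hg2⟩ := key t htU ht1
  set! n := g2⁻¹ * g1 with hn
  have hnz : n * z * n⁻¹ = t := by
    calc n * z * n⁻¹ = g2⁻¹ * (g1 * z * g1⁻¹) * g2 := by rw [hn]; group
      _ = g2⁻¹ * (g2 * t * g2⁻¹) * g2 := by rw [hg1, hg2]
      _ = t := by group
  have hny : n * y = y * n := by
    have h1 : Commute g1 y := hg1y
    have h2 : Commute g2 y := hg2y
    exact (h2.inv_left.mul_left h1).eq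
  have hnyi : n⁻¹ * y * n = y := by
    calc n⁻¹ * y * n = n⁻¹ * (y * n) := by group
      _ = n⁻¹ * (n * y) := by rw [hny]
      _ = y := by group
  have h1 := hz.conj n
  rw [hnz] at h1
  have hdt := datU hz hnf hUD htU ht1
  have h2 : A.map (MulAut.conj n).toMonoidHom = A ∧ B.map (MulAut.conj n).toMonoidHom = B := by
    rcases hdt.uniq h1 with h | ⟨h, -⟩
    · exact h
    · exfalso
      apply hyB
      rw [← h, mem_conj, hnyi]
      exact hy
  have hnA : ∀ a ∈ A, n * a * n⁻¹ ∈ A := by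
    intro a ha
    have h3 : n * a * n⁻¹ ∈ A.map (MulAut.conj n).toMonoidHom := ⟨a, ha, rfl⟩
    rwa [h2.1] at h3
  have hnB : ∀ a ∈ B, n * a * n⁻¹ ∈ B := by
    intro a ha
    have h3 : n * a * n⁻¹ ∈ B.map (MulAut.conj n).toMonoidHom := ⟨a, ha, rfl⟩
    rwa [h2.2] at h3
  have h4 := claim1 hz hnf hUD hy hyB hny hnA (fun u hu => ⟨hnA u hu.1, hnB u hu.2⟩)
  apply htz
  rw [← hnz, TwoE.comm_of_sq hz.two.sq₁ h4 hz.self_mem.1, mul_inv_cancel_right]

/-- the class has `3` elements modulo `64` -/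
theorem card_mod (hU : ∃ t ∈ A ⊓ B, t ≠ 1 ∧ t ≠ z) : Nat.card (DD z) % 64 = 3 := by
  have hsymm : ∀ t ∈ DD z, t * z = z * t → t ∈ B ⊓ A := fun t h1 h2 => (hnf t h1 h2).symm
  have hUD' : ∀ u ∈ B ⊓ A, u ≠ 1 → u ∈ DD z := fun u h1 h2 => hUD u h1.symm h2
  have hU' : ∃ t ∈ B ⊓ A, t ≠ 1 ∧ t ≠ z := by
    obtain ⟨t, h1, h2⟩ := hU
    exact ⟨t, h1.symm, h2⟩
  have hfU : Finite (A ⊓ B : Subgroup L) := inferInstance
  have h3 : Nat.card {u : L // u ∈ A ⊓ B ∧ u ≠ 1} = 3 := by
    have h1 : Nat.card {u : (A ⊓ B : Subgroup L) // u ≠ 1} = 3 := by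
      classical
      have hF := Fintype.ofFinite (A ⊓ B : Subgroup L)
      rw [Nat.card_eq_fintype_card, Fintype.card_subtype_compl, Fintype.card_subtype_eq, ← Nat.card_eq_fintype_card,
        hz.two.inter]
    rw [← h1]
    exact Nat.card_congr ⟨fun u => ⟨⟨u.1, u.2.1⟩, fun h => u.2.2 (congrArg Subtype.val h)⟩,
      fun u => ⟨u.1.1, u.1.2, fun h => u.2 (Subtype.ext h)⟩, fun u => rfl, fun u => rfl⟩
  have key := burn (DD z) (fun g x hx => DD_conj z g x hx) (A ⊔ B) 3 (by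
    intro g hg hg1
    rw [← h3]
    refine Nat.card_congr (Equiv.subtypeEquivRight fun d => ?_)
    constructor
    · rintro ⟨hd, hgd⟩
      have hd1 : d ≠ 1 := by
        obtain ⟨A', B', h⟩ := exists_dat hz hd
        exact h.two.z_ne
      refine ⟨?_, hd1⟩
      -- a power of `g` of order two
      have hg2 : ∃ k : ℕ, g ^ k ≠ 1 ∧ g ^ k * g ^ k = 1 := by
        have hdvd : orderOf g ∣ 2 ^ 6 := by
          have h1 := Subgroup.orderOf_dvd_natCard (A ⊔ B) hg
          rw [TwoL.card_J hz.two] at h1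
          exact h1
        obtain ⟨m, -, hm⟩ := (Nat.dvd_prime_pow Nat.prime_two).1 hdvd
        have hm0 : m ≠ 0 := by
          rintro rfl
          rw [pow_zero, orderOf_eq_one_iff] at hm
          exact hg1 hm
        obtain ⟨m', rfl⟩ := Nat.exists_eq_succ_of_ne_zero hm0
        refine ⟨2 ^ m', ?_, ?_⟩
        · intro h
          have h1 := Nat.le_of_dvd (by positivity) (orderOf_dvd_of_pow_eq_one h)
          rw [hm, Nat.succ_eq_add_one, pow_succ] at h1
          have : 0 < 2 ^ m' := by positivity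
          omega
        · rw [← pow_add, ← two_mul, ← pow_succ', ← Nat.succ_eq_add_one, ← hm, pow_orderOf_eq_one]
      obtain ⟨k, hk1, hk2⟩ := hg2
      have hkJ : g ^ k ∈ A ⊔ B := pow_mem hg k
      have hkd : d * g ^ k = g ^ k * d := by
        have h1 : Commute g d := hgd
        exact ((h1.pow_left k).eq).symm
      have hkAB : g ^ k ∈ A ∨ g ^ k ∈ B := by
        obtain ⟨a, ha, b, hb, hab⟩ := (hz.two.mem_sup _).1 hkJ
        rw [hab]
        exact hz.two.sq_mul ha hb (by rw [← hab]; exact hk2)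
      by_cases hkA : g ^ k ∈ A
      · by_cases hkB : g ^ k ∈ B
        · exact nf_all hz hnf (hUD _ ⟨hkA, hkB⟩ hk1) (datU hz hnf hUD ⟨hkA, hkB⟩ hk1) d hd hkd
        · exact claim2 hz hnf hUD hU hkA hkB hd hkd
      · exact (claim2 hz.symm hsymm hUD' hU' (hkAB.resolve_left hkA) hkA hd hkd).symm
    · rintro ⟨hd, hd1⟩
      exact ⟨hUD d hd hd1, hz.two.comm_inf hg hd⟩)
  rw [TwoL.card_J hz.two] at key
  omega

end two

end Cfsg.Agent.H223.J3Pron
end

-- part: H223/J3Pron/FusThree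
section
/-!
# Overgroups of the Sylow 2-subgroup of `J₂`, `J₃`: the class of `z` meets `C(z)` outside `A ∩ B` (helper223)

Then all the involutions of `A ∪ B` are in the class, the class has `11` elements modulo `16` and `15` divides it.
-/

set_option autoImplicit false
set_option linter.unusedSectionVars false

namespace Cfsg.Agent.H223.J3Pron

open Subgroup Cfsg.Agent.H788.SF

variable {L : Type*} [Group L] {z : L}

/-- elements of the class inside `A` -/
theorem datA {A B : Subgroup L} (hz : Dat z A B) {x : L} (hx : x ∈ DD z) (hxA : x ∈ A) : ∃ B', Dat x A B' := by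
  obtain ⟨A1, B1, h⟩ := exists_dat hz hx
  rcases hz.far h hxA with rfl | rfl
  · exact ⟨B1, h⟩
  · exact ⟨A1, h.symm⟩

theorem inter_one {A0 B0 : Subgroup L} (hz : Dat z A0 B0) {A B B' : Subgroup L} {x y : L} (hx : Dat x A B)
    (hy : Dat y A B') (hyD : y ∈ DD z) (hyB : y ∉ B) {e : L} (heA : e ∈ A) (heB : e ∈ B) (heB' : e ∈ B') : e = 1 := by
  by_contra he1
  have hyA : y ∈ A := hy.self_mem.1
  obtain ⟨b, -, hb⟩ := TwoL.orb hx.two hyA hyB ⟨heA, heB⟩
  have h1 : e * y ∈ DD z := by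
    rw [← hb]
    exact DD_conj z b y hyD
  have h2 : e * y ∈ A ⊓ B' := mul_mem ⟨heA, heB'⟩ hy.self_mem
  have h3 : e * y ≠ y := fun h => he1 (by simpa using h)
  have h4 : e * y ≠ 1 := by
    intro h
    apply hyB
    have h5 : y = e⁻¹ := (inv_eq_of_mul_eq_one_right h).symm
    rw [h5]; exact inv_mem heB
  have h5 := U_DD hy hyD h1 h2 h4 h3 e ⟨heA, heB'⟩ he1
  obtain ⟨A1, B1, h6⟩ := exists_dat hz h5
  have hne := hx.two.ne
  have hne' := hy.two.ne
  have h7 : B = B' := by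
    rcases hx.near h6 ⟨heA, heB⟩ with ⟨h8, h9⟩ | ⟨h8, h9⟩ <;> rcases hy.near h6 ⟨heA, heB'⟩ with ⟨h10, h11⟩ | ⟨h10, h11⟩
    · rw [← h9, ← h11]
    · exact absurd (h8.symm.trans h10) hne'
    · exact absurd (h10.symm.trans h8) hne
    · rw [← h8, ← h10]
  apply hyB
  rw [h7]
  exact hy.self_mem.2

section three

variable {A B B' : Subgroup L} {t : L} (hz : Dat z A B) (ht : Dat t A B') (htD : t ∈ DD z) (htB : t ∉ B)

/-- `B` normalises `A` -/
theorem B_norm {x : L} {A B : Subgroup L} (hx : Dat x A B) : B ≤ normalizer (A : Set L) := by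
  intro b hb
  have hfA := hx.two.finite₁
  exact mem_norm fun a ha => hx.two.conj_mem₁ (mem_sup_right hb) ha

/-- conjugacy under the normalizer of `A` -/
def Rel (A : Subgroup L) (a b : L) : Prop := ∃ g ∈ normalizer (A : Set L), g * a * g⁻¹ = b

theorem Rel.trans {A : Subgroup L} {a b c : L} (h : Rel A a b) (h' : Rel A b c) : Rel A a c := by
  obtain ⟨g, hg, rfl⟩ := h
  obtain ⟨k, hk, rfl⟩ := h'
  exact ⟨k * g, mul_mem hk hg, by group⟩

theorem rel_step {x : L} {A B : Subgroup L} (hx : Dat x A B) {a u : L} (ha : a ∈ A) (haB : a ∉ B) (hu : u ∈ A ⊓ B) :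
    Rel A a (u * a) := by
  obtain ⟨b, hb, h⟩ := TwoL.orb hx.two ha haB hu
  exact ⟨b, B_norm hx hb, h⟩

include hz ht htD htB

/-- `A` is the product of `A ⊓ B` and `A ⊓ B'` -/
theorem exists_mul {a : L} (ha : a ∈ A) : ∃ u ∈ A ⊓ B, ∃ w ∈ A ⊓ B', a = u * w := by
  have h1 : ∀ e ∈ A, e ∈ B → e ∈ B' → e = 1 := fun e h2 h3 h4 => inter_one hz hz ht htD htB h2 h3 h4
  have hfA := hz.two.finite₁
  have hfU : Finite (A ⊓ B : Subgroup L) := Nat.finite_of_card_ne_zero (by rw [hz.two.inter]; norm_num)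
  have hfW : Finite (A ⊓ B' : Subgroup L) := Nat.finite_of_card_ne_zero (by rw [ht.two.inter]; norm_num)
  let f : (A ⊓ B : Subgroup L) × (A ⊓ B' : Subgroup L) → A := fun p => ⟨p.1.1 * p.2.1, A.mul_mem p.1.2.1 p.2.2.1⟩
  have hinj : Function.Injective f := by
    rintro ⟨u, w⟩ ⟨u', w'⟩ h
    have h2 : (u : L) * w = u' * w' := congrArg Subtype.val h
    have h3 : (u' : L)⁻¹ * u = w' * (w : L)⁻¹ := by
      calc (u' : L)⁻¹ * u = (u' : L)⁻¹ * (u * w) * (w : L)⁻¹ := by group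
        _ = (u' : L)⁻¹ * (u' * w') * (w : L)⁻¹ := by rw [h2]
        _ = _ := by group
    have h4 : (u' : L)⁻¹ * u = 1 := by
      apply h1 _ (mul_mem (inv_mem u'.2.1) u.2.1) (mul_mem (inv_mem u'.2.2) u.2.2)
      rw [h3]
      exact mul_mem w'.2.2 (inv_mem w.2.2)
    have h5 : (u : L) = u' := (inv_mul_eq_one.1 h4).symm
    have h6 : (w : L) = w' := by
      rw [h5] at h2
      exact mul_left_cancel h2
    rw [Subtype.ext h5, Subtype.ext h6]
  have hbij : Function.Bijective f := by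
    rw [Nat.bijective_iff_injective_and_card]
    refine ⟨hinj, ?_⟩
    rw [Nat.card_prod, hz.two.inter, ht.two.inter, hz.two.card₁]
  obtain ⟨⟨u, w⟩, h⟩ := hbij.2 ⟨a, ha⟩
  exact ⟨u, u.2, w, w.2, (congrArg Subtype.val h).symm⟩

/-- the normalizer of `A` is transitive on the involutions of `A` -/
theorem rel_all {a : L} (ha : a ∈ A) (ha1 : a ≠ 1) : Rel A z a := by
  have h1 : ∀ e ∈ A, e ∈ B → e ∈ B' → e = 1 := fun e h2 h3 h4 => inter_one hz hz ht htD htB h2 h3 h4
  have hzz : z * z = 1 := TwoL.zz hz.two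
  have htt : t * t = 1 := TwoL.zz ht.two
  have hzA := hz.self_mem
  have htA := ht.self_mem
  have hzB' : z ∉ B' := fun h => hz.two.z_ne (h1 z hzA.1 hzA.2 h)
  have hcA : ∀ a ∈ A, ∀ b ∈ A, a * b = b * a := fun a ha b hb => TwoE.comm_of_sq hz.two.sq₁ ha hb
  -- `z ~ w z` for `w ∈ A ⊓ B'`
  have s1 : ∀ w ∈ A ⊓ B', Rel A z (w * z) := fun w hw => rel_step ht hzA.1 hzB' hw
  -- `z ~ u w` for `w ≠ 1`
  have s2 : ∀ u ∈ A ⊓ B, ∀ w ∈ A ⊓ B', w ≠ 1 → Rel A z (u * w) := by
    intro u hu w hw hw1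
    have h2 : w * z ∉ B := by
      intro h
      apply hw1
      apply h1 w hw.1 _ hw.2
      have : w = (w * z) * z := by rw [mul_assoc, hzz, mul_one]
      rw [this]; exact mul_mem h hzA.2
    have h3 := rel_step hz (A.mul_mem hw.1 hzA.1) h2 (mul_mem hu hzA)
    have h4 : u * z * (w * z) = u * w := by
      rw [hcA w hw.1 z hzA.1]
      calc u * z * (z * w) = u * (z * z) * w := by group
        _ = u * w := by rw [hzz, mul_one]
    rw [h4] at h3
    exact (s1 w hw).trans h3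
  obtain ⟨u, hu, w, hw, rfl⟩ := exists_mul hz ht htD htB ha
  by_cases hw1 : w = 1
  · subst hw1
    rw [mul_one] at ha1 ⊢
    -- `u t ~ u`
    have h2 : u * t ∉ B' := by
      intro h
      apply ha1
      apply h1 u hu.1 hu.2
      have : u = (u * t) * t := by rw [mul_assoc, htt, mul_one]
      rw [this]; exact mul_mem h htA.2
    have h3 := rel_step ht (A.mul_mem hu.1 htA.1) h2 htA
    have h4 : t * (u * t) = u := by
      rw [hcA u hu.1 t htA.1, ← mul_assoc, htt, one_mul]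
    rw [h4] at h3
    exact (s2 u hu t htA ht.two.z_ne).trans h3
  · exact s2 u hu w hw hw1

theorem all_DD {a : L} (ha : a ∈ A) (ha1 : a ≠ 1) : a ∈ DD z := by
  obtain ⟨g, -, h⟩ := rel_all hz ht htD htB ha ha1
  exact ⟨g, h⟩

theorem fifteen [Finite L] : 15 ∣ Nat.card (DD z) := by
  have hzA := hz.self_mem.1
  have hzN : z ∈ normalizer (A : Set L) := le_normalizer hzA
  have h1 := Cfsg.Agent.J2Type.CStruct.card_conj (⟨z, hzN⟩ : normalizer (A : Set L))
  have h2 : Nat.card {y : normalizer (A : Set L) // ∃ k : normalizer (A : Set L),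
      k * (⟨z, hzN⟩ : normalizer (A : Set L)) * k⁻¹ = y} = 15 := by
    have h3 : Nat.card {u : A // u ≠ 1} = 15 := by
      classical
      have hF := Fintype.ofFinite A
      rw [Nat.card_eq_fintype_card, Fintype.card_subtype_compl, Fintype.card_subtype_eq, ← Nat.card_eq_fintype_card,
        hz.two.card₁]
    rw [← h3]
    refine Nat.card_congr ⟨fun y => ⟨⟨y.1, ?_⟩, ?_⟩, fun u => ⟨⟨u, le_normalizer u.1.2⟩, ?_⟩, fun y => rfl, fun y => rfl⟩
    · obtain ⟨k, hk⟩ := y.2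
      rw [← hk]
      exact (mem_normalizer_iff.1 k.2 z).1 hzA
    · obtain ⟨k, hk⟩ := y.2
      intro h
      apply hz.two.z_ne
      have h4 : ((y.1 : normalizer (A : Set L)) : L) = 1 := congrArg Subtype.val h
      rw [← hk] at h4
      have h5 : (k : L) * z * (k : L)⁻¹ = 1 := h4
      have : z = (k : L)⁻¹ * ((k : L) * z * (k : L)⁻¹) * k := by group
      rw [this, h5]; group
    · obtain ⟨g, hg, h⟩ := rel_all hz ht htD htB u.1.2 (fun h => u.2 (Subtype.ext h))
      exact ⟨⟨g, hg⟩, Subtype.ext h⟩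
  rw [h2] at h1
  have h3 : Nat.card (normalizer (A : Set L)) ∣ Nat.card L := Subgroup.card_subgroup_dvd_card _
  have h4 : 15 ∣ 128 * Nat.card (DD z) := by
    rw [← card_DD hz]
    exact dvd_trans ⟨_, h1.symm⟩ h3
  exact (Nat.Coprime.dvd_mul_left (by norm_num)).1 h4

theorem card_mod16 [Finite L] : Nat.card (DD z) % 16 = 11 := by
  have key := burn (DD z) (fun g x hx => DD_conj z g x hx) A 27 (by
    intro a ha ha1
    have haD := all_DD hz ht htD htB ha ha1
    obtain ⟨Ba, hda⟩ := datA hz haD ha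
    have hBa : ∀ b ∈ Ba, b ≠ 1 → b ∈ DD z := by
      intro b hb hb1
      obtain ⟨s, hs, hsJ⟩ := TwoL.exists_outer hda.two
      have h1 := (hda.two.outer hs hsJ).2.1 b hb
      apply DD_conj' z s
      apply all_DD hz ht htD htB h1
      intro h
      apply hb1
      have : b = s⁻¹ * (s * b * s⁻¹) * s := by group
      rw [this, h]; group
    have h1 : {x : L | x ∈ DD z ∧ a * x = x * a} = ((A : Set L) ∪ (Ba : Set L)) \ {1} := by
      ext x
      constructor
      · rintro ⟨hx, hax⟩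
        obtain ⟨A1, B1, h2⟩ := exists_dat hz hx
        exact ⟨hda.noout h2 hax.symm, fun h => h2.two.z_ne h⟩
      · rintro ⟨hx | hx, hx1⟩
        · exact ⟨all_DD hz ht htD htB hx hx1, TwoE.comm_of_sq hda.two.sq₁ ha hx⟩
        · exact ⟨hBa x hx hx1, TwoE.comm_of_sq hda.two.sq₂ hda.self_mem.2 hx⟩
    have h2 : ((A : Set L) ∪ (Ba : Set L)).ncard = 28 := by
      have h3 := Set.ncard_union_add_ncard_inter (A : Set L) (Ba : Set L) (Set.toFinite _) (Set.toFinite _)
      have h4 : ((A : Set L) ∩ (Ba : Set L)).ncard = 4 := by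
        rw [← hda.two.inter]; rfl
      have h5 : (A : Set L).ncard = 16 := by rw [← hda.two.card₁]; rfl
      have h6 : (Ba : Set L).ncard = 16 := by rw [← hda.two.card₂]; rfl
      omega
    have h3 : (((A : Set L) ∪ (Ba : Set L)) \ {1}).ncard = 27 := by
      rw [Set.ncard_sdiff_singleton_of_mem (show (1 : L) ∈ (A : Set L) ∪ (Ba : Set L) from Or.inl A.one_mem), h2]
    rw [← h1] at h3
    exact h3)
  rw [hz.two.card₁] at key
  omega

end three

/-- **The three cases.** -/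
theorem cases [Finite L] {A B : Subgroup L} (hz : Dat z A B) :
    (∀ g : L, (g * z * g⁻¹) * z = z * (g * z * g⁻¹) → g * z * g⁻¹ = z) ∨
    (Nat.card (DD z) % 64 = 3 ∧ (∀ u ∈ A ⊓ B, u ≠ 1 → u ∈ DD z)) ∨
    (Nat.card (DD z) % 16 = 11 ∧ 15 ∣ Nat.card (DD z) ∧ ∃ t ∈ DD z, t ∈ A ∧ t ∉ B ∨ t ∈ B ∧ t ∉ A) := by
  by_cases h3 : ∃ t ∈ DD z, t * z = z * t ∧ t ∉ A ⊓ B
  · right; right
    obtain ⟨t, htD, htz, htU⟩ := h3
    obtain ⟨A1, B1, h⟩ := exists_dat hz htD
    rcases hz.noout h htz with hA | hB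
    · have hB : t ∉ B := fun h => htU ⟨hA, h⟩
      obtain ⟨B', ht⟩ := datA hz htD hA
      exact ⟨card_mod16 hz ht htD hB, fifteen hz ht htD hB, t, htD, Or.inl ⟨hA, hB⟩⟩
    · have hA : t ∉ A := fun h => htU ⟨h, hB⟩
      obtain ⟨B', ht⟩ := datA hz.symm htD hB
      exact ⟨card_mod16 hz.symm ht htD hA, fifteen hz.symm ht htD hA, t, htD, Or.inr ⟨hB, hA⟩⟩
  · push Not at h3
    by_cases h2 : ∃ t ∈ DD z, t * z = z * t ∧ t ≠ z
    · right; left
      obtain ⟨t, htD, htz, htne⟩ := h2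
      have htU := h3 t htD htz
      have ht1 : t ≠ 1 := by
        obtain ⟨A1, B1, h⟩ := exists_dat hz htD
        exact h.two.z_ne
      have hUD := U_DD hz (self_DD z) htD htU ht1 htne
      exact ⟨card_mod hz h3 hUD ⟨t, htU, ht1, htne⟩, hUD⟩
    · left
      push Not at h2
      intro g hg
      exact h2 _ ⟨g, rfl⟩ hg

end Cfsg.Agent.H223.J3Pron
end

-- part: H223/J3Pron/Model
section
/-!
# Overgroups of the Sylow 2-subgroup of `J₂`, `J₃`: the model of the involution centralizer (helper223)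
-/

set_option autoImplicit false

namespace Cfsg.Agent.H223.J3Pron

open Subgroup Cfsg.Agent.H788.SF Cfsg.Agent.H788.SF.JModel
open Cfsg.Agent.J2Type.Model Cfsg.Agent.J2Type.CStruct Cfsg.Agent.J2Type.SPFacts Cfsg.Agent.J3Type.Loc
open Cfsg.Agent.J3Type.OneClass

theorem V4_fix : ∀ a ∈ V4, ∀ i : Fin 5, i ≠ 4 → a i = i → a = 1 := by decide +kernel

theorem V4_norm : ∀ σ : Equiv.Perm (Fin 5), σ 4 = 4 → ∀ a ∈ V4, σ * a * σ⁻¹ ∈ V4 := by (simp only [↓Cfsg.Agent.PermCode.M, Cfsg.Agent.PermCode.P5.R, Cfsg.Agent.PermCode.B]; decide +kernel)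

theorem norm_cases : ∀ σ : Equiv.Perm (Fin 5), Equiv.Perm.sign σ = 1 → (∀ a ∈ V4, σ * a * σ⁻¹ ∈ V4) →
    σ ∈ V4 ∨ σ * τ3 ∈ V4 ∨ σ * τ3 * τ3 ∈ V4 := by (simp only [↓Cfsg.Agent.PermCode.M, Cfsg.Agent.PermCode.P5.R, Cfsg.Agent.PermCode.B]; decide +kernel)

theorem word_cases : ∀ σ : Equiv.Perm (Fin 5), Equiv.Perm.sign σ = 1 → σ ∉ V4 → ∃ a ∈ V4, ∃ b ∈ V4,
    σ * a * σ * b * σ⁻¹ * τ3 ∈ V4 ∨ σ * a * σ * b * σ⁻¹ * τ3 * τ3 ∈ V4 := by (simp only [↓Cfsg.Agent.PermCode.M, Cfsg.Agent.PermCode.P5.R, Cfsg.Agent.PermCode.B]; decide +kernel)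

section C

variable {C : Type*} [Group C] {Q : Subgroup C} {z : C} {v : Fin 5 → C} {ρ : C →* SP}

theorem sq_Q (M : IsModel Q z v ρ) {c : C} (hc : c ∈ Q) : c * c = 1 ∨ c * c = z := by
  apply (M.ker _).1
  have h1 := (M.mem_Q c).1 hc
  rw [map_mul]
  apply SP.ext
  · rw [mul_σ, h1]; rfl
  · funext i
    rw [mul_s, h1]
    show (ρ c).s i + (ρ c).s i = 0
    exact CharTwo.add_self_eq_zero _

theorem twoX (M : IsModel Q z v ρ) {f : C} (hf : ρ f = g0) (hf2 : f * f = 1) :
    TwoX (Tc ρ) z (centralizer ({f} : Set C)) (centralizer ({v 3 * f * (v 3)⁻¹} : Set C)) := by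
  refine ⟨twoE M hf hf2, ?_⟩
  intro t ht htt hA hB
  have htQ : t ∈ Q := by
    rcases invol_cases M hf hf2 ht htt with h | h | h
    · exact h
    · exact absurd h hA
    · exact absurd h hB
  have ht1 : t ≠ 1 := by rintro rfl; exact hA (one_mem _)
  rcases invol_Q M htQ htt ht1 with rfl | ⟨a, i, rfl⟩
  · exact absurd (twoE M hf hf2).z_mem.1 hA
  · have hi : i ≠ 4 := by
      rintro rfl
      apply hA
      rw [mem_E₁ M hf hf2, map_mul, rho_zp M, one_mul, rho_v M 4]
      exact p4_B.1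
    constructor
    · obtain ⟨j, k, hjk, hji, hki⟩ := jk_aux i
      refine ⟨v j * v k, Q_le M (Q.mul_mem (M.v_mem j) (M.v_mem k)), ?_, vv_sq M hjk⟩
      have h1 : v j * v k * v i = v i * (v j * v k) := by
        calc v j * v k * v i = v j * (v k * v i) := by group
          _ = v j * (z * (v i * v k)) := by rw [M.v_anti k i hki]
          _ = (v j * z) * (v i * v k) := by group
          _ = (z * v j) * (v i * v k) := by rw [M.z_comm]
          _ = z * (v j * v i) * v k := by group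
          _ = z * (z * (v i * v j)) * v k := by rw [M.v_anti j i hji]
          _ = (z * z) * (v i * (v j * v k)) := by group
          _ = v i * (v j * v k) := by rw [M.z_sq, one_mul]
      exact ((comm_zp_mul M a (v i) (v j * v k)).2 h1.symm).symm
    · intro c hc hct
      apply sq_Q M
      have h1 : v i * c = c * v i := (comm_zp_mul M a (v i) c).1 hct.symm
      have h2 : c * v i * c⁻¹ = zp z 0 * v i := by
        rw [zp_zero, one_mul, ← h1, mul_inv_cancel_right]
      rw [M.conj] at h2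
      have h3 := (M.v_inj _ _ _ _ h2).2
      rw [M.mem_Q]
      exact V4_fix _ hc i hi h3

/-- elements fixing the letter `4` normalise `T` -/
theorem norm_Tc {c x : C} (hc : (ρ c).σ 4 = 4) (hx : x ∈ Tc ρ) : c * x * c⁻¹ ∈ Tc ρ := by
  rw [mem_Tc] at hx ⊢
  rw [map_mul, map_mul, map_inv, mul_σ, mul_σ, inv_σ]
  exact V4_norm _ hc _ hx

theorem exists_V4 (M : IsModel Q z v ρ) {a : Equiv.Perm (Fin 5)} (ha : a ∈ V4) : ∃ c ∈ Tc ρ, (ρ c).σ = a := by
  obtain ⟨c, hc⟩ := (M.range ⟨a, fun _ => 0⟩).2 ⟨V4_sign a ha, by simp⟩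
  refine ⟨c, ?_, by rw [hc]⟩
  rw [mem_Tc, hc]; exact ha

theorem norm_Tc_cases (M : IsModel Q z v ρ) {w : C} (hw : ρ w = g3) {n : C} (hn : ∀ x ∈ Tc ρ, n * x * n⁻¹ ∈ Tc ρ) :
    n ∈ Tc ρ ∨ n * w ∈ Tc ρ ∨ n * w * w ∈ Tc ρ := by
  have h1 := norm_cases (ρ n).σ ((M.range (ρ n)).1 ⟨n, rfl⟩).1 (by
    intro a ha
    obtain ⟨c, hc, rfl⟩ := exists_V4 M ha
    have h2 := hn c hc
    rw [mem_Tc, map_mul, map_mul, map_inv, mul_σ, mul_σ, inv_σ] at h2
    exact h2)
  have e2 : (ρ (n * w)).σ = (ρ n).σ * τ3 := by rw [map_mul, hw, mul_σ]; rfl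
  have e3 : (ρ (n * w * w)).σ = (ρ n).σ * τ3 * τ3 := by rw [map_mul, hw, mul_σ, e2]; rfl
  rw [mem_Tc, mem_Tc, mem_Tc, e2, e3]
  exact h1

/-- a subgroup of `C` containing `T` properly contains an element `w` over `g3` -/
theorem over_T (M : IsModel Q z v ρ) {w : C} (hw : ρ w = g3) {H : Subgroup C} (hT : Tc ρ ≤ H) {h : C} (hh : h ∈ H)
    (hhT : h ∉ Tc ρ) : w ∈ H := by
  obtain ⟨a, ha, b, hb, hab⟩ := word_cases (ρ h).σ ((M.range (ρ h)).1 ⟨h, rfl⟩).1 hhT
  obtain ⟨x, hx, rfl⟩ := exists_V4 M ha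
  obtain ⟨y, hy, rfl⟩ := exists_V4 M hb
  set! g := h * x * h * y * h⁻¹ with hg
  have hgH : g ∈ H := H.mul_mem (H.mul_mem (H.mul_mem (H.mul_mem hh (hT hx)) hh) (hT hy)) (H.inv_mem hh)
  have hgσ : (ρ g).σ = (ρ h).σ * (ρ x).σ * (ρ h).σ * (ρ y).σ * (ρ h).σ⁻¹ := by
    rw [hg, map_mul, map_mul, map_mul, map_mul, map_inv, mul_σ, mul_σ, mul_σ, mul_σ, inv_σ]
  rcases hab with h1 | h1
  · have h2 : g * w ∈ Tc ρ := by
      rw [mem_Tc, map_mul, mul_σ, hgσ, hw]; exact h1
    have h3 : w = g⁻¹ * (g * w) := by group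
    rw [h3]
    exact H.mul_mem (H.inv_mem hgH) (hT h2)
  · have h2 : g * w * w ∈ Tc ρ := by
      rw [mem_Tc, map_mul, map_mul, mul_σ, mul_σ, hgσ, hw]; exact h1
    have h3 : w * w ∈ H := by
      have h4 : w * w = g⁻¹ * (g * w * w) := by group
      rw [h4]
      exact H.mul_mem (H.inv_mem hgH) (hT h2)
    have h5 : w * w * w ∈ H := by
      apply hT
      rw [mem_Tc, map_mul, map_mul, hw, mul_σ, mul_σ]
      decide +kernel
    have h6 : w = (w * w)⁻¹ * (w * w * w) := by group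
    rw [h6]
    exact H.mul_mem (H.inv_mem h3) h5

/-- an element of odd order commuting with half of `Q` is trivial -/
theorem odd_cent [Finite C] (M : IsModel Q z v ρ) (hQ : Nat.card Q = 32) {U : Subgroup C} (hU : U ≤ Q) (hU16 : 16 ≤ Nat.card U)
    {r : C} (hr : Odd (orderOf r)) (hrU : ∀ q ∈ U, r * q = q * r) : r = 1 := by
  have hQn : Q.Normal := normal_Q M
  obtain ⟨m, hm⟩ := hr
  -- `F`: the centralizer of `r` in `Q`
  set! F : Subgroup C := Q ⊓ centralizer ({r} : Set C) with hF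
  have hUF : U ≤ F := le_inf hU fun q hq => mem_centralizer_singleton_iff.2 (hrU q hq).symm
  have hF16 : 16 ≤ Nat.card F := hU16.trans (Subgroup.card_le_of_le hUF)
  have hcent : ∀ q ∈ Q, r * q = q * r := by
    intro q hq
    by_cases hqF : q ∈ F
    · exact (mem_centralizer_singleton_iff.1 hqF.2).symm
    -- the index of `F` in `Q` is two
    have hidx : (F.subgroupOf Q).index = 2 := by
      have h1 := Subgroup.card_mul_index (F.subgroupOf Q)
      rw [Nat.card_congr (Subgroup.subgroupOfEquivOfLe (inf_le_left : F ≤ Q)).toEquiv, hQ] at h1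
      have h2 : (F.subgroupOf Q).index ≠ 1 := by
        intro h
        rw [Subgroup.index_eq_one, Subgroup.subgroupOf_eq_top] at h
        exact hqF (h hq)
      have h3 : (F.subgroupOf Q).index ≠ 0 := by
        intro h; rw [h] at h1; omega
      have h4 : (F.subgroupOf Q).index ≤ 2 := by
        by_contra h5
        have h6 : 16 * 3 ≤ Nat.card F * (F.subgroupOf Q).index := Nat.mul_le_mul hF16 (by omega)
        rw [h1] at h6
        omega
      omega
    have hq1 : r * q * r⁻¹ ∈ Q := hQn.conj_mem q hq r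
    have hq1F : r * q * r⁻¹ ∉ F := by
      intro h
      apply hqF
      refine ⟨hq, mem_centralizer_singleton_iff.2 ?_⟩
      have h1 := mem_centralizer_singleton_iff.1 h.2
      calc q * r = r⁻¹ * (r * q * r⁻¹ * r) * r := by group
        _ = r⁻¹ * (r * (r * q * r⁻¹)) * r := by rw [h1]
        _ = r * q := by group
    have hc : r * q * r⁻¹ * q⁻¹ ∈ F := by
      have h1 := (Subgroup.mul_mem_iff_of_index_two hidx (a := ⟨_, hq1⟩) (b := ⟨q⁻¹, Q.inv_mem hq⟩)).2 (by
        rw [Subgroup.mem_subgroupOf, Subgroup.mem_subgroupOf]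
        exact ⟨fun h => absurd h hq1F, fun h => absurd (by
          have := F.inv_mem h
          rwa [inv_inv] at this) hqF⟩)
      exact h1
    set c := r * q * r⁻¹ * q⁻¹ with hcdef
    have hrc : Commute r c := (mem_centralizer_singleton_iff.1 hc.2).symm
    have hk : ∀ k : ℕ, r ^ k * q * (r ^ k)⁻¹ = c ^ k * q := by
      intro k
      induction k with
      | zero => simp
      | succ k ih =>
        have h1 : r * q * r⁻¹ = c * q := by rw [hcdef]; group
        calc r ^ (k + 1) * q * (r ^ (k + 1))⁻¹ = r ^ k * (r * q * r⁻¹) * (r ^ k)⁻¹ := by rw [pow_succ]; group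
          _ = r ^ k * (c * q) * (r ^ k)⁻¹ := by rw [h1]
          _ = (r ^ k * c) * q * (r ^ k)⁻¹ := by group
          _ = (c * r ^ k) * q * (r ^ k)⁻¹ := by rw [(hrc.pow_left k).eq]
          _ = c * (r ^ k * q * (r ^ k)⁻¹) := by group
          _ = c * (c ^ k * q) := by rw [ih]
          _ = c ^ (k + 1) * q := by rw [pow_succ']; group
    have h1 := hk (orderOf r)
    rw [pow_orderOf_eq_one, one_mul, inv_one, mul_one] at h1
    have h2 : c ^ orderOf r = 1 := by
      have h3 : c ^ orderOf r * q = 1 * q := by rw [← h1, one_mul]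
      exact mul_right_cancel h3
    have h3 : c ^ 32 = 1 := by
      have := Subgroup.orderOf_dvd_natCard Q hc.1
      rw [hQ] at this
      exact orderOf_dvd_iff_pow_eq_one.1 this
    have h4 : orderOf c ∣ 1 := by
      have h5 : Nat.Coprime (orderOf r) 32 := by
        rw [hm, show (32 : ℕ) = 2 ^ 5 by norm_num]
        apply Nat.Coprime.pow_right
        rw [Nat.coprime_comm, Nat.coprime_two_left]
        exact ⟨m, rfl⟩
      rw [← h5.gcd_eq_one]
      exact Nat.dvd_gcd (orderOf_dvd_of_pow_eq_one h2) (orderOf_dvd_of_pow_eq_one h3)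
    have h5 : c = 1 := orderOf_eq_one_iff.1 (Nat.dvd_one.1 h4)
    rw [hcdef, mul_inv_eq_one, mul_inv_eq_iff_eq_mul] at h5
    exact h5
  rcases Cfsg.Agent.J2Type.Fusion.eq_of_comm_v M (fun i => hcent _ (M.v_mem i)) with h | h
  · exact h
  · exfalso
    have h1 : r * r = 1 := by rw [h]; exact M.z_sq
    have h2 : orderOf r ∣ 2 := orderOf_dvd_of_pow_eq_one (by rw [pow_two]; exact h1)
    have h3 : r ≠ 1 := by rw [h]; exact M.z_ne
    rcases (Nat.dvd_prime Nat.prime_two).1 h2 with h4 | h4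
    · exact h3 (orderOf_eq_one_iff.1 h4)
    · omega

end C

end Cfsg.Agent.H223.J3Pron
end

-- part: H223/J3Pron/Main
section
/-!
# Overgroups of the Sylow 2-subgroup of `J₂`, `J₃`: the subgroups of odd index are pronormal (helper223)

`po_of_loc`: a group with an involution centralizer `2^{1+4}_-:A₅` of odd index and two arithmetical conditions.
-/

set_option autoImplicit false
set_option linter.unusedSectionVars false

namespace Cfsg.Agent.H223.J3Pron

open Subgroup Cfsg.Agent.H788.SF Cfsg.Agent.H788.SF.JModel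
open Cfsg.Agent.J2Type.Model Cfsg.Agent.J2Type.CStruct Cfsg.Agent.J2Type.SPFacts Cfsg.Agent.J3Type.Loc
open Cfsg.Agent.J3Type.OneClass
open scoped commutatorElement

universe u

section comap

variable {G : Type*} [Group G]

theorem card_sub {A K : Subgroup G} (h : A ≤ K) : Nat.card (A.subgroupOf K) = Nat.card A :=
  Nat.card_congr (Subgroup.subgroupOfEquivOfLe h).toEquiv

theorem TwoX.comap {T : Subgroup G} {z : G} {A B : Subgroup G} (h : TwoX T z A B) (K : Subgroup G) (hT : T ≤ K)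
    (hz : z ∈ K) : TwoX (T.subgroupOf K) (⟨z, hz⟩ : K) (A.subgroupOf K) (B.subgroupOf K) := by
  have hA : A ≤ K := h.two.le₁.trans hT
  have hB : B ≤ K := h.two.le₂.trans hT
  have lift : ∀ {x : G}, x ∈ T → ∃ y : K, y ∈ T.subgroupOf K ∧ (y : G) = x := fun {x} hx => ⟨⟨x, hT hx⟩, hx, rfl⟩
  refine ⟨?_, ?_⟩
  · exact
    { le₁ := Subgroup.comap_mono h.two.le₁
      le₂ := Subgroup.comap_mono h.two.le₂
      sq₁ := fun e he => Subtype.ext (h.two.sq₁ e he)
      sq₂ := fun e he => Subtype.ext (h.two.sq₂ e he)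
      card₁ := by rw [card_sub hA, h.two.card₁]
      card₂ := by rw [card_sub hB, h.two.card₂]
      inter := by
        have h1 : A.subgroupOf K ⊓ B.subgroupOf K = (A ⊓ B).subgroupOf K := rfl
        rw [h1, card_sub (inf_le_left.trans hA), h.two.inter]
      z_ne := fun h1 => h.two.z_ne (congrArg Subtype.val h1)
      z_mem := h.two.z_mem
      z_comm := fun t ht => Subtype.ext (h.two.z_comm t ht)
      center := by
        intro t ht hs
        rcases h.two.center t ht (fun s hs' => congrArg Subtype.val (hs ⟨s, hT hs'⟩ hs')) with h1 | h1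
        · exact Or.inl (Subtype.ext h1)
        · exact Or.inr (Subtype.ext h1)
      z_der := by
        have h1 : (T.subgroupOf K).map K.subtype = T := by
          rw [Subgroup.subgroupOf_map_subtype, inf_eq_left]; exact hT
        have h2 := h.two.z_der
        rw [← h1, ← Subgroup.map_commutator] at h2
        obtain ⟨y, hy, hyz⟩ := h2
        have h3 : y = ⟨z, hz⟩ := Subtype.ext hyz
        rw [← h3]; exact hy
      comm := fun e he e' he' hc => h.two.comm e he e' he' (congrArg Subtype.val hc)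
      br := fun a ha b hb => h.two.br a ha b hb
      cases := by
        intro t ht
        rcases h.two.cases t ht with ⟨a, ha, b, hb, h1⟩ | ⟨h1, h2, e, he, h3⟩
        · exact Or.inl ⟨⟨a, hA ha⟩, ha, ⟨b, hB hb⟩, hb, Subtype.ext h1⟩
        · exact Or.inr ⟨fun e he => h1 e he, fun e he => h2 e he, ⟨e, hA he.1⟩, he, fun hc => h3 (congrArg Subtype.val hc)⟩
      swap := by
        obtain ⟨t, ht, h1⟩ := h.two.swap
        exact ⟨⟨t, hT ht⟩, ht, fun e he => h1 e he⟩
      cardT := by rw [card_sub hT, h.two.cardT] }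
  · intro t ht htt hA' hB'
    obtain ⟨⟨c, hc, h1, h2⟩, h3⟩ := h.out t ht (congrArg Subtype.val htt) hA' hB'
    refine ⟨⟨⟨c, hT hc⟩, hc, Subtype.ext h1, Subtype.ext h2⟩, fun d hd hdt => ?_⟩
    rcases h3 d hd (congrArg Subtype.val hdt) with h4 | h4
    · exact Or.inl (Subtype.ext h4)
    · exact Or.inr (Subtype.ext h4)

/-- an involution acting without fixed points inverts -/
theorem inv_of_fpf {N : Subgroup G} [Finite N] {e : G} (he : e * e = 1) (hN : ∀ n ∈ N, e * n * e⁻¹ ∈ N)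
    (hf : ∀ n ∈ N, n * e = e * n → n = 1) : ∀ n ∈ N, e * n * e⁻¹ = n⁻¹ := by
  have hinj : Function.Injective (fun n : N => (⟨(n : G)⁻¹ * (e * n * e⁻¹), N.mul_mem (N.inv_mem n.2) (hN n n.2)⟩ : N)) := by
    intro n m h
    have h1 : (n : G)⁻¹ * (e * n * e⁻¹) = (m : G)⁻¹ * (e * m * e⁻¹) := congrArg Subtype.val h
    have h2 : (m : G) * (n : G)⁻¹ = 1 := by
      apply hf _ (N.mul_mem m.2 (N.inv_mem n.2))
      calc (m : G) * (n : G)⁻¹ * e = m * ((n : G)⁻¹ * (e * n * e⁻¹)) * (e * (n : G)⁻¹) := by group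
        _ = m * ((m : G)⁻¹ * (e * m * e⁻¹)) * (e * (n : G)⁻¹) := by rw [h1]
        _ = e * (m * (n : G)⁻¹) := by group
    exact Subtype.ext (mul_inv_eq_one.1 h2).symm
  intro n hn
  obtain ⟨k, hk⟩ := Finite.surjective_of_injective hinj ⟨n, hn⟩
  have h1 : (k : G)⁻¹ * (e * k * e⁻¹) = n := congrArg Subtype.val hk
  have hei : e⁻¹ = e := inv_eq_of_mul_eq_one_left he
  rw [← h1]
  calc e * ((k : G)⁻¹ * (e * k * e⁻¹)) * e⁻¹ = e * (k : G)⁻¹ * e * k * (e⁻¹ * e⁻¹) := by group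
    _ = e * (k : G)⁻¹ * e⁻¹ * k := by rw [hei, he, mul_one]
    _ = ((k : G)⁻¹ * (e * k * e⁻¹))⁻¹ := by group

end comap

/-- the elements of the model over the identity permutation -/
def T1 : Finset SP := ((Finset.univ : Finset (Fin 5 → ZMod 2)).filter fun s => ∑ i, s i = 0).image fun s => ⟨1, s⟩

theorem card_T1 : T1.card = 16 := by decide +kernel

theorem card_Q {C : Type*} [Group C] {Q : Subgroup C} {z : C} {v : Fin 5 → C} {ρ : C →* SP} (M : IsModel Q z v ρ) :
    Nat.card Q = 32 := by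
  have hmem : ∀ p : SP, p ∈ T1 ↔ p.σ = 1 ∧ ∑ i, p.s i = 0 := by
    intro p
    constructor
    · intro h
      obtain ⟨s, hs, rfl⟩ := Finset.mem_image.1 h
      exact ⟨rfl, (Finset.mem_filter.1 hs).2⟩
    · rintro ⟨h1, h2⟩
      exact Finset.mem_image.2 ⟨p.s, Finset.mem_filter.2 ⟨Finset.mem_univ _, h2⟩, SP.ext h1.symm rfl⟩
  have h1 := card_fiber M T1 (fun g hg => ⟨by rw [((hmem g).1 hg).1]; decide, ((hmem g).1 hg).2⟩)
  rw [card_T1] at h1
  rw [show (32 : ℕ) = 2 * 16 by norm_num, ← h1]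
  refine Nat.card_congr (Equiv.subtypeEquivRight fun x => ?_)
  rw [M.mem_Q, hmem]
  exact ⟨fun h => ⟨h, ((M.range (ρ x)).1 ⟨x, rfl⟩).2⟩, fun h => h.1⟩

section G

variable {G : Type u} [Group G] [Finite G]

/-- the model of the centralizer of `z`, with an involution `f` outside `Q` and `w` normalising `T` -/
structure Loc (z : G) (Q : Subgroup (centralizer ({z} : Set G))) (v : Fin 5 → centralizer ({z} : Set G))
    (ρ : centralizer ({z} : Set G) →* SP) (f w : centralizer ({z} : Set G)) : Prop where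
  M : IsModel Q (zc z) v ρ
  hf : ρ f = g0
  hf2 : f * f = 1
  hw : ρ w = g3
  card_C : Nat.card (centralizer ({z} : Set G)) = 1920
  hv : ∃ g : G, g * z * g⁻¹ = (v 4 : G)

variable {z : G} {Q : Subgroup (centralizer ({z} : Set G))} {v : Fin 5 → centralizer ({z} : Set G)}
  {ρ : centralizer ({z} : Set G) →* SP} {f w : centralizer ({z} : Set G)}

/-- the Sylow subgroup -/
def SS (ρ : centralizer ({z} : Set G) →* SP) : Subgroup G := (Tc ρ).map (centralizer ({z} : Set G)).subtype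

def AA (f : centralizer ({z} : Set G)) : Subgroup G :=
  (centralizer ({f} : Set (centralizer ({z} : Set G)))).map (centralizer ({z} : Set G)).subtype

theorem Loc.twoX (F : Loc z Q v ρ f w) : TwoX (SS ρ) z (AA f) (AA (v 3 * f * (v 3)⁻¹)) :=
  (J3Pron.twoX F.M F.hf F.hf2).map (centralizer ({z} : Set G)).subtype (Subgroup.subtype_injective _)

theorem mem_SS {x : G} : x ∈ SS ρ ↔ ∃ h : x ∈ centralizer ({z} : Set G), (⟨x, h⟩ : centralizer ({z} : Set G)) ∈ Tc ρ := by
  constructor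
  · rintro ⟨c, hc, rfl⟩
    exact ⟨c.2, hc⟩
  · rintro ⟨h, hc⟩
    exact ⟨_, hc, rfl⟩

theorem Loc.zz (F : Loc z Q v ρ f w) : z * z = 1 := congrArg Subtype.val F.M.z_sq

theorem Loc.v4U (F : Loc z Q v ρ f w) : (v 4 : G) ∈ AA f ⊓ AA (v 3 * f * (v 3)⁻¹) := by
  refine ⟨⟨v 4, (mem_E₁ F.M F.hf F.hf2 _).2 ?_, rfl⟩, ⟨v 4, (mem_E₂ F.M F.hf F.hf2 _).2 ?_, rfl⟩⟩
  · rw [rho_v F.M 4]; exact p4_B.1
  · rw [rho_v F.M 4]; exact p4_B.2

theorem Loc.v4_ne (F : Loc z Q v ρ f w) : (v 4 : G) ≠ 1 := by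
  intro h
  apply v_ne_one F.M 4 0
  rw [zp_zero, one_mul]
  exact Subtype.ext h

theorem Loc.v4_ne_z (F : Loc z Q v ρ f w) : (v 4 : G) ≠ z := by
  intro h
  apply zv_ne_z F.M 0 4
  rw [zp_zero, one_mul]
  exact Subtype.ext h

theorem Loc.hasModel (F : Loc z Q v ρ f w) : HasModel z := by
  refine ⟨?_, F.card_C, Q, v, ρ, F.M⟩
  refine orderOf_eq_prime (by rw [pow_two, F.zz]) ?_
  exact F.twoX.two.z_ne

/-- an element centralizing `z` and `v 4` normalises `S` -/
theorem Loc.norm (F : Loc z Q v ρ f w) {g : G} (h1 : g * z = z * g) (h2 : g * (v 4 : G) = (v 4 : G) * g) {s : G}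
    (hs : s ∈ SS ρ) : g * s * g⁻¹ ∈ SS ρ := by
  obtain ⟨hc, hs'⟩ := mem_SS.1 hs
  have hg : g ∈ centralizer ({z} : Set G) := mem_centralizer_singleton_iff.2 h1
  have h3 : (ρ ⟨g, hg⟩).σ 4 = 4 := by
    have h4 : (⟨g, hg⟩ : centralizer ({z} : Set G)) * v 4 = v 4 * ⟨g, hg⟩ := Subtype.ext h2
    exact ((z_comm_v4 F.M).1 h4).1
  exact mem_SS.2 ⟨_, (norm_Tc h3 hs' :)⟩

theorem odd_eq_one {N : Subgroup G} (hodd : Odd (Nat.card N)) {n : G} (hn : n ∈ N) {S : Subgroup G} {k : ℕ}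
    (hS : Nat.card S = 2 ^ k) (hnS : n ∈ S) : n = 1 := by
  have h1 := Subgroup.orderOf_dvd_natCard N hn
  have h2 := Subgroup.orderOf_dvd_natCard S hnS
  rw [hS] at h2
  have h3 : Nat.Coprime (Nat.card N) (2 ^ k) := Nat.Coprime.pow_right _ (Nat.coprime_two_right.2 hodd)
  have h4 : orderOf n ∣ 1 := by
    rw [← h3.gcd_eq_one]
    exact Nat.dvd_gcd h1 h2
  exact orderOf_eq_one_iff.1 (Nat.dvd_one.1 h4)

/-- a subgroup of odd order normalised by `S` in which `z` has no fixed points is trivial -/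
theorem Loc.no_core (F : Loc z Q v ρ f w) {N : Subgroup G} (hodd : Odd (Nat.card N))
    (hN : ∀ s ∈ SS ρ, ∀ n ∈ N, s * n * s⁻¹ ∈ N) (hcz : ∀ n ∈ N, n * z = z * n → n = 1) : N = ⊥ := by
  have hX := F.twoX
  have hzS : z ∈ SS ρ := hX.two.le₁ hX.two.z_mem.1
  have hv4 := F.v4U
  have hvS : (v 4 : G) ∈ SS ρ := hX.two.le₁ hv4.1
  have hvv : (v 4 : G) * (v 4 : G) = 1 := TwoL.sqU hX.two _ hv4
  -- `v 4` has no fixed points
  have hcv : ∀ n ∈ N, n * (v 4 : G) = (v 4 : G) * n → n = 1 := by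
    intro n hn hnv
    obtain ⟨g, hg⟩ := F.hv
    set x : G := (v 4 : G) with hx
    obtain ⟨-, hC, Q', v', ρ', M'⟩ := F.hasModel.conj g hg
    have hQn : Q'.Normal := normal_Q M'
    have hnC : n ∈ centralizer ({x} : Set G) := mem_centralizer_singleton_iff.2 hnv
    set! J : Subgroup G := AA f ⊔ AA (v 3 * f * (v 3)⁻¹) with hJ
    have hJC : J ≤ centralizer ({x} : Set G) := fun j hj =>
      mem_centralizer_singleton_iff.2 (hX.two.comm_inf hj hv4)
    set! P : Subgroup (centralizer ({x} : Set G)) := J.subgroupOf (centralizer ({x} : Set G)) with hP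
    have hPc : Nat.card P = 64 := by rw [hP, card_sub hJC, hJ, TwoL.card_J hX.two]
    have hQc := card_Q M'
    have hidx : Q'.index = 60 := by
      have h1 := Subgroup.card_mul_index Q'
      rw [hQc, hC] at h1
      omega
    have hrel : (Q' ⊓ P).relIndex P ∣ 4 := by
      have h1 : Q'.relIndex P ∣ 60 := by rw [← hidx]; exact Subgroup.relIndex_dvd_index_of_normal Q' P
      have h2 : Q'.relIndex P ∣ 64 := by rw [← hPc]; exact Subgroup.relIndex_dvd_card Q' P
      rw [Subgroup.inf_relIndex_right]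
      have := Nat.dvd_gcd h1 h2
      norm_num at this
      exact this
    have hU16 : 16 ≤ Nat.card (Q' ⊓ P : Subgroup (centralizer ({x} : Set G))) := by
      have h1 := Subgroup.card_mul_index ((Q' ⊓ P).subgroupOf P)
      rw [card_sub inf_le_right, hPc] at h1
      have h2 : ((Q' ⊓ P).subgroupOf P).index ≤ 4 := Nat.le_of_dvd (by norm_num) hrel
      by_contra h3
      have h4 : Nat.card (Q' ⊓ P : Subgroup (centralizer ({x} : Set G))) * ((Q' ⊓ P).subgroupOf P).index ≤ 15 * 4 :=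
        Nat.mul_le_mul (by omega) h2
      omega
    have hno : Odd (orderOf (⟨n, hnC⟩ : centralizer ({x} : Set G))) := by
      rw [← Subgroup.orderOf_coe]
      obtain ⟨k, hk⟩ := Subgroup.orderOf_dvd_natCard N hn
      show Odd (orderOf n)
      rw [hk] at hodd
      exact (Nat.odd_mul.1 hodd).1
    have h1 := odd_cent M' hQc (U := Q' ⊓ P) inf_le_left hU16 hno (by
      intro q hq
      -- the commutator lies in `N` and in `Q'`
      have hqS : (q : G) ∈ SS ρ := TwoL.J_le hX.two (show (q : G) ∈ J from hq.2)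
      have h2 : (q : G) * n * (q : G)⁻¹ * n⁻¹ ∈ N := N.mul_mem (hN q hqS n hn) (N.inv_mem hn)
      have h3 : q * ⟨n, hnC⟩ * q⁻¹ * (⟨n, hnC⟩ : centralizer ({x} : Set G))⁻¹ ∈ Q' := by
        have h4 : q * ⟨n, hnC⟩ * q⁻¹ * (⟨n, hnC⟩ : centralizer ({x} : Set G))⁻¹ =
            q * (⟨n, hnC⟩ * q⁻¹ * (⟨n, hnC⟩ : centralizer ({x} : Set G))⁻¹) := by group
        rw [h4]
        exact Q'.mul_mem hq.1 (hQn.conj_mem _ (Q'.inv_mem hq.1) _)
      have h4 : (q : G) * n * (q : G)⁻¹ * n⁻¹ ∈ Q'.map (centralizer ({x} : Set G)).subtype := ⟨_, h3, rfl⟩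
      have h5 : Nat.card (Q'.map (centralizer ({x} : Set G)).subtype) = 2 ^ 5 := by
        rw [Subgroup.card_map_of_injective (Subgroup.subtype_injective _), hQc]
        norm_num
      have h6 := odd_eq_one hodd h2 h5 h4
      apply Subtype.ext
      have h7 : (q : G) * n = n * q := by
        rw [mul_inv_eq_one] at h6
        exact mul_inv_eq_iff_eq_mul.1 h6
      exact h7.symm)
    exact congrArg Subtype.val h1
  -- `z v 4` has no fixed points
  obtain ⟨s, hs, hsv⟩ := TwoL.exists_swap hX.two hv4 F.v4_ne F.v4_ne_z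
  have hczv : ∀ n ∈ N, n * (z * (v 4 : G)) = (z * (v 4 : G)) * n → n = 1 := by
    intro n hn hnv
    rw [← hsv] at hnv
    have h1 : s⁻¹ * n * s ∈ N := by
      have := hN s⁻¹ ((SS ρ).inv_mem hs) n hn
      rwa [inv_inv] at this
    have h2 := hcv _ h1 (by
      calc s⁻¹ * n * s * (v 4 : G) = s⁻¹ * (n * (s * (v 4 : G) * s⁻¹)) * s := by group
        _ = s⁻¹ * (s * (v 4 : G) * s⁻¹ * n) * s := by rw [hnv]
        _ = (v 4 : G) * (s⁻¹ * n * s) := by group)
    have : n = s * (s⁻¹ * n * s) * s⁻¹ := by group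
    rw [this, h2]; group
  rw [eq_bot_iff]
  intro n hn
  rw [mem_bot]
  have e1 := inv_of_fpf F.zz (hN z hzS) hcz
  have e2 := inv_of_fpf hvv (hN _ hvS) hcv
  apply hczv n hn
  apply Eq.symm
  apply mul_inv_eq_iff_eq_mul.1
  calc z * (v 4 : G) * n * (z * (v 4 : G))⁻¹ = z * ((v 4 : G) * n * (v 4 : G)⁻¹) * z⁻¹ := by group
    _ = z * n⁻¹ * z⁻¹ := by rw [e2 n hn]
    _ = n := by rw [e1 _ (N.inv_mem hn), inv_inv]

theorem Loc.w_z (_ : Loc z Q v ρ f w) : (w : G) * z = z * w := mem_centralizer_singleton_iff.1 w.2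

theorem Loc.w_v4 (F : Loc z Q v ρ f w) : (w : G) * (v 4 : G) = (v 4 : G) * w := by
  have h : w * v 4 = v 4 * w := by
    rw [z_comm_v4 F.M, F.hw]
    decide +kernel
  exact congrArg Subtype.val h

theorem Loc.cases_U (F : Loc z Q v ρ f w) {u : G} (hu : u ∈ AA f ⊓ AA (v 3 * f * (v 3)⁻¹)) :
    u = 1 ∨ u = z ∨ u = (v 4 : G) ∨ u = z * (v 4 : G) :=
  TwoL.fourz F.twoX.two F.v4U F.v4_ne F.v4_ne_z hu

theorem Loc.w_U (F : Loc z Q v ρ f w) {u : G} (hu : u ∈ AA f ⊓ AA (v 3 * f * (v 3)⁻¹)) : (w : G) * u = u * w := by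
  rcases F.cases_U hu with rfl | rfl | rfl | rfl
  · rw [one_mul, mul_one]
  · exact F.w_z
  · exact F.w_v4
  · rw [← mul_assoc, F.w_z, mul_assoc, F.w_v4, mul_assoc]

theorem Loc.notQ (F : Loc z Q v ρ f w) {t : G} (ht : t ∈ AA f ∧ t ∉ AA (v 3 * f * (v 3)⁻¹) ∨
    t ∈ AA (v 3 * f * (v 3)⁻¹) ∧ t ∉ AA f) (htC : t ∈ centralizer ({z} : Set G)) :
    (⟨t, htC⟩ : centralizer ({z} : Set G)) ∉ Q := by
  intro hQ
  have hσ := (F.M.mem_Q _).1 hQ
  rcases ht with ⟨⟨c, hc, rfl⟩, h2⟩ | ⟨⟨c, hc, rfl⟩, h2⟩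
  · apply h2
    refine ⟨c, (mem_E₂ F.M F.hf F.hf2 c).2 ?_, rfl⟩
    rcases B_one _ ((mem_E₁ F.M F.hf F.hf2 c).1 hc) hσ with h1 | h1
    · rw [h1]; decide +kernel
    · rw [h1]; exact p4_B.2
  · apply h2
    refine ⟨c, (mem_E₁ F.M F.hf F.hf2 c).2 ?_, rfl⟩
    have h3 : ∀ g ∈ B', g.σ = 1 → g ∈ B := by decide +kernel
    exact h3 _ ((mem_E₂ F.M F.hf F.hf2 c).1 hc) hσ

theorem Loc.two_powers (F : Loc z Q v ρ f w) {n : G} (hn : ∀ s ∈ SS ρ, n * s * n⁻¹ ∈ SS ρ) :
    n ∈ SS ρ ⊔ zpowers (w : G) := by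
  have hX := F.twoX
  have hfS : Finite (SS ρ) := inferInstance
  have hnN : n ∈ normalizer (SS ρ : Set G) := mem_norm hn
  have hzS : z ∈ SS ρ := hX.two.le₁ hX.two.z_mem.1
  -- `n` centralises `z`
  have hnz : n * z * n⁻¹ = z := by
    rcases hX.two.center _ (hn z hzS) (by
      intro s hs
      have h1 := (mem_normalizer_iff.1 (inv_mem hnN) s).1 hs
      rw [inv_inv] at h1
      have h2 := hX.two.z_comm _ h1
      calc s * (n * z * n⁻¹) = n * (n⁻¹ * s * n * z) * n⁻¹ := by group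
        _ = n * (z * (n⁻¹ * s * n)) * n⁻¹ := by rw [h2]
        _ = n * z * n⁻¹ * s := by group) with h | h
    · exfalso
      apply hX.two.z_ne
      have : z = n⁻¹ * (n * z * n⁻¹) * n := by group
      rw [this, h]; group
    · exact h
  have hnC : n ∈ centralizer ({z} : Set G) := mem_centralizer_singleton_iff.2 (mul_inv_eq_iff_eq_mul.1 hnz)
  have hn' : ∀ x ∈ Tc ρ, (⟨n, hnC⟩ : centralizer ({z} : Set G)) * x * (⟨n, hnC⟩ : centralizer ({z} : Set G))⁻¹ ∈ Tc ρ := by
    intro x hx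
    obtain ⟨h1, h2⟩ := mem_SS.1 (hn x ⟨x, hx, rfl⟩)
    exact h2
  have hw : (w : G) ∈ SS ρ ⊔ zpowers (w : G) := mem_sup_right (mem_zpowers _)
  rcases norm_Tc_cases F.M F.hw hn' with h | h | h
  · exact mem_sup_left (mem_SS.2 ⟨hnC, h⟩)
  · have h1 : n * (w : G) ∈ SS ρ := ⟨_, h, rfl⟩
    have h2 : n = n * w * (w : G)⁻¹ := by group
    rw [h2]
    exact mul_mem (mem_sup_left h1) (inv_mem hw)
  · have h1 : n * (w : G) * (w : G) ∈ SS ρ := ⟨_, h, rfl⟩
    have h2 : n = n * w * w * (w : G)⁻¹ * (w : G)⁻¹ := by group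
    rw [h2]
    exact mul_mem (mul_mem (mem_sup_left h1) (inv_mem hw)) (inv_mem hw)

/-- the case of a subgroup of order `384` -/
theorem Loc.three (F : Loc z Q v ρ f w) (K : Subgroup G) (hK : SS ρ ≤ K) (hCK : ∀ g ∈ K, g * z = z * g → g ∈ SS ρ)
    (hU : ∀ k ∈ K, ∀ u ∈ AA f ⊓ AA (v 3 * f * (v 3)⁻¹), k * u * k⁻¹ ∈ AA f ⊓ AA (v 3 * f * (v 3)⁻¹))
    (hUD : ∀ u ∈ AA f ⊓ AA (v 3 * f * (v 3)⁻¹), u ≠ 1 → ∃ k ∈ K, k * z * k⁻¹ = u) : ∀ x ∈ K, (w : G) * x * (w : G)⁻¹ ∈ K := by
  have hX := F.twoX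
  have hzU := hX.two.z_mem
  have hzz := F.zz
  have hKS : ∀ k ∈ K, ∀ s ∈ SS ρ, (w : G) * (k * s * k⁻¹) * (w : G)⁻¹ ∈ K := by
    intro k hk s hs
    have h1 : ∀ u ∈ AA f ⊓ AA (v 3 * f * (v 3)⁻¹), (k⁻¹ * (w : G) * k) * u = u * (k⁻¹ * (w : G) * k) := by
      intro u hu
      have h2 := F.w_U (hU k hk u hu)
      calc (k⁻¹ * (w : G) * k) * u = k⁻¹ * ((w : G) * (k * u * k⁻¹)) * k := by group
        _ = k⁻¹ * (k * u * k⁻¹ * (w : G)) * k := by rw [h2]
        _ = u * (k⁻¹ * (w : G) * k) := by group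
    have h2 := F.norm (h1 z hzU) (h1 _ F.v4U) hs
    have h3 : (w : G) * (k * s * k⁻¹) * (w : G)⁻¹ = k * ((k⁻¹ * (w : G) * k) * s * (k⁻¹ * (w : G) * k)⁻¹) * k⁻¹ := by group
    rw [h3]
    exact K.mul_mem (K.mul_mem hk (hK h2)) (K.inv_mem hk)
  have hS : ∀ s ∈ SS ρ, (w : G) * s * (w : G)⁻¹ ∈ K := by
    intro s hs
    have := hKS 1 K.one_mem s hs
    rwa [one_mul, inv_one, mul_one] at this
  intro k hk
  by_cases hkz : k * z * k⁻¹ = z
  · exact hS k (hCK k hk (mul_inv_eq_iff_eq_mul.1 hkz))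
  set t := k * z * k⁻¹ with ht
  have htU : t ∈ AA f ⊓ AA (v 3 * f * (v 3)⁻¹) := hU k hk z hzU
  have htt : t * t = 1 := TwoL.sqU hX.two t htU
  have hzt : z * t = t * z := TwoE.comm_of_sq (TwoL.sqU hX.two) hzU htU
  have ht' : z * t ≠ 1 := by
    intro h
    apply hkz
    calc t = (z * z) * t := by rw [hzz, one_mul]
      _ = z * (z * t) := by group
      _ = z := by rw [h, mul_one]
  obtain ⟨k', hk', hk't⟩ := hUD (z * t) (mul_mem hzU htU) ht'
  have ht1 : t ≠ 1 := by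
    intro h
    apply hX.two.z_ne
    have : z = k⁻¹ * t * k := by rw [ht]; group
    rw [this, h]; group
  set! u0 := k'⁻¹ * z * k' with hu0
  have hu0U : u0 ∈ AA f ⊓ AA (v 3 * f * (v 3)⁻¹) := by
    have := hU k'⁻¹ (K.inv_mem hk') z hzU
    rwa [inv_inv] at this
  have hu01 : u0 ≠ 1 := by
    intro h
    apply hX.two.z_ne
    have : z = k' * u0 * k'⁻¹ := by rw [hu0]; group
    rw [this, h]; group
  have hu0z : u0 ≠ z := by
    intro h
    apply ht1
    have h1 : k' * z * k'⁻¹ = z := by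
      calc k' * z * k'⁻¹ = k' * u0 * k'⁻¹ := by rw [h]
        _ = z := by rw [hu0]; group
    rw [hk't] at h1
    simpa using h1
  obtain ⟨s, hs, hsu⟩ := TwoL.exists_swap hX.two hu0U hu01 hu0z
  set! s' := k' * s * k'⁻¹ with hs'
  have hs'K : s' ∈ K := K.mul_mem (K.mul_mem hk' (hK hs)) (K.inv_mem hk')
  have hs't : s' * z * s'⁻¹ = t := by
    calc s' * z * s'⁻¹ = k' * (s * u0 * s⁻¹) * k'⁻¹ := by rw [hs', hu0]; group
      _ = k' * (z * u0) * k'⁻¹ := by rw [hsu]
      _ = (k' * z * k'⁻¹) * z := by rw [hu0]; group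
      _ = z * t * z := by rw [hk't]
      _ = t * (z * z) := by rw [hzt]; group
      _ = t := by rw [hzz, mul_one]
  have h1 : s'⁻¹ * k ∈ SS ρ := by
    apply hCK _ (K.mul_mem (K.inv_mem hs'K) hk)
    have h2 : s'⁻¹ * k * z * (s'⁻¹ * k)⁻¹ = z := by
      calc s'⁻¹ * k * z * (s'⁻¹ * k)⁻¹ = s'⁻¹ * (k * z * k⁻¹) * s' := by group
        _ = s'⁻¹ * (s' * z * s'⁻¹) * s' := by rw [← ht, hs't]
        _ = z := by group
    exact mul_inv_eq_iff_eq_mul.1 h2
  have h2 : (w : G) * k * (w : G)⁻¹ = ((w : G) * s' * (w : G)⁻¹) * ((w : G) * (s'⁻¹ * k) * (w : G)⁻¹) := by group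
  rw [h2]
  exact K.mul_mem (hKS k' hk' s hs) (hS _ h1)

/-- **The subgroups of odd index are pronormal.** -/
theorem Loc.po (F : Loc z Q v ρ f w) (h256 : ¬ 256 ∣ Nat.card G)
    (h2 : ∀ (K : Subgroup G) (m : ℕ), Nat.card K = 128 * m → m % 64 = 3 → m = 3)
    (h3 : ∀ (K : Subgroup G) (m : ℕ), Nat.card K = 128 * m → m % 16 = 11 → 15 ∣ m →
      (∃ (g : G) (hg : g * z * g⁻¹ ∈ centralizer ({z} : Set G)),
        (⟨g * z * g⁻¹, hg⟩ : centralizer ({z} : Set G)) ∉ Q) → False) : Cfsg.Agent.H408.Pron.PO G := by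
  have : Fact (Nat.Prime 2) := ⟨Nat.prime_two⟩
  have hX := F.twoX
  have hcS : Nat.card (SS ρ) = 128 := hX.two.cardT
  have hfac : (Nat.card G).factorization 2 = 7 := by
    have hG0 : Nat.card G ≠ 0 := Nat.card_pos.ne'
    have e1 : 2 ^ 7 ∣ Nat.card G := by
      rw [show (2 : ℕ) ^ 7 = 128 by norm_num, ← hcS]
      exact Subgroup.card_subgroup_dvd_card _
    have e2 : ¬ 2 ^ 8 ∣ Nat.card G := by
      rw [show (2 : ℕ) ^ 8 = 256 by norm_num]; exact h256
    rw [Nat.prime_two.pow_dvd_iff_le_factorization hG0] at e1 e2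
    omega
  let S : Sylow 2 G := Sylow.ofCard (SS ρ) (by rw [hfac, hcS]; norm_num)
  refine Cfsg.Agent.H408.Pron.PO.of_one S (w : G) ?_ ?_
  · intro n hn
    exact F.two_powers fun s hs => (mem_normalizer_iff.1 hn s).1 hs
  intro K hSK hwK
  have hK : SS ρ ≤ K := hSK
  have hzS : z ∈ SS ρ := hX.two.le₁ hX.two.z_mem.1
  have hzK : z ∈ K := hK hzS
  have hCK : ∀ g ∈ K, g * z = z * g → g ∈ SS ρ := by
    intro g hg hgz
    by_contra hgS
    apply hwK
    have h4 := over_T F.M F.hw (H := K.comap (centralizer ({z} : Set G)).subtype)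
      (fun x hx => hK ⟨x, hx, rfl⟩) (h := ⟨g, mem_centralizer_singleton_iff.2 hgz⟩) hg
      (fun h => hgS (mem_SS.2 ⟨_, h⟩))
    exact h4
  have hwS : ∀ s ∈ SS ρ, (w : G) * s * (w : G)⁻¹ ∈ SS ρ := fun s hs => F.norm F.w_z F.w_v4 hs
  set! A' := (AA f).subgroupOf K with hA'
  set! B' := (AA (v 3 * f * (v 3)⁻¹)).subgroupOf K with hB'
  have hDat : Dat (⟨z, hzK⟩ : K) A' B' := by
    have h4 := hX.comap K hK hzK
    have h5 : (SS ρ).subgroupOf K = centralizer ({(⟨z, hzK⟩ : K)} : Set K) := by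
      ext x
      rw [mem_subgroupOf, mem_centralizer_singleton_iff]
      constructor
      · intro h
        exact Subtype.ext (hX.two.z_comm _ h)
      · intro h
        exact hCK x x.2 (congrArg Subtype.val h)
    rw [h5] at h4
    exact h4
  have hcard := card_DD hDat
  rcases cases hDat with hi | ⟨hi, hUD⟩ | ⟨hi, h15, t, htD, ht⟩
  · -- `z` is isolated
    obtain ⟨N, hN, hNo, hNt⟩ := Cfsg.Agent.LThreeMB.ZStar.exists_core (z := (⟨z, hzK⟩ : K)) (by
      refine orderOf_eq_prime (Subtype.ext (by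
        show z ^ 2 = 1
        rw [pow_two, F.zz])) (fun h => hX.two.z_ne (congrArg Subtype.val h))) hi
    have hN0 : N.map K.subtype = ⊥ := by
      apply F.no_core (by rwa [Subgroup.card_map_of_injective (Subgroup.subtype_injective _)])
      · rintro s hs _ ⟨n, hn, rfl⟩
        exact ⟨⟨s, hK hs⟩ * n * (⟨s, hK hs⟩ : K)⁻¹, hN.conj_mem n hn _, rfl⟩
      · rintro _ ⟨n, hn, rfl⟩ hnz
        have h4 : (n : G) ∈ SS ρ := hCK n n.2 hnz
        have h5 : (n : G) ∈ N.map K.subtype := ⟨n, hn, rfl⟩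
        exact odd_eq_one (k := 7) (by rwa [Subgroup.card_map_of_injective (Subgroup.subtype_injective _)]) h5
          (by rw [hcS]; norm_num) h4
    have hN1 : N = ⊥ := (Subgroup.map_eq_bot_iff_of_injective N (Subgroup.subtype_injective _)).1 hN0
    rw [hN1, bot_sup_eq] at hNt
    intro x hx
    have h4 : (⟨x, hx⟩ : K) ∈ centralizer ({(⟨z, hzK⟩ : K)} : Set K) := by rw [hNt]; trivial
    have h5 := congrArg Subtype.val (mem_centralizer_singleton_iff.1 h4)
    exact hK (hwS x (hCK x hx h5))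
  · -- the class of `z` is `U \ {1}`
    have hm := h2 K _ hcard hi
    have h3' : Nat.card {u : K // u ∈ A' ⊓ B' ∧ u ≠ 1} = 3 := by
      have h1 : Nat.card {u : (A' ⊓ B' : Subgroup K) // u ≠ 1} = 3 := by
        classical
        have hF := Fintype.ofFinite (A' ⊓ B' : Subgroup K)
        rw [Nat.card_eq_fintype_card, Fintype.card_subtype_compl, Fintype.card_subtype_eq, ← Nat.card_eq_fintype_card,
          hDat.two.inter]
      rw [← h1]
      exact Nat.card_congr ⟨fun u => ⟨⟨u.1, u.2.1⟩, fun h => u.2.2 (congrArg Subtype.val h)⟩,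
        fun u => ⟨u.1.1, u.1.2, fun h => u.2 (Subtype.ext h)⟩, fun u => rfl, fun u => rfl⟩
    have hEq : {u : K | u ∈ A' ⊓ B' ∧ u ≠ 1} = DD (⟨z, hzK⟩ : K) := by
      apply Set.eq_of_subset_of_ncard_le (ht := Set.toFinite _)
      · rintro u ⟨hu, hu1⟩
        exact hUD u hu hu1
      · have e1 : (DD (⟨z, hzK⟩ : K)).ncard = 3 := hm
        have e2 : {u : K | u ∈ A' ⊓ B' ∧ u ≠ 1}.ncard = 3 := h3'
        rw [e1, e2]
    apply F.three K hK hCK
    · intro k hk u hu
      by_cases hu1 : u = 1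
      · rw [hu1]
        have : k * 1 * k⁻¹ = 1 := by group
        rw [this]; exact one_mem _
      have huK : u ∈ K := hK (hX.two.le₁ hu.1)
      have h4 : (⟨u, huK⟩ : K) ∈ DD (⟨z, hzK⟩ : K) := hUD _ hu (fun h => hu1 (congrArg Subtype.val h))
      have h5 := DD_conj _ (⟨k, hk⟩ : K) _ h4
      rw [← hEq] at h5
      exact h5.1
    · intro u hu hu1
      have huK : u ∈ K := hK (hX.two.le₁ hu.1)
      obtain ⟨k, hk⟩ := hUD (⟨u, huK⟩ : K) hu (fun h => hu1 (congrArg Subtype.val h))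
      exact ⟨k, k.2, congrArg Subtype.val hk⟩
  · exfalso
    obtain ⟨g, hg⟩ := htD
    have hgt : (g : G) * z * (g : G)⁻¹ = t := congrArg Subtype.val hg
    have htC : (t : G) ∈ centralizer ({z} : Set G) := by
      apply mem_centralizer_singleton_iff.2
      rcases ht with ⟨h4, -⟩ | ⟨h4, -⟩
      · exact TwoE.comm_of_sq hX.two.sq₁ h4 hX.two.z_mem.1
      · exact TwoE.comm_of_sq hX.two.sq₂ h4 hX.two.z_mem.2
    refine h3 K _ hcard hi h15 ⟨g, by rw [hgt]; exact htC, ?_⟩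
    have h5 := F.notQ (t := (t : G)) ht htC
    intro h6
    apply h5
    have h7 : (⟨(g : G) * z * (g : G)⁻¹, by rw [hgt]; exact htC⟩ : centralizer ({z} : Set G)) = ⟨t, htC⟩ := Subtype.ext hgt
    rwa [h7] at h6

end G

end Cfsg.Agent.H223.J3Pron
end

-- part: H223/J3Pron/RowJ3
section
/-!
# S2527: the row of `J₃` (helper223)
-/

set_option autoImplicit false

namespace Cfsg.Agent.H223.J3Pron

open Subgroup Cfsg.Agent.J2Type.Model Cfsg.Agent.J2Type.CStruct Cfsg.Agent.J2Type.SPFacts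
open Cfsg.Agent.H408.Pron

universe u

theorem dvd_form {m : ℕ} (h : m ∣ 392445) : ∃ i < 6, ∃ a < 2, ∃ b < 2, ∃ c < 2, m = 3 ^ i * 5 ^ a * 17 ^ b * 19 ^ c := by
  rw [show 392445 = 3 ^ 5 * (5 ^ 1 * (17 ^ 1 * 19 ^ 1)) by norm_num] at h
  obtain ⟨m1, m2, h1, h2, rfl⟩ := (Nat.dvd_mul).1 h
  obtain ⟨m3, m4, h3, h4, rfl⟩ := (Nat.dvd_mul).1 h2
  obtain ⟨m5, m6, h5, h6, rfl⟩ := (Nat.dvd_mul).1 h4
  obtain ⟨i, hi, rfl⟩ := (Nat.dvd_prime_pow (by norm_num : Nat.Prime 3)).1 h1
  obtain ⟨a, ha, rfl⟩ := (Nat.dvd_prime_pow (by norm_num : Nat.Prime 5)).1 h3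
  obtain ⟨b, hb, rfl⟩ := (Nat.dvd_prime_pow (by norm_num : Nat.Prime 17)).1 h5
  obtain ⟨c, hc, rfl⟩ := (Nat.dvd_prime_pow (by norm_num : Nat.Prime 19)).1 h6
  exact ⟨i, by omega, a, by omega, b, by omega, c, by omega, by ring⟩

theorem mod64 {m : ℕ} (h : m ∣ 392445) (hm : m % 64 = 3) : m = 3 ∨ m = 323 ∨ m = 1539 := by
  obtain ⟨i, hi, a, ha, b, hb, c, hc, rfl⟩ := dvd_form h
  revert hm
  interval_cases i <;> interval_cases a <;> interval_cases b <;> interval_cases c <;> decide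

theorem mod16 {m : ℕ} (h : m ∣ 392445) (hm : m % 16 = 11) (h15 : 15 ∣ m) : False := by
  obtain ⟨i, hi, a, ha, b, hb, c, hc, rfl⟩ := dvd_form h
  revert hm h15
  interval_cases i <;> interval_cases a <;> interval_cases b <;> interval_cases c <;> decide

/-- Sylow's theorem for the prime 19 in the subgroups of `J₃` -/
theorem nineteen {K : Type u} [Group K] [Finite K] (h : Cfsg.Spor.IsoJ3 K) {H : Subgroup K} {m : ℕ}
    (hm : Nat.card H = 19 * m) (hm0 : ¬ 19 ∣ m) : ∃ n k, n % 19 = 1 ∧ k ∣ 18 ∧ k * n = m := by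
  have f19 : Fact (Nat.Prime 19) := ⟨by norm_num⟩
  obtain ⟨y, hy⟩ := exists_prime_orderOf_dvd_card' (G := H) 19 ⟨m, hm⟩
  have hsq : ¬ 19 ^ 2 ∣ Nat.card H := by
    rw [hm, pow_two]
    intro h1
    exact hm0 ((Nat.mul_dvd_mul_iff_left (by norm_num)).1 h1)
  obtain ⟨n, k, hn, hk, h1, -⟩ := Cfsg.Agent.H836.Sylow.card_normalizer (G := H) (p := 19) (X := zpowers y)
    (by norm_num) hsq (by rw [Nat.card_zpowers, hy])
  have hcz : centralizer ((zpowers y : Subgroup H) : Set H) = centralizer ({y} : Set H) := by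
    rw [zpowers_eq_closure, centralizer_closure]
  rw [hcz] at h1
  have hyK : orderOf (y : K) = 19 := by rw [Subgroup.orderOf_coe, hy]
  have hc : Nat.card (centralizer ({y} : Set H)) = 19 := by
    have h2 := Cfsg.Agent.H898.J3Cent.card_nineteen h hyK
    have h3 : (centralizer ({y} : Set H)).map H.subtype ≤ centralizer ({(y : K)} : Set K) := by
      rintro _ ⟨x, hx, rfl⟩
      exact mem_centralizer_singleton_iff.2 (congrArg Subtype.val (mem_centralizer_singleton_iff.1 hx))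
    have h4 := Subgroup.card_dvd_of_le h3
    rw [Subgroup.card_map_of_injective (Subgroup.subtype_injective _), h2] at h4
    have h5 : orderOf y ∣ Nat.card (centralizer ({y} : Set H)) :=
      Subgroup.orderOf_dvd_natCard _ (mem_centralizer_singleton_iff.2 rfl)
    rw [hy] at h5
    exact Nat.dvd_antisymm h4 h5
  rw [hc, hm] at h1
  refine ⟨n, k, hn, hk, ?_⟩
  have h2 : 19 * (k * n) = 19 * m := by rw [← mul_assoc, ← h1]
  exact Nat.eq_of_mul_eq_mul_left (by norm_num) h2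

/-- **S2527, the row `J₃`.** -/
theorem po_j3 {K : Type u} [Group K] [Finite K] [IsSimpleGroup K] (h : Cfsg.Spor.IsoJ3 K) : PO K := by
  obtain ⟨-, z, Q, v, ρ, n, u, F⟩ := Cfsg.Agent.KFacts.J3.exists_facts h
  obtain ⟨k, f, hf, hf2, -⟩ := exists_x0 F.model F.u_sq F.u_not
  obtain ⟨w, hw⟩ := (F.model.range g3).2 g3_E
  have L : Loc z Q v ρ f w :=
    { M := F.model
      hf := hf
      hf2 := hf2
      hw := hw
      card_C := F.card_C
      hv := by
        apply F.one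
        · intro h1
          apply v_ne_one F.model 4 0
          rw [zp_zero, one_mul]
          exact Subtype.ext h1
        · exact congrArg Subtype.val (F.model.v_sq 4) }
  have hdvd : ∀ (H : Subgroup K) (m : ℕ), Nat.card H = 128 * m → m ∣ 392445 := by
    intro H m hm
    have h1 : Nat.card H ∣ Nat.card K := Subgroup.card_subgroup_dvd_card H
    rw [hm, F.card_K, show 50232960 = 128 * 392445 by norm_num] at h1
    exact (Nat.mul_dvd_mul_iff_left (by norm_num)).1 h1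
  refine L.po (by rw [F.card_K]; norm_num) ?_ ?_
  · intro H m hm hm64
    rcases mod64 (hdvd H m hm) hm64 with h1 | h1 | h1
    · exact h1
    · exfalso
      subst h1
      obtain ⟨n, k, hn, hk, hkn⟩ := nineteen h (H := H) (m := 2176) (by rw [hm]) (by norm_num)
      have hkle : k ≤ 18 := Nat.le_of_dvd (by norm_num) hk
      interval_cases k <;> (clear * - hk hn hkn; omega)
    · exfalso
      subst h1
      obtain ⟨n, k, hn, hk, hkn⟩ := nineteen h (H := H) (m := 10368) (by rw [hm]) (by norm_num)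
      have hkle : k ≤ 18 := Nat.le_of_dvd (by norm_num) hk
      interval_cases k <;> (clear * - hk hn hkn; omega)
  · intro H m hm hm16 h15 _
    exact mod16 (hdvd H m hm) hm16 h15

end Cfsg.Agent.H223.J3Pron
end
end

-- part: H895/Pron/SuzE
section
prune_inst 0x203004001800000000000000200006601000000200408000714005060606904280400020c00009101002a0040000002002100000400000000a000400011c008000a20206e0c9a000200016002007180c00000000000000000000000000041000000000000
set_option linter.all false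
open scoped Cfsg.Agent.FastGrp

-- part: H895/Pron/SuzC
section
/-!
# The normal elementary abelian subgroups of the Sylow 2-subgroup of `Suz` (helper895)

* `V = A2 ∪ h1 A2`, `EL`, `cov`, `w_V`.
-/

set_option autoImplicit false
set_option maxRecDepth 100000

namespace Cfsg.Agent.H895.Pron.SuzC

open Cfsg.Spor Cfsg.Agent.Lib.PermNet Cfsg.Agent.Lib.PermNetOrbit Cfsg.Agent.SporadicRecognition.SuzPhi
  Cfsg.Agent.SporadicRecognition.SuzBound Cfsg.Agent.SporadicRecognition.SuzOrder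
  Cfsg.Agent.SporadicRecognition.SuzNet Cfsg.Agent.Schreier.SuzNetT
  Cfsg.Agent.SuzThree.Basic Cfsg.Agent.SuzThree.CentA Cfsg.Agent.SuzThree.QZero
  Cfsg.Agent.KFacts.Codes Cfsg.Agent.KFacts.Orbits Cfsg.Agent.KFacts.SuzLarge Cfsg.Agent.KFacts.LargeO2
  Cfsg.Agent.H895.Pron.SuzS Cfsg.Agent.H895.Pron.SuzB Subgroup

open Cfsg.Agent.KFacts.SuzR hiding s1 s2

open Cfsg.Agent.Schreier.SuzT (s1 s2 s3 s4 x4 x5 x6 x7 x8 x9 x10 x11 x12)
open Cfsg.Agent.Schreier.Suz (T)

/-- the product on codes by tables -/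
private noncomputable def mulF (c d : ℕ) : ℕ :=
  Nat.xor (Nat.xor c d) (Nat.shiftLeft (Nat.land (Nat.shiftRight 27030 (Nat.land (Nat.land (Nat.shiftRight
    0xddcceeffddcceeff5544667755446677aabb9988aabb99882233110022331100 (Nat.mul 4 (Nat.land c 63))) 15) d)) 1) 6)

open Cfsg.Agent.LargeExtra.Model (lin xs bf xs_congr) in
private theorem mulc_eq : mulc BB 6 = mulF := by
  funext c d
  have h1 : ∀ n ≤ 6, lin BB n c = lin BB n (c &&& 63) := by
    intro n hn
    induction n with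
    | zero => rfl
    | succ n ih =>
      have h2 : ∀ n < 6, Nat.testBit 63 n = true := by decide
      rw [lin, lin, ih (by omega), Nat.testBit_and, h2 n (by omega), Bool.and_true]
  have h3 : ∀ v < 64, lin BB 6 v = Nat.land (Nat.shiftRight
    0xddcceeffddcceeff5544667755446677aabb9988aabb99882233110022331100 (Nat.mul 4 v)) 15 := by
    decide +kernel
  have h4 : ∀ m < 16, (if xs (fun j => Nat.testBit m j) 6 = true then 2 ^ 6 else 0) =
      Nat.shiftLeft (Nat.land (Nat.shiftRight 27030 m) 1) 6 := by decide +kernel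
  have h5 := (h1 6 le_rfl).trans (h3 _ (Nat.lt_succ_of_le Nat.and_le_right))
  have h6 : bf BB 6 c d = xs (fun j => Nat.testBit (lin BB 6 c &&& d) j) 6 :=
    xs_congr fun j _ => (Nat.testBit_and _ _ _).symm
  have h7 : lin BB 6 c &&& d < 16 := by
    rw [h5]
    exact Nat.lt_succ_of_le (Nat.and_le_left.trans Nat.and_le_right)
  rw [mulc, h6, h4 _ h7, h5]
  rfl

/-- the action on codes by tables -/
private noncomputable def actF (I : ℕ → ℕ) (c : ℕ) : ℕ :=
  Nat.xor (Nat.rec (motive := fun _ => ℕ) 0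
    (fun k x => Bool.rec (motive := fun _ => ℕ) x (mulF x (I k)) (c.testBit k)) 6) (Nat.land c 64)

private theorem act_eq : act BB 6 = actF := by
  funext I c
  have h1 : ∀ k, aux BB 6 I c k = Nat.rec (motive := fun _ => ℕ) 0
      (fun k x => Bool.rec (motive := fun _ => ℕ) x (mulF x (I k)) (c.testBit k)) k := by
    intro k
    induction k with
    | zero => rfl
    | succ k ih =>
      rw [aux, ih, mulc_eq]
      show _ = Bool.rec (motive := fun _ => ℕ) _ _ (c.testBit k)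
      cases c.testBit k <;> rfl
  have h2 : (if c.testBit 6 = true then 2 ^ 6 else 0) = c &&& 2 ^ 6 := by
    rw [Nat.and_two_pow]
    cases c.testBit 6 <;> rfl
  rw [act, h1, h2]
  rfl

/-- `Q0` by codes -/
theorem exists_code {q : Suz} (hq : q ∈ Q0) : ∃ c < 128, C c = q := by
  rw [Q0_eq] at hq
  exact (mem_RG rels tri).1 hq

/-! ### `h1` -/

set_option Elab.async false in
theorem h1_sq : el h1 * el h1 = 1 := by
  have := pow_one_of (w := h1) 2 (by (rewrite [Cfsg.Agent.Lib.PermNetFast.checkEq_fast]; decide +kernel))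
  rwa [pow_two] at this

theorem h1_inv : (el h1)⁻¹ = el h1 := inv_eq_of_mul_eq_one_right h1_sq

theorem h1_mem : el h1 ∈ T := by rw [← e_x8]; exact Cfsg.Agent.Schreier.Suz.x8_mem

theorem h1_comm {a : Suz} (ha : a ∈ A2) : el h1 * a = a * el h1 := by
  obtain ⟨c, hc, rfl⟩ := ha
  have h := act_h1.conj c
  have : ∀ c ∈ lA2, act BB 6 (img l_h1) c = c := by decide +kernel
  rw [this c hc] at h
  exact mul_inv_eq_iff_eq_mul.1 h

/-- the subgroup `V` -/
noncomputable def V : Subgroup Suz where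
  carrier := {g | g ∈ A2 ∨ ∃ a ∈ A2, g = el h1 * a}
  one_mem' := Or.inl A2.one_mem
  mul_mem' := by
    rintro g g' (h | ⟨a, ha, rfl⟩) (h' | ⟨a', ha', rfl⟩)
    · exact Or.inl (A2.mul_mem h h')
    · right
      refine ⟨g * a', A2.mul_mem h ha', ?_⟩
      rw [← mul_assoc, ← h1_comm h, mul_assoc]
    · right
      exact ⟨a * g', A2.mul_mem ha h', by rw [mul_assoc]⟩
    · left
      have e : el h1 * a * (el h1 * a') = a * a' := by
        rw [h1_comm ha, mul_assoc, ← mul_assoc (el h1), h1_sq, one_mul]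
      rw [e]
      exact A2.mul_mem ha ha'
  inv_mem' := by
    rintro g (h | ⟨a, ha, rfl⟩)
    · exact Or.inl (A2.inv_mem h)
    · right
      refine ⟨a⁻¹, A2.inv_mem ha, ?_⟩
      rw [mul_inv_rev, h1_inv, h1_comm (A2.inv_mem ha)]

theorem A2_le_V : A2 ≤ V := fun _ h => Or.inl h

theorem V_le_T : V ≤ T := by
  rintro g (h | ⟨a, ha, rfl⟩)
  · exact Q0_le_T (A2_le_Q0 h)
  · exact T.mul_mem h1_mem (Q0_le_T (A2_le_Q0 ha))

set_option Elab.async false in
theorem w_h1 : w * el h1 = el h1 * w :=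
  eq_of_reps (r_w.mul (Rep.el h1)) ((Rep.el h1).mul r_w) (by (rewrite [Cfsg.Agent.Lib.PermNetFast.checkEq_fast]; decide +kernel))

theorem w_A2 {a : Suz} (ha : a ∈ A2) : w * a = a * w := by
  obtain ⟨c, hc, rfl⟩ := ha
  have h := act_w.conj c
  have : ∀ c ∈ lA2, act BB 6 (img l_w) c = c := by decide +kernel
  rw [this c hc] at h
  exact mul_inv_eq_iff_eq_mul.1 h

theorem w_V {v : Suz} (hv : v ∈ V) : w * v = v * w := by
  rcases hv with h | ⟨a, ha, rfl⟩
  · exact w_A2 h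
  · rw [← mul_assoc, w_h1, mul_assoc, w_A2 ha, mul_assoc]

/-! ### `cov` -/

theorem cov {s : Suz} (hs : s ∈ T) : ∃ q ∈ Q0, ∀ a ∈ A1, q⁻¹ * s * a = a * (q⁻¹ * s) := by
  have hz : s * z0 = z0 * s := T_comm hs
  have hfix : ∀ t : Suz, t * z0 = z0 * t → t * C 8 = C 8 * t → ∀ a ∈ A1, t * a = a * t := by
    rintro t h1 h2 _ ⟨c, hc, rfl⟩
    have h72 : C 72 = z0 * C 8 := by rw [← C_64, C_mul']; congr 1
    simp only [lA1, List.mem_cons, List.not_mem_nil, or_false] at hc
    rcases hc with rfl | rfl | rfl | rfl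
    · rw [C_zero']; group
    · rw [C_64]; exact h1
    · exact h2
    · rw [h72, ← mul_assoc, h1, mul_assoc, h2, mul_assoc]
  obtain ⟨c, hc, hcc⟩ := (N_T (le_normalizer hs)).2.1 (C 8) ⟨8, by decide, rfl⟩
  have h8 : C 8 = s⁻¹ * (s * C 8 * s⁻¹) * s := by group
  simp only [lA1, List.mem_cons, List.not_mem_nil, or_false] at hc
  rcases hc with rfl | rfl | rfl | rfl
  · exfalso
    rw [← hcc, C_zero'] at h8
    have h9 : C 8 = C 0 := by rw [h8, C_zero']; group
    exact absurd (C_inj' (by norm_num) (by norm_num) h9) (by norm_num)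
  · exfalso
    rw [← hcc, C_64] at h8
    have h9 : C 8 = C 64 := by rw [h8, C_64, mul_assoc, ← hz]; group
    exact absurd (C_inj' (by norm_num) (by norm_num) h9) (by norm_num)
  · refine ⟨1, Q0.one_mem, ?_⟩
    rw [inv_one, one_mul]
    exact hfix s hz (mul_inv_eq_iff_eq_mul.1 hcc.symm)
  · refine ⟨C 16, C_mem 16, ?_⟩
    apply hfix
    · have h1 : C 16 * z0 = z0 * C 16 := T_comm (Q0_le_T (C_mem 16))
      have h2 : (C 16)⁻¹ * z0 = z0 * (C 16)⁻¹ := by
        rw [inv_mul_eq_iff_eq_mul, ← mul_assoc, h1, mul_inv_cancel_right]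
      rw [mul_assoc, hz, ← mul_assoc, h2, mul_assoc]
    · have h1 : C 16 * C 8 = C 72 * C 16 := by
        rw [C_mul', C_mul']; congr 1
      have h2 : s * C 8 = C 72 * s := mul_inv_eq_iff_eq_mul.1 hcc.symm
      have h3 : (C 16)⁻¹ * C 72 = C 8 * (C 16)⁻¹ := by
        rw [inv_mul_eq_iff_eq_mul, ← mul_assoc, h1, mul_inv_cancel_right]
      rw [mul_assoc, h2, ← mul_assoc, h3, mul_assoc]

/-! ### elements acting on `Q0` modulo `A2` trivially -/

/-- the pruned enumeration -/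
def enum : List ℕ → ℕ → Bool
  | f, 0 =>
    ((List.range 6).all fun i => f.getD (5 - i) 0 == 2 ^ i || f.getD (5 - i) 0 == 2 ^ i ^^^ 64) ||
    ((List.range 6).all fun i => f.getD (5 - i) 0 == img l_h1 i || f.getD (5 - i) 0 == img l_h1 i ^^^ 64)
  | f, k + 1 => lA2.all fun a =>
    let c := mulc BB 6 a (2 ^ (5 - k))
    !(mulc BB 6 c c == mulc BB 6 (2 ^ (5 - k)) (2 ^ (5 - k)) &&
      (List.range (5 - k)).all fun j =>
        (mulc BB 6 c (f.getD (4 - k - j) 0) == mulc BB 6 (f.getD (4 - k - j) 0) c) ==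
          (mulc BB 6 (2 ^ (5 - k)) (2 ^ j) == mulc BB 6 (2 ^ j) (2 ^ (5 - k)))) || enum (c :: f) k

theorem enum_ok : enum [] 6 = true := by
  delta enum enum._f
  rewrite [mulc_eq]
  decide +kernel

theorem enum_step {f : List ℕ} {k : ℕ} (h : enum f (k + 1) = true) {a : ℕ} (ha : a ∈ lA2)
    (h1 : mulc BB 6 (mulc BB 6 a (2 ^ (5 - k))) (mulc BB 6 a (2 ^ (5 - k))) = mulc BB 6 (2 ^ (5 - k)) (2 ^ (5 - k)))
    (h2 : ∀ j < 5 - k, (mulc BB 6 (mulc BB 6 a (2 ^ (5 - k))) (f.getD (4 - k - j) 0) =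
      mulc BB 6 (f.getD (4 - k - j) 0) (mulc BB 6 a (2 ^ (5 - k)))) ↔
        (mulc BB 6 (2 ^ (5 - k)) (2 ^ j) = mulc BB 6 (2 ^ j) (2 ^ (5 - k)))) :
    enum (mulc BB 6 a (2 ^ (5 - k)) :: f) k = true := by
  rw [enum, List.all_eq_true] at h
  have h3 := h a ha
  simp only [Bool.or_eq_true, Bool.not_eq_true', Bool.and_eq_false_iff] at h3
  rcases h3 with (h3 | h3) | h3
  · exfalso
    rw [h1] at h3
    simp at h3
  · exfalso
    rw [← Bool.not_eq_true] at h3
    apply h3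
    rw [List.all_eq_true]
    intro j hj
    rw [beq_iff_eq, Bool.eq_iff_iff, beq_iff_eq, beq_iff_eq]
    exact h2 j (List.mem_range.1 hj)
  · exact h3

/-- the list of the first values -/
def L (F : ℕ → ℕ) : ℕ → List ℕ
  | 0 => []
  | m + 1 => F m :: L F m

theorem L_getD (F : ℕ → ℕ) : ∀ m j : ℕ, j < m → (L F m).getD (m - 1 - j) 0 = F j := by
  intro m
  induction m with
  | zero => intro j hj; omega
  | succ m ih =>
    intro j hj
    rw [L]
    rcases Nat.lt_succ_iff_lt_or_eq.1 hj with h | h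
    · have e : m + 1 - 1 - j = (m - 1 - j) + 1 := by omega
      rw [e, List.getD_cons_succ]
      exact ih j h
    · subst h
      simp

theorem mulc_lt {c d : ℕ} (hc : c < 128) (hd : d < 128) : mulc BB 6 c d < 128 := by
  rw [mulc]
  apply Nat.xor_lt_two_pow (n := 7)
  · exact Nat.xor_lt_two_pow (n := 7) hc hd
  · split_ifs <;> norm_num

theorem lA2_lt : ∀ a ∈ lA2, a < 128 := by decide

theorem pow_lt {i : ℕ} (hi : i < 6) : 2 ^ i < 128 := by interval_cases i <;> norm_num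

theorem x_eq {i : ℕ} (hi : i < 6) : C (2 ^ i) = xx i := cod_pow hi

theorem C_xor (c : ℕ) : C (c ^^^ 64) = C c * z0 := by
  have h := cod_xor_flag rels c true
  rw [if_pos rfl] at h
  rw [C, show (64 : ℕ) = 2 ^ 6 by norm_num, h]
  exact (T_comm (Q0_le_T (C_mem c))).symm

theorem mem_Q0_of {y : Suz} (hz : y * z0 = z0 * y) (h : ∀ i < 6, y * xx i * y⁻¹ = xx i ∨ y * xx i * y⁻¹ = xx i * z0) :
    y ∈ Q0 := by
  have hfin := Cfsg.Agent.SporadicRecognition.SuzOrder.finiteSuz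
  apply mem_of_triv large hz
  have hle : Q0 ≤ fixQ large {y} := by
    nth_rw 1 [Q0_eq]
    rw [RG, closure_le]
    rintro g (rfl | ⟨i, hi, rfl⟩)
    · rw [SetLike.mem_coe, mem_fixQ]
      refine ⟨z_mem, ?_⟩
      rintro _ rfl
      left
      rw [hz, mul_inv_cancel_right]
    · rw [SetLike.mem_coe, mem_fixQ]
      refine ⟨?_, ?_⟩
      · rw [← x_eq hi]; exact C_mem _
      · rintro _ rfl
        exact h i hi
  intro x hx
  exact (hle hx).2 y rfl

theorem of_triv_A2 {y : Suz} (hz : y * z0 = z0 * y) (h : ∀ q ∈ Q0, y * q * y⁻¹ * q⁻¹ ∈ A2) :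
    y ∈ Q0 ∨ ∃ q ∈ Q0, y = el h1 * q := by
  classical
  have hex : ∀ i : ℕ, ∃ a ∈ lA2, y * C (2 ^ i) * y⁻¹ = C (mulc BB 6 a (2 ^ i)) := by
    intro i
    obtain ⟨a, ha, haa⟩ := h (C (2 ^ i)) (C_mem _)
    refine ⟨a, ha, ?_⟩
    rw [← C_mul', haa, inv_mul_cancel_right]
  choose a ha hya using hex
  have hlt : ∀ i < 6, mulc BB 6 (a i) (2 ^ i) < 128 := fun i hi => mulc_lt (lA2_lt _ (ha i)) (pow_lt hi)
  -- squares
  have hsq : ∀ i < 6, mulc BB 6 (mulc BB 6 (a i) (2 ^ i)) (mulc BB 6 (a i) (2 ^ i)) = mulc BB 6 (2 ^ i) (2 ^ i) := by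
    intro i hi
    apply C_inj' (mulc_lt (hlt i hi) (hlt i hi)) (mulc_lt (pow_lt hi) (pow_lt hi))
    have h0 : mulc BB 6 (2 ^ i) (2 ^ i) = 0 ∨ mulc BB 6 (2 ^ i) (2 ^ i) = 64 := by
      have : ∀ i < 6, mulc BB 6 (2 ^ i) (2 ^ i) = 0 ∨ mulc BB 6 (2 ^ i) (2 ^ i) = 64 := by decide +kernel
      exact this i hi
    rw [← C_mul', ← hya i]
    have e : y * C (2 ^ i) * y⁻¹ * (y * C (2 ^ i) * y⁻¹) = y * (C (2 ^ i) * C (2 ^ i)) * y⁻¹ := by group
    rw [e, C_mul']
    rcases h0 with h0 | h0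
    · rw [h0, C_zero']; group
    · rw [h0, C_64, hz, mul_inv_cancel_right]
  have hcm : ∀ i < 6, ∀ j < 6, (mulc BB 6 (mulc BB 6 (a i) (2 ^ i)) (mulc BB 6 (a j) (2 ^ j)) =
      mulc BB 6 (mulc BB 6 (a j) (2 ^ j)) (mulc BB 6 (a i) (2 ^ i))) ↔
      (mulc BB 6 (2 ^ i) (2 ^ j) = mulc BB 6 (2 ^ j) (2 ^ i)) := by
    intro i hi j hj
    have e1 : ∀ i j, C (mulc BB 6 (mulc BB 6 (a i) (2 ^ i)) (mulc BB 6 (a j) (2 ^ j))) =
        y * (C (2 ^ i) * C (2 ^ j)) * y⁻¹ := by
      intro i j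
      rw [← C_mul' (mulc BB 6 (a i) (2 ^ i)), ← hya i, ← hya j]; group
    constructor
    · intro h1
      apply C_inj' (mulc_lt (pow_lt hi) (pow_lt hj)) (mulc_lt (pow_lt hj) (pow_lt hi))
      have h2 := congrArg C h1
      rw [e1, e1] at h2
      rw [← C_mul', ← C_mul']
      exact mul_left_cancel (mul_right_cancel h2)
    · intro h1
      apply C_inj' (mulc_lt (hlt i hi) (hlt j hj)) (mulc_lt (hlt j hj) (hlt i hi))
      rw [e1, e1, C_mul', C_mul', h1]
  have hL : ∀ m ≤ 6, enum (L (fun i => mulc BB 6 (a i) (2 ^ i)) m) (6 - m) = true := by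
    intro m
    induction m with
    | zero => intro _; exact enum_ok
    | succ m ih =>
      intro hm
      have h1 := ih (by omega)
      have e : 6 - m = (5 - m) + 1 := by omega
      rw [e] at h1
      have e2 : 6 - (m + 1) = 5 - m := by omega
      have e3 : 5 - (5 - m) = m := by omega
      have h2 := enum_step h1 (ha m) (by rw [e3]; exact hsq m (by omega)) (by
        rw [e3]
        intro j hj
        have e4 : 4 - (5 - m) - j = m - 1 - j := by omega
        rw [e4, L_getD _ m j hj]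
        exact hcm m (by omega) j (by omega))
      rw [e3] at h2
      rw [e2]
      exact h2
  have h6 := hL 6 le_rfl
  rw [show 6 - 6 = 0 by norm_num, enum, Bool.or_eq_true, List.all_eq_true, List.all_eq_true] at h6
  rcases h6 with h6 | h6
  · left
    apply mem_Q0_of hz
    intro i hi
    have h7 := h6 i (List.mem_range.2 hi)
    rw [show (5 - i) = 6 - 1 - i by omega, L_getD _ 6 i hi, Bool.or_eq_true, beq_iff_eq, beq_iff_eq] at h7
    rw [← x_eq hi, hya i]
    rcases h7 with h7 | h7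
    · left; rw [h7]
    · right; rw [h7, C_xor]
  · right
    refine ⟨(el h1)⁻¹ * y, ?_, by group⟩
    have hhz : (el h1)⁻¹ * z0 = z0 * (el h1)⁻¹ := by
      rw [inv_mul_eq_iff_eq_mul, ← mul_assoc, act_h1.comm, mul_inv_cancel_right]
    apply mem_Q0_of
    · rw [mul_assoc, hz, ← mul_assoc, hhz, mul_assoc]
    intro i hi
    have h7 := h6 i (List.mem_range.2 hi)
    rw [show (5 - i) = 6 - 1 - i by omega, L_getD _ 6 i hi, Bool.or_eq_true, beq_iff_eq, beq_iff_eq] at h7
    have h8 : (el h1)⁻¹ * C (img l_h1 i) * el h1 = xx i := by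
      rw [← act_h1.gen i hi]; group
    have e : (el h1)⁻¹ * y * xx i * ((el h1)⁻¹ * y)⁻¹ = (el h1)⁻¹ * (y * xx i * y⁻¹) * el h1 := by group
    rw [e, ← x_eq hi, hya i, x_eq hi]
    rcases h7 with h7 | h7
    · left; rw [h7, h8]
    · right
      rw [h7, C_xor]
      have e2 : (el h1)⁻¹ * (C (img l_h1 i) * z0) * el h1 = (el h1)⁻¹ * C (img l_h1 i) * (z0 * el h1) := by group
      rw [e2, ← act_h1.comm, ← mul_assoc, h8]

/-! ### the normal elementary abelian subgroups -/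

def l_34 : List ℕ := [1, 40, 103, 8, 124, 66]

theorem act_34 : Act (s3 * s4) l_34 := act_s3.mul act_s4 l_34 (by decide +kernel)

theorem sq34 : ∀ c < 128, mulc BB 6 c c = 0 →
    mulc BB 6 (mulc BB 6 (act BB 6 (img l_34) c) c) (mulc BB 6 (act BB 6 (img l_34) c) c) = 0 → c ∈ lA2 := by
  decide +kernel

open Cfsg.Agent.Schreier.SuzT (r_s1 r_s2 r_s3 r_s4 r_x5 r_x6 r_x8 r_x10 r_x11 r_x12) in
theorem s1_h1 : s1 * el h1 = el h1 * C 65 * s1 := by
  rw [← e_x10, ← e_x8]
  exact eq_of_reps ((conv r_s1).mul (conv r_x8)) (((conv r_x8).mul (conv r_x10)).mul (conv r_s1)) (by decide +kernel)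

open Cfsg.Agent.Schreier.SuzT (r_s1 r_s2 r_s3 r_s4 r_x5 r_x6 r_x8 r_x10 r_x11 r_x12) in
theorem s2_h1 : s2 * el h1 = el h1 * (x11 * x12) * s2 := by
  rw [← e_x8]
  exact eq_of_reps ((conv r_s2).mul (conv r_x8)) (((conv r_x8).mul ((conv r_x11).mul (conv r_x12))).mul (conv r_s2))
    (by decide +kernel)

open Cfsg.Agent.Schreier.SuzT (r_s1 r_s2 r_s3 r_s4 r_x5 r_x6 r_x8 r_x10 r_x11 r_x12) in
theorem s3_h1 : s3 * el h1 = el h1 * s3 := by
  rw [← e_x8]
  exact eq_of_reps ((conv r_s3).mul (conv r_x8)) ((conv r_x8).mul (conv r_s3)) (by decide +kernel)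

open Cfsg.Agent.Schreier.SuzT (r_s1 r_s2 r_s3 r_s4 r_x5 r_x6 r_x8 r_x10 r_x11 r_x12) in
theorem s4_h1 : s4 * el h1 = el h1 * s4 := by
  rw [← e_x8]
  exact eq_of_reps ((conv r_s4).mul (conv r_x8)) ((conv r_x8).mul (conv r_s4)) (by decide +kernel)

/-- `[s, C c]` lies in `A2` -/
def chk (l : List ℕ) (c : ℕ) : Bool := lA2.any fun m => mulc BB 6 m c == act BB 6 (img l) c

theorem V_code : ∀ c < 128, (mulc BB 6 (act BB 6 (img l_h1) c) c == 0 && chk l_s1 c && chk l_s2 c && chk l_s3 c &&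
    chk l_s4 c) = true → c ∈ lA2 := by decide +kernel

theorem act_lt {l : List ℕ} (hl : ∀ i < 6, img l i < 128) {c : ℕ} (_hc : c < 128) : act BB 6 (img l) c < 128 := by
  rw [act]
  have h : ∀ k ≤ 6, aux BB 6 (img l) c k < 128 := by
    intro k
    induction k with
    | zero => intro _; rw [aux]; norm_num
    | succ k ih =>
      intro hk
      rw [aux]
      split_ifs
      · exact mulc_lt (ih (by omega)) (hl k (by omega))
      · exact ih (by omega)
  apply Nat.xor_lt_two_pow (n := 7) (h 6 le_rfl)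
  split_ifs <;> norm_num

theorem EL {N : Subgroup Suz} (hNT : N ≤ T) (hn : ∀ s ∈ T, ∀ n ∈ N, s * n * s⁻¹ ∈ N) (h2 : ∀ n ∈ N, n * n = 1)
    (hne : N ≠ ⊥) : (∀ n ∈ N, n = 1 ∨ n = z0) ∨ N = A1 ∨ (A2 ≤ N ∧ N ≤ V) := by
  have hcm : ∀ s ∈ T, ∀ n ∈ N, s * n * s⁻¹ * n⁻¹ ∈ N := fun s hs n hn' => N.mul_mem (hn s hs n hn') (N.inv_mem hn')
  have hcm' : ∀ s ∈ T, ∀ n ∈ N, n * s * n⁻¹ * s⁻¹ ∈ N := fun s hs n hn' => by
    have h := N.mul_mem hn' (hn s hs _ (N.inv_mem hn'))
    have e : n * (s * n⁻¹ * s⁻¹) = n * s * n⁻¹ * s⁻¹ := by group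
    rwa [e] at h
  -- `z0 ∈ N`
  have hz0 : ∀ q ∈ Q0, q ∈ N → q ≠ 1 → z0 ∈ N := by
    intro q hq hqN hq1
    by_cases hc : ∀ y ∈ Q0, y * q = q * y
    · rcases centralizer_R hc with h | h
      · exact absurd h hq1
      · rw [← h]; exact hqN
    · push Not at hc
      obtain ⟨y, hy, hyq⟩ := hc
      have h1 := (R_comm hy hq).resolve_left hyq
      have h3 := hcm y (Q0_le_T hy) q hqN
      have e : y * q * y⁻¹ * q⁻¹ = z0 := by rw [h1]; group
      rwa [e] at h3
  have hzN : z0 ∈ N := by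
    obtain ⟨n, hnN, hn1⟩ : ∃ n ∈ N, n ≠ 1 := by
      by_contra hc
      push Not at hc
      exact hne ((eq_bot_iff_forall N).2 hc)
    by_cases hnQ : n ∈ Q0
    · exact hz0 n hnQ hnN hn1
    · have hnz : n * z0 = z0 * n := T_comm (hNT hnN)
      by_contra hzN
      apply hnQ
      have hfin := Cfsg.Agent.SporadicRecognition.SuzOrder.finiteSuz
      apply mem_of_triv large hnz
      intro x hx
      left
      by_contra hne'
      apply hzN
      refine hz0 (n * x * n⁻¹ * x⁻¹) ?_ (hcm' x (Q0_le_T hx) n hnN) ?_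
      · exact Q0.mul_mem (normal_R (mem_C1.2 hnz) hx) (Q0.inv_mem hx)
      · intro h
        exact hne' (mul_inv_eq_one.1 h)
  have h64 : C 64 ∈ N := by rw [C_64]; exact hzN
  -- the codes
  have hcode : ∀ c < 128, C c ∈ N → c ∈ lA2 := by
    intro c hc hcN
    have hsq : ∀ d < 128, C d ∈ N → mulc BB 6 d d = 0 := by
      intro d hd hdN
      apply C_inj' (mulc_lt hd hd) (by norm_num)
      rw [← C_mul', h2 _ hdN, C_zero']
    have h34 : ∀ i < 6, img l_34 i < 128 := by decide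
    apply sq34 c hc (hsq c hc hcN)
    apply hsq _ (mulc_lt (act_lt h34 hc) hc)
    rw [← C_mul', ← act_34.conj c]
    exact N.mul_mem (hn _ (T.mul_mem Cfsg.Agent.Schreier.Suz.s3_mem Cfsg.Agent.Schreier.Suz.s4_mem) _ hcN) hcN
  have hQN : ∀ q ∈ Q0, q ∈ N → q ∈ A2 := by
    intro q hq hqN
    obtain ⟨c, hc, rfl⟩ := exists_code hq
    exact ⟨c, hcode c hc hqN, rfl⟩
  have h0 : C 0 ∈ N := by rw [C_zero']; exact N.one_mem
  have hA1 : C 8 ∈ N → A1 ≤ N := by
    intro h8
    have h72 : C 72 ∈ N := mem_mulc h64 h8 (by decide +kernel)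
    rintro _ ⟨c, hc, rfl⟩
    simp only [lA1, List.mem_cons, List.not_mem_nil, or_false] at hc
    rcases hc with rfl | rfl | rfl | rfl <;> assumption
  have hA2 : C 1 ∈ N → A2 ≤ N := by
    intro h1
    have h3 := hn s2 Cfsg.Agent.Schreier.Suz.s2_mem _ h1
    have h4 : s2 * C 1 * s2⁻¹ = C 73 := by
      rw [act_s2.conj 1]; congr 1
    rw [h4] at h3
    have h72 : C 72 ∈ N := mem_mulc h1 h3 (by decide +kernel)
    have h8 : C 8 ∈ N := mem_mulc h64 h72 (by decide +kernel)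
    have h9 : C 9 ∈ N := mem_mulc h1 h8 (by decide +kernel)
    have h65 : C 65 ∈ N := mem_mulc h64 h1 (by decide +kernel)
    rintro _ ⟨c, hc, rfl⟩
    simp only [lA2, List.mem_cons, List.not_mem_nil, or_false] at hc
    rcases hc with rfl | rfl | rfl | rfl | rfl | rfl | rfl | rfl <;> assumption
  have hA1' : C 8 ∈ N ∨ C 72 ∈ N → A1 ≤ N := by
    rintro (h | h)
    · exact hA1 h
    · exact hA1 (mem_mulc h64 h (by decide +kernel))
  have hA2' : C 1 ∈ N ∨ C 65 ∈ N ∨ C 9 ∈ N ∨ C 73 ∈ N → A2 ≤ N := by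
    have h9 : C 9 ∈ N → A2 ≤ N := by
      intro h
      have h3 := hn s2 Cfsg.Agent.Schreier.Suz.s2_mem _ h
      have h4 : s2 * C 9 * s2⁻¹ = C 65 ∨ s2 * C 9 * s2⁻¹ = C 1 := by
        rw [act_s2.conj 9]
        have : act BB 6 (img l_s2) 9 = 65 ∨ act BB 6 (img l_s2) 9 = 1 := by decide +kernel
        rcases this with h | h <;> rw [h]
        · left; rfl
        · right; rfl
      rcases h4 with h4 | h4
      · rw [h4] at h3
        exact hA2 (mem_mulc h64 h3 (by decide +kernel))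
      · rw [h4] at h3
        exact hA2 h3
    rintro (h | h | h | h)
    · exact hA2 h
    · exact hA2 (mem_mulc h64 h (by decide +kernel))
    · exact h9 h
    · exact h9 (mem_mulc h64 h (by decide +kernel))
  by_cases hNQ : N ≤ Q0
  · by_cases h1 : C 1 ∈ N ∨ C 65 ∈ N ∨ C 9 ∈ N ∨ C 73 ∈ N
    · right; right
      exact ⟨hA2' h1, fun n hnN => A2_le_V (hQN n (hNQ hnN) hnN)⟩
    · by_cases h8 : C 8 ∈ N ∨ C 72 ∈ N
      · right; left
        refine le_antisymm ?_ (hA1' h8)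
        intro n hnN
        obtain ⟨c, hc, rfl⟩ := hQN n (hNQ hnN) hnN
        push Not at h1
        simp only [lA2, List.mem_cons, List.not_mem_nil, or_false] at hc
        rcases hc with rfl | rfl | rfl | rfl | rfl | rfl | rfl | rfl
        · exact ⟨0, by decide, rfl⟩
        · exact ⟨64, by decide, rfl⟩
        · exact ⟨8, by decide, rfl⟩
        · exact ⟨72, by decide, rfl⟩
        · exact absurd hnN h1.1
        · exact absurd hnN h1.2.1
        · exact absurd hnN h1.2.2.1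
        · exact absurd hnN h1.2.2.2
      · left
        intro n hnN
        obtain ⟨c, hc, rfl⟩ := hQN n (hNQ hnN) hnN
        push Not at h1 h8
        simp only [lA2, List.mem_cons, List.not_mem_nil, or_false] at hc
        rcases hc with rfl | rfl | rfl | rfl | rfl | rfl | rfl | rfl
        · left; exact C_zero'
        · right; exact C_64
        · exact absurd hnN h8.1
        · exact absurd hnN h8.2
        · exact absurd hnN h1.1
        · exact absurd hnN h1.2.1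
        · exact absurd hnN h1.2.2.1
        · exact absurd hnN h1.2.2.2
  · right; right
    -- an element outside `Q0`
    have hout : ∀ y ∈ N, y ∉ Q0 → ∃ a ∈ A2, y = el h1 * a := by
      intro y hy hyQ
      have hyz : y * z0 = z0 * y := T_comm (hNT hy)
      rcases of_triv_A2 hyz (fun q hq => hQN _ (Q0.mul_mem (normal_R (mem_C1.2 hyz) hq) (Q0.inv_mem hq))
        (hcm' q (Q0_le_T hq) y hy)) with h | ⟨q, hq, rfl⟩
      · exact absurd h hyQ
      obtain ⟨c, hc, rfl⟩ := exists_code hq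
      refine ⟨C c, ⟨c, ?_, rfl⟩, rfl⟩
      have hact : ∀ (l : List ℕ) (s : Suz), s ∈ T → (∀ i < 6, img l i < 128) → Act s l →
          (∃ a ∈ A2, s * el h1 = el h1 * a * s) → chk l c = true := by
        rintro l s hs hl hsl ⟨a, ha, hsa⟩
        have h3 := hcm s hs _ hy
        have e : s * (el h1 * C c) * s⁻¹ * (el h1 * C c)⁻¹ = el h1 * (a * (s * C c * s⁻¹ * (C c)⁻¹)) * (el h1)⁻¹ := by
          have : s * (el h1 * C c) * s⁻¹ * (el h1 * C c)⁻¹ = (s * el h1) * (C c * s⁻¹ * (C c)⁻¹) * (el h1)⁻¹ := by group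
          rw [this, hsa]; group
        rw [e] at h3
        have h4 : a * (s * C c * s⁻¹ * (C c)⁻¹) ∈ Q0 :=
          Q0.mul_mem (A2_le_Q0 ha) (Q0.mul_mem (by rw [hsl.conj]; exact C_mem _) (Q0.inv_mem (C_mem _)))
        have h5 := hQN _ (normal_R (mem_C1.2 act_h1.comm) h4) h3
        have h6 : a * (s * C c * s⁻¹ * (C c)⁻¹) ∈ A2 := by
          have h7 := h1_comm h5
          have h8 : el h1 * (a * (s * C c * s⁻¹ * (C c)⁻¹)) * (el h1)⁻¹ = a * (s * C c * s⁻¹ * (C c)⁻¹) := by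
            calc el h1 * (a * (s * C c * s⁻¹ * (C c)⁻¹)) * (el h1)⁻¹ =
                  (el h1)⁻¹ * (el h1 * (el h1 * (a * (s * C c * s⁻¹ * (C c)⁻¹)) * (el h1)⁻¹)) := by
                    rw [inv_mul_cancel_left]
              _ = (el h1)⁻¹ * (el h1 * (a * (s * C c * s⁻¹ * (C c)⁻¹)) * (el h1)⁻¹ * el h1) := by rw [h7]
              _ = a * (s * C c * s⁻¹ * (C c)⁻¹) := by rw [inv_mul_cancel_right, inv_mul_cancel_left]
          rwa [h8] at h5
        have h7 : s * C c * s⁻¹ * (C c)⁻¹ ∈ A2 := by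
          have := A2.mul_mem (A2.inv_mem ha) h6
          rwa [inv_mul_cancel_left] at this
        obtain ⟨m, hm, hmc⟩ := h7
        rw [chk, List.any_eq_true]
        refine ⟨m, hm, ?_⟩
        rw [beq_iff_eq]
        apply C_inj' (mulc_lt (lA2_lt m hm) hc) (act_lt hl hc)
        rw [← C_mul', hmc, ← hsl.conj]
        group
      apply V_code c hc
      simp only [Bool.and_eq_true]
      refine ⟨⟨⟨⟨?_, ?_⟩, ?_⟩, ?_⟩, ?_⟩
      · have h3 := h2 _ hy
        have hh : ∀ i < 6, img l_h1 i < 128 := by decide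
        rw [beq_iff_eq]
        apply C_inj' (mulc_lt (act_lt hh hc) hc) (by norm_num)
        rw [← C_mul', ← act_h1.conj, C_zero', h1_inv]
        rw [← h3]
        group
      · exact hact _ s1 Cfsg.Agent.Schreier.Suz.s1_mem (by decide) act_s1 ⟨C 65, ⟨65, by decide, rfl⟩, s1_h1⟩
      · refine hact _ s2 Cfsg.Agent.Schreier.Suz.s2_mem (by decide) act_s2 ⟨x11 * x12, ?_, s2_h1⟩
        rw [e_x11, e_x12]
        exact A2.mul_mem ⟨72, by decide, rfl⟩ ⟨64, by decide, rfl⟩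
      · exact hact _ s3 Cfsg.Agent.Schreier.Suz.s3_mem (by decide) act_s3 ⟨1, A2.one_mem, by rw [mul_one]; exact s3_h1⟩
      · exact hact _ s4 Cfsg.Agent.Schreier.Suz.s4_mem (by decide) act_s4 ⟨1, A2.one_mem, by rw [mul_one]; exact s4_h1⟩
    obtain ⟨y, hy, hyQ⟩ := SetLike.not_le_iff_exists.1 hNQ
    obtain ⟨a, ha, rfl⟩ := hout y hy hyQ
    obtain ⟨c, hc, rfl⟩ := ha
    have hstep : C (mulc BB 6 (act BB 6 (img l_h1) (mulc BB 6 (mulc BB 6 c 16) c)) 16) ∈ N := by
      have h3 := hcm' (C 16) (Q0_le_T (C_mem 16)) _ hy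
      have hi : ∀ d : ℕ, mulc BB 6 d d = 0 → (C d)⁻¹ = C d := by
        intro d hd
        apply inv_eq_of_mul_eq_one_right
        rw [C_mul', hd, C_zero']
      have hcc : (C c)⁻¹ = C c := by
        apply hi
        have : ∀ c ∈ lA2, mulc BB 6 c c = 0 := by decide +kernel
        exact this c hc
      have h16 : (C 16)⁻¹ = C 16 := hi 16 (by decide +kernel)
      rw [← C_mul', ← act_h1.conj, ← C_mul', ← C_mul']
      nth_rw 2 [← hcc]
      nth_rw 2 [← h16]
      have e : el h1 * C c * C 16 * (el h1 * C c)⁻¹ * (C 16)⁻¹ = el h1 * (C c * C 16 * (C c)⁻¹) * (el h1)⁻¹ * (C 16)⁻¹ := by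
        group
      rw [← e]
      exact h3
    refine ⟨?_, ?_⟩
    · apply hA2'
      have : ∀ c ∈ lA2, mulc BB 6 (act BB 6 (img l_h1) (mulc BB 6 (mulc BB 6 c 16) c)) 16 ∈ [1, 65, 9, 73] := by
        decide +kernel
      have h5 := this c hc
      simp only [List.mem_cons, List.not_mem_nil, or_false] at h5
      rcases h5 with h5 | h5 | h5 | h5 <;> rw [h5] at hstep
      · exact Or.inl hstep
      · exact Or.inr (Or.inl hstep)
      · exact Or.inr (Or.inr (Or.inl hstep))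
      · exact Or.inr (Or.inr (Or.inr hstep))
    · intro n hnN
      by_cases hnQ : n ∈ Q0
      · exact A2_le_V (hQN n hnQ hnN)
      · exact Or.inr (hout n hnN hnQ)

end Cfsg.Agent.H895.Pron.SuzC
end

-- part: H895/Pron/SuzD
section
/-!
# The 45 conjugates of `A2` in `C(z0)` in the Suzuki group and the overgroups of `T` in `C(z0)` (helper895)

* `FB` : an overgroup of `T` in `C(z0)` not containing `w` normalises `A2`.
-/

set_option autoImplicit false
set_option maxRecDepth 100000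

namespace Cfsg.Agent.H895.Pron.SuzD

open Cfsg.Spor Cfsg.Agent.Lib.PermNet Cfsg.Agent.Lib.PermNetOrbit Cfsg.Agent.SporadicRecognition.SuzPhi
  Cfsg.Agent.SporadicRecognition.SuzBound Cfsg.Agent.SporadicRecognition.SuzOrder
  Cfsg.Agent.SporadicRecognition.SuzNet Cfsg.Agent.Schreier.SuzNetT
  Cfsg.Agent.SuzThree.Basic Cfsg.Agent.SuzThree.CentA Cfsg.Agent.SuzThree.QZero
  Cfsg.Agent.KFacts.Codes Cfsg.Agent.KFacts.Orbits Cfsg.Agent.KFacts.SuzLarge Cfsg.Agent.KFacts.LargeO2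
  Cfsg.Agent.H895.Pron.SuzS Cfsg.Agent.H895.Pron.SuzB Cfsg.Agent.H895.Pron.SuzC Subgroup

open Cfsg.Agent.KFacts.SuzR hiding s1 s2

open Cfsg.Agent.Schreier.SuzT (s1 s2 s3 s4 x4 x5 x6 x7 x8 x9 x10 x11 x12 r_s1 r_s2 r_s3 r_s4)
open Cfsg.Agent.Schreier.Suz (T)

/-- the codes of the conjugates -/
def lns : List (List ℕ) :=
  [[0, 64, 1, 65, 8, 72, 9, 73], [0, 64, 2, 66, 8, 72, 10, 74], [0, 64, 4, 68, 8, 72, 12, 76], [0, 64, 8, 72,
  39, 103, 47, 111], [0, 64, 8, 72, 32, 96, 40, 104], [0, 64, 9, 73, 18, 82, 27, 91], [0, 64, 1, 65, 16, 80,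
  17, 81], [0, 64, 9, 73, 20, 84, 29, 93], [0, 64, 1, 65, 60, 124, 61, 125], [0, 64, 1, 65, 30, 94, 31, 95],
  [0, 64, 9, 73, 55, 119, 62, 126], [0, 64, 1, 65, 58, 122, 59, 123], [0, 64, 9, 73, 48, 112, 57, 121], [0,
  64, 10, 74, 17, 81, 27, 91], [0, 64, 12, 76, 17, 81, 29, 93], [0, 64, 27, 91, 39, 103, 60, 124], [0, 64, 4,
  68, 27, 91, 31, 95], [0, 64, 20, 84, 40, 104, 60, 124], [0, 64, 17, 81, 47, 111, 62, 126], [0, 64, 29, 93,
  32, 96, 61, 125], [0, 64, 2, 66, 29, 93, 31, 95], [0, 64, 27, 91, 32, 96, 59, 123], [0, 64, 30, 94, 32, 96,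
  62, 126], [0, 64, 18, 82, 47, 111, 61, 125], [0, 64, 17, 81, 40, 104, 57, 121], [0, 64, 2, 66, 60, 124, 62,
  126], [0, 64, 31, 95, 40, 104, 55, 119], [0, 64, 4, 68, 16, 80, 20, 84], [0, 64, 20, 84, 47, 111, 59, 123],
  [0, 64, 29, 93, 39, 103, 58, 122], [0, 64, 30, 94, 39, 103, 57, 121], [0, 64, 4, 68, 58, 122, 62, 126], [0,
  64, 16, 80, 39, 103, 55, 119], [0, 64, 2, 66, 16, 80, 18, 82], [0, 64, 12, 76, 48, 112, 60, 124], [0, 64,
  4, 68, 57, 121, 61, 125], [0, 64, 31, 95, 47, 111, 48, 112], [0, 64, 12, 76, 55, 119, 59, 123], [0, 64, 12,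
  76, 18, 82, 30, 94], [0, 64, 18, 82, 40, 104, 58, 122], [0, 64, 10, 74, 20, 84, 30, 94], [0, 64, 10, 74,
  48, 112, 58, 122], [0, 64, 2, 66, 57, 121, 59, 123], [0, 64, 16, 80, 32, 96, 48, 112], [0, 64, 10, 74, 55,
  119, 61, 125]]

/-- the action of the generators -/
def nx : List (List ℕ) :=
  [[1, 0, 2, 4, 3, 13, 33, 40, 42, 20, 41, 25, 44, 5, 38, 21, 16, 28, 39, 30, 9, 15, 29, 24, 23, 11, 36, 27,
  17, 22, 19, 31, 43, 6, 37, 35, 26, 34, 14, 18, 7, 10, 8, 32, 12], [0, 2, 1, 4, 3, 7, 6, 5, 8, 9, 12, 11,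
  10, 14, 13, 19, 20, 23, 24, 15, 16, 29, 30, 17, 18, 35, 36, 33, 39, 21, 22, 42, 43, 27, 44, 25, 26, 41, 40,
  28, 38, 37, 31, 32, 34], [0, 1, 2, 3, 4, 5, 6, 7, 8, 9, 10, 11, 12, 33, 27, 23, 38, 19, 32, 17, 40, 39, 26,
  15, 43, 44, 22, 14, 29, 28, 36, 37, 18, 13, 35, 34, 30, 31, 16, 21, 20, 42, 41, 24, 25], [0, 5, 7, 10, 12,
  1, 6, 2, 8, 9, 3, 11, 4, 13, 14, 44, 40, 35, 18, 34, 38, 41, 36, 25, 24, 23, 30, 27, 31, 37, 26, 28, 32,
  33, 19, 17, 22, 29, 20, 42, 16, 21, 39, 43, 15], [0, 1, 4, 2, 3, 5, 6, 12, 9, 11, 7, 8, 10, 13, 24, 16, 21,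
  36, 14, 30, 42, 15, 29, 38, 18, 20, 28, 43, 34, 35, 31, 19, 27, 33, 26, 22, 37, 17, 39, 23, 41, 44, 25, 32,
  40]]

/-- words -/
def wds : List (List ℕ × ℕ) :=
  [([], 0), ([], 1), ([2], 1), ([3], 1), ([3, 2], 1), ([], 2), ([1], 2), ([2], 2), ([3, 1], 2), ([1, 2], 2),
  ([1, 3, 1], 2), ([3, 1, 2], 2), ([2, 1, 3, 1], 2), ([], 3), ([2], 3), ([3], 3), ([1, 2], 3), ([3, 2], 3),
  ([1, 3], 3), ([2, 3], 3), ([2, 1, 2], 3), ([3, 1, 2], 3), ([1, 3, 2], 3), ([2, 3, 2], 3), ([2, 1, 3], 3),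
  ([3, 1, 3], 3), ([1, 2, 3], 3), ([3, 2, 3], 3), ([3, 2, 1, 2], 3), ([2, 3, 1, 2], 3), ([2, 1, 3, 2], 3),
  ([3, 1, 3, 2], 3), ([1, 2, 3, 2], 3), ([3, 2, 3, 2], 3), ([3, 2, 1, 3], 3), ([2, 3, 1, 3], 3), ([2, 1, 2,
  3], 3), ([3, 1, 2, 3], 3), ([1, 3, 2, 3], 3), ([2, 3, 2, 1, 2], 3), ([3, 2, 3, 1, 2], 3), ([3, 2, 1, 3, 2],
  3), ([2, 3, 1, 3, 2], 3), ([2, 1, 2, 3, 2], 3), ([3, 1, 2, 3, 2], 3)]

/-- the generators of `T` -/
noncomputable def S : ℕ → Suz
  | 0 => s1
  | 1 => s2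
  | 2 => s3
  | _ => s4

def SI : ℕ → List ℕ
  | 0 => l_s1
  | 1 => l_s2
  | 2 => l_s3
  | _ => l_s4

theorem act_S (i : ℕ) : Act (S i) (SI i) := by
  match i with
  | 0 => exact act_s1
  | 1 => exact act_s2
  | 2 => exact act_s3
  | _ + 3 => exact act_s4

theorem S_mem (i : ℕ) : S i ∈ T := by
  match i with
  | 0 => exact Cfsg.Agent.Schreier.Suz.s1_mem
  | 1 => exact Cfsg.Agent.Schreier.Suz.s2_mem
  | 2 => exact Cfsg.Agent.Schreier.Suz.s3_mem
  | _ + 3 => exact Cfsg.Agent.Schreier.Suz.s4_mem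

/-- words in the generators of `T` -/
noncomputable def tw : List ℕ → Suz
  | [] => 1
  | i :: l => S i * tw l

def twa : List ℕ → ℕ → ℕ
  | [], c => c
  | i :: l, c => act BB 6 (img (SI i)) (twa l c)

theorem tw_mem (l : List ℕ) : tw l ∈ T := by
  induction l with
  | nil => exact T.one_mem
  | cons i l ih => exact T.mul_mem (S_mem i) ih

theorem tw_conj (l : List ℕ) (c : ℕ) : tw l * C c * (tw l)⁻¹ = C (twa l c) := by
  induction l with
  | nil => simp [tw, twa]
  | cons i l ih =>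
    rw [tw, twa, ← (act_S i).conj, ← ih]
    group

/-- words in the generators of `C1` -/
noncomputable def gw : List ℕ → Suz
  | [] => 1
  | i :: l => gg i * gw l

def gwa : List ℕ → ℕ → ℕ
  | [], c => c
  | i :: l, c => AA i (gwa l c)

theorem gw_mem (l : List ℕ) : gw l ∈ C1 := by
  induction l with
  | nil => exact C1.one_mem
  | cons i l ih => exact C1.mul_mem (gg_mem i) ih

theorem gw_conj (l : List ℕ) (c : ℕ) : gw l * C c * (gw l)⁻¹ = C (gwa l c) := by
  induction l with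
  | nil => simp [gw, gwa]
  | cons i l ih =>
    rw [gw, gwa, ← conj_AA i, ← ih]
    group

/-- the representatives of the orbits of `T` -/
def rl : ℕ → List ℕ
  | 0 => []
  | 1 => [0]
  | 2 => [3, 0]
  | _ => [0, 3, 0]

/-- the conjugates -/
def Ln (k : ℕ) : Set Suz := C '' {c | c ∈ lns.getD k []}

theorem tab1 : ((List.range 45).all fun k => (List.range 5).all fun j =>
    decide ((nx.getD j []).getD k 0 < 45) && (lns.getD k []).all fun c =>
      (lns.getD ((nx.getD j []).getD k 0) []).contains (AA j c)) = true := by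
  delta AA
  rewrite [act_eq]
  decide +kernel

theorem tab2 : ((List.range 45).all fun k => decide ((wds.getD k ([], 0)).2 < 4) && lA2.all fun c =>
    (lns.getD k []).contains (twa (wds.getD k ([], 0)).1 (gwa (rl (wds.getD k ([], 0)).2) c))) = true := by
  delta twa gwa twa._f gwa._f AA
  rewrite [act_eq]
  decide +kernel

theorem tab3 : ((List.range 45).all fun k => decide ((lns.getD k []).length ≤ 8)) = true := by decide +kernel

theorem ncard_Ln {k : ℕ} (hk : k < 45) : (Ln k).ncard ≤ 8 := by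
  classical
  have h := List.all_eq_true.1 tab3 k (List.mem_range.2 hk)
  rw [decide_eq_true_eq] at h
  have e : {c | c ∈ lns.getD k []} = ((lns.getD k []).toFinset : Set ℕ) := by
    ext c; simp
  rw [Ln, e]
  refine (Set.ncard_image_le (Finset.finite_toSet _)).trans ?_
  rw [Set.ncard_coe_finset]
  exact (List.toFinset_card_le _).trans h

theorem step1 {j k : ℕ} (hj : j < 5) (hk : k < 45) : ∃ k' < 45, ∀ y ∈ Ln k, gg j * y * (gg j)⁻¹ ∈ Ln k' := by
  have h := List.all_eq_true.1 tab1 k (List.mem_range.2 hk)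
  have h := List.all_eq_true.1 h j (List.mem_range.2 hj)
  rw [Bool.and_eq_true, decide_eq_true_eq] at h
  refine ⟨_, h.1, ?_⟩
  rintro _ ⟨c, hc, rfl⟩
  have h2 := List.all_eq_true.1 h.2 c hc
  rw [List.contains_iff_mem] at h2
  rw [show gg j * C c * (gg j)⁻¹ = C (AA j c) from conj_AA j c]
  exact ⟨_, h2, rfl⟩

theorem step2 {k : ℕ} (hk : k < 45) : ∃ t ∈ T, ∃ i < 4, ∀ a ∈ A2, (t * gw (rl i)) * a * (t * gw (rl i))⁻¹ ∈ Ln k := by
  have h := List.all_eq_true.1 tab2 k (List.mem_range.2 hk)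
  rw [Bool.and_eq_true, decide_eq_true_eq] at h
  refine ⟨tw (wds.getD k ([], 0)).1, tw_mem _, (wds.getD k ([], 0)).2, h.1, ?_⟩
  rintro _ ⟨c, hc, rfl⟩
  have h2 := List.all_eq_true.1 h.2 c hc
  rw [List.contains_iff_mem] at h2
  refine ⟨_, h2, ?_⟩
  rw [← tw_conj, ← gw_conj]
  group

/-- the submonoid of elements permuting the conjugates -/
noncomputable def Mo : Submonoid Suz where
  carrier := {g | ∀ k < 45, ∃ k' < 45, ∀ y ∈ Ln k, g * y * g⁻¹ ∈ Ln k'}
  one_mem' := fun k hk => ⟨k, hk, fun y hy => by simpa using hy⟩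
  mul_mem' := by
    rintro a b ha hb k hk
    obtain ⟨k', hk', h'⟩ := hb k hk
    obtain ⟨k'', hk'', h''⟩ := ha k' hk'
    refine ⟨k'', hk'', fun y hy => ?_⟩
    have e : a * b * y * (a * b)⁻¹ = a * (b * y * b⁻¹) * a⁻¹ := by group
    rw [e]
    exact h'' _ (h' y hy)

theorem C1_le_Mo {g : Suz} (hg : g ∈ C1) : g ∈ Mo := by
  have hfin := Cfsg.Agent.SporadicRecognition.SuzOrder.finiteSuz
  rw [← Cfsg.Agent.KFacts.SuzCent.cl_ga, cl, ← mem_toSubmonoid, closure_toSubmonoid_of_finite] at hg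
  have hle : Submonoid.closure {g | ∃ w ∈ ga, el w = g} ≤ Mo := by
    rw [Submonoid.closure_le]
    rintro _ ⟨w, hw, rfl⟩
    simp only [ga, List.mem_cons, List.not_mem_nil, or_false] at hw
    rcases hw with rfl | rfl | rfl | rfl | rfl
    · exact fun k hk => step1 (j := 0) (by norm_num) hk
    · exact fun k hk => step1 (j := 1) (by norm_num) hk
    · exact fun k hk => step1 (j := 2) (by norm_num) hk
    · exact fun k hk => step1 (j := 3) (by norm_num) hk
    · exact fun k hk => step1 (j := 4) (by norm_num) hk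
  exact hle hg

theorem Ln0 {a : Suz} (ha : a ∈ A2) : a ∈ Ln 0 := by
  obtain ⟨c, hc, rfl⟩ := ha
  have : ∀ c ∈ lA2, c ∈ lns.getD 0 [] := by decide +kernel
  exact ⟨c, this c hc, rfl⟩

theorem ncard_A2 : (A2 : Set Suz).ncard = 8 := by
  have e : (A2 : Set Suz) = C '' (lA2.toFinset : Set ℕ) := by
    ext g
    rw [SetLike.mem_coe, mem_A2, Set.mem_image]
    simp
  have hinj : Set.InjOn C (lA2.toFinset : Set ℕ) := by
    intro a ha b hb hab
    have ha' : a ∈ lA2 := by simpa using ha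
    have hb' : b ∈ lA2 := by simpa using hb
    exact C_inj' (lA2_lt a ha') (lA2_lt b hb') hab
  rw [e, hinj.ncard_image, Set.ncard_coe_finset]
  decide

/-- two elements mapping `A2` into the same small set -/
theorem norm_of_both {g g' : Suz} {X : Set Suz} (hX : X.ncard ≤ 8) (h : ∀ a ∈ A2, g * a * g⁻¹ ∈ X)
    (h' : ∀ a ∈ A2, g' * a * g'⁻¹ ∈ X) : ∀ a ∈ A2, (g'⁻¹ * g) * a * (g'⁻¹ * g)⁻¹ ∈ A2 := by
  have hfin := Cfsg.Agent.SporadicRecognition.SuzOrder.finiteSuz
  have key : ∀ x : Suz, (∀ a ∈ A2, x * a * x⁻¹ ∈ X) → (fun a => x * a * x⁻¹) '' (A2 : Set Suz) = X := by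
    intro x hx
    apply Set.eq_of_subset_of_ncard_le
    · rintro _ ⟨a, ha, rfl⟩
      exact hx a ha
    · have hinj : Function.Injective (fun a => x * a * x⁻¹) := (MulAut.conj x).injective
      rw [Set.ncard_image_of_injective _ hinj, ncard_A2]
      exact hX
    · exact Set.toFinite _
  intro a ha
  have h1 : g * a * g⁻¹ ∈ (fun a => g' * a * g'⁻¹) '' (A2 : Set Suz) := by
    rw [key g' h']; exact h a ha
  obtain ⟨b, hb, hbe⟩ := h1
  have e : (g'⁻¹ * g) * a * (g'⁻¹ * g)⁻¹ = g'⁻¹ * (g * a * g⁻¹) * g' := by group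
  have e2 : g'⁻¹ * (g' * b * g'⁻¹) * g' = b := by group
  rw [e, ← hbe]
  simp only
  rw [e2]
  exact hb

/-- **the double cosets** -/
theorem cosets {g : Suz} (hg : g ∈ C1) : ∃ t ∈ T, ∃ i < 4, ∃ p ∈ C1, (∀ a ∈ A2, p * a * p⁻¹ ∈ A2) ∧
    g = t * gw (rl i) * p := by
  obtain ⟨k, hk, h⟩ := C1_le_Mo hg 0 (by norm_num)
  obtain ⟨t, ht, i, hi, h'⟩ := step2 hk
  refine ⟨t, ht, i, hi, (t * gw (rl i))⁻¹ * g, ?_, ?_, by group⟩
  · exact C1.mul_mem (C1.inv_mem (C1.mul_mem (mem_C1.2 (T_comm ht)) (gw_mem _))) hg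
  · exact norm_of_both (ncard_Ln hk) (fun a ha => h a (Ln0 ha)) h'

/-! ### the certificates -/

theorem h2_sq : el h2 * el h2 = 1 := by
  have := pow_one_of (w := h2) 2 (by decide +kernel)
  rwa [pow_two] at this

theorem d_sq : el [.d] * el [.d] = 1 := by
  have := pow_one_of (w := [.d]) 2 (by decide +kernel)
  rwa [pow_two] at this

theorem gw1 : gw (rl 1) = el [.d] := mul_one _

theorem gw2 : gw (rl 2) = el h2 * el [.d] := by
  show el h2 * (el [.d] * 1) = _
  rw [mul_one]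

theorem gw3 : gw (rl 3) = el [.d] * (el h2 * el [.d]) := by
  show el [.d] * (el h2 * (el [.d] * 1)) = _
  rw [mul_one]

theorem gw1' : (gw (rl 1))⁻¹ = el [.d] := by
  rw [gw1]; exact inv_eq_of_mul_eq_one_right d_sq

theorem gw2' : (gw (rl 2))⁻¹ = el [.d] * el h2 := by
  rw [gw2, mul_inv_rev, inv_eq_of_mul_eq_one_right d_sq, inv_eq_of_mul_eq_one_right h2_sq]

theorem gw3' : (gw (rl 3))⁻¹ = el [.d] * el h2 * el [.d] := by
  rw [gw3, mul_inv_rev, mul_inv_rev, inv_eq_of_mul_eq_one_right d_sq, inv_eq_of_mul_eq_one_right h2_sq]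

theorem r_d : Rep (el [.d]) (wd [.d]) := Rep.el _
theorem r_h2 : Rep (el h2) (wd h2) := Rep.el _

theorem cert1 : w * (s4 * (el [.d] * s3 * el [.d]) * s3 * s4 * (el [.d] * (s2 * s4 * s3 * s2) * el [.d]) *
    qp [some .k4]) = 1 :=
  eq_of_reps (r_w.mul ((((((conv r_s4).mul ((r_d.mul (conv r_s3)).mul r_d)).mul (conv r_s3)).mul (conv r_s4)).mul
    ((r_d.mul ((((conv r_s2).mul (conv r_s4)).mul (conv r_s3)).mul (conv r_s2))).mul r_d)).mul (rep_qp _))) Rep.one
    (by decide +kernel)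

set_option Elab.async false in
theorem cert2 : w = s3 * s4 * (el h2 * el [.d] * s4 * (el [.d] * el h2)) * s3 *
    (el h2 * el [.d] * (s2 * s4 * s3 * s2) * (el [.d] * el h2)) * s3 * qp [some .k1, some .k2, some .k3, some .k4] :=
  eq_of_reps r_w (((((((conv r_s3).mul (conv r_s4)).mul (((r_h2.mul r_d).mul (conv r_s4)).mul (r_d.mul r_h2))).mul
    (conv r_s3)).mul (((r_h2.mul r_d).mul ((((conv r_s2).mul (conv r_s4)).mul (conv r_s3)).mul (conv r_s2))).mul
      (r_d.mul r_h2))).mul (conv r_s3)).mul (rep_qp _)) (by (rewrite [Cfsg.Agent.Lib.PermNetFast.checkEq_fast]; decide +kernel))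

set_option Elab.async false in
theorem cert3 : w * (s3 * (el [.d] * (el h2 * el [.d]) * s4 * (el [.d] * el h2 * el [.d])) * s3 *
    (el [.d] * (el h2 * el [.d]) * s4 * (el [.d] * el h2 * el [.d])) *
    (el [.d] * (el h2 * el [.d]) * (s2 * s3 * s2) * (el [.d] * el h2 * el [.d])) * s3) = 1 :=
  eq_of_reps (r_w.mul ((((((conv r_s3).mul (((r_d.mul (r_h2.mul r_d)).mul (conv r_s4)).mul ((r_d.mul r_h2).mul r_d))).mul
    (conv r_s3)).mul (((r_d.mul (r_h2.mul r_d)).mul (conv r_s4)).mul ((r_d.mul r_h2).mul r_d))).mul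
    (((r_d.mul (r_h2.mul r_d)).mul (((conv r_s2).mul (conv r_s3)).mul (conv r_s2))).mul ((r_d.mul r_h2).mul r_d))).mul
    (conv r_s3))) Rep.one (by (rewrite [Cfsg.Agent.Lib.PermNetFast.checkEq_fast]; decide +kernel))

/-- the elements of `C1` acting trivially on `A2` modulo `z0` -/
def Triv (g : Suz) : Prop := g * z0 = z0 * g ∧ ∀ a ∈ A2, g * a * g⁻¹ = a ∨ g * a * g⁻¹ = a * z0

theorem triv_of_act {g : Suz} {l : List ℕ} (h : Act g l)
    (hl : (lA2.all fun c => act BB 6 (img l) c == c || act BB 6 (img l) c == c ^^^ 64) = true) : Triv g := by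
  refine ⟨h.comm, ?_⟩
  rintro _ ⟨c, hc, rfl⟩
  have h1 := List.all_eq_true.1 hl c hc
  rw [Bool.or_eq_true, beq_iff_eq, beq_iff_eq] at h1
  rw [h.conj]
  rcases h1 with h1 | h1
  · left; rw [h1]
  · right; rw [h1, C_xor]

theorem triv_s3 : Triv s3 := triv_of_act act_s3 (by decide +kernel)
theorem triv_s4 : Triv s4 := triv_of_act act_s4 (by decide +kernel)

def l_2432 : List ℕ := (List.range 6).map fun i => act BB 6 (img l_s2) (act BB 6 (img l_s4) (act BB 6 (img l_s3) (img l_s2 i)))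
def l_232 : List ℕ := (List.range 6).map fun i => act BB 6 (img l_s2) (act BB 6 (img l_s3) (img l_s2 i))
def l_243 : List ℕ := (List.range 6).map fun i => act BB 6 (img l_s2) (act BB 6 (img l_s4) (img l_s3 i))
def l_24 : List ℕ := (List.range 6).map fun i => act BB 6 (img l_s2) (img l_s4 i)
def l_23 : List ℕ := (List.range 6).map fun i => act BB 6 (img l_s2) (img l_s3 i)

theorem act_24 : Act (s2 * s4) l_24 := act_s2.mul act_s4 _ (by decide +kernel)
theorem act_243 : Act (s2 * s4 * s3) l_243 := act_24.mul act_s3 _ (by decide +kernel)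
theorem act_2432 : Act (s2 * s4 * s3 * s2) l_2432 := act_243.mul act_s2 _ (by decide +kernel)
theorem act_23 : Act (s2 * s3) l_23 := act_s2.mul act_s3 _ (by decide +kernel)
theorem act_232 : Act (s2 * s3 * s2) l_232 := act_23.mul act_s2 _ (by decide +kernel)

theorem triv_2432 : Triv (s2 * s4 * s3 * s2) := triv_of_act act_2432 (by decide +kernel)
theorem triv_232 : Triv (s2 * s3 * s2) := triv_of_act act_232 (by decide +kernel)

theorem Triv.flag {g : Suz} (h : Triv g) : ∃ s ∈ T, ∃ k : ℕ, g = s * w ^ k := by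
  refine of_flag h.1 (fun a ha => ?_) (fun a ha => ?_)
  · rcases h.2 a (A12 ha) with h1 | h1 <;> rw [h1]
    · exact ha
    · exact A1.mul_mem ha z_A1
  · rcases h.2 a ha with h1 | h1 <;> rw [h1]
    · exact ha
    · exact A2.mul_mem ha (A12 z_A1)

theorem isPGroup_T : IsPGroup 2 T := by
  have hfin := Cfsg.Agent.SporadicRecognition.SuzOrder.finiteSuz
  exact IsPGroup.of_card Cfsg.Agent.Schreier.Suz.card_T

theorem inv_norm {p : Suz} {A : Subgroup Suz} (h : ∀ a ∈ A, p * a * p⁻¹ ∈ A) : ∀ a ∈ A, p⁻¹ * a * p⁻¹⁻¹ ∈ A := by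
  have hfin := Cfsg.Agent.SporadicRecognition.SuzOrder.finiteSuz
  have hle : A.map (MulAut.conj p).toMonoidHom ≤ A := by
    rintro _ ⟨a, ha, rfl⟩
    exact h a ha
  have he : A.map (MulAut.conj p).toMonoidHom = A :=
    eq_of_le_of_card_ge hle (by rw [card_map_of_injective (MulAut.conj p).injective])
  have hn := mem_normalizer_of_map he
  intro a ha
  exact (mem_normalizer_iff.1 (Subgroup.inv_mem _ hn) a).1 ha

/-- the cube trick -/
theorem conj_triv {p : Suz} (hp : p * z0 = z0 * p) (hpA : ∀ a ∈ A2, p * a * p⁻¹ ∈ A2) {y : Suz} (hy : y ∈ T)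
    (ht : Triv y) : p * y * p⁻¹ ∈ T := by
  have hpA' := inv_norm hpA
  have hpz : p⁻¹ * z0 = z0 * p⁻¹ := by
    rw [inv_mul_eq_iff_eq_mul, ← mul_assoc, hp, mul_inv_cancel_right]
  have h1 : Triv (p * y * p⁻¹) := by
    refine ⟨?_, fun a ha => ?_⟩
    · rw [mul_assoc, hpz, ← mul_assoc, mul_assoc p y z0, ht.1, ← mul_assoc, hp, mul_assoc, mul_assoc, mul_assoc]
    · have e : p * y * p⁻¹ * a * (p * y * p⁻¹)⁻¹ = p * (y * (p⁻¹ * a * p⁻¹⁻¹) * y⁻¹) * p⁻¹ := by group
      rw [e]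
      rcases ht.2 _ (hpA' a ha) with h2 | h2 <;> rw [h2]
      · left; group
      · right
        have e2 : p * (p⁻¹ * a * p⁻¹⁻¹ * z0) * p⁻¹ = a * (p * z0) * p⁻¹ := by group
        rw [e2, hp, mul_assoc, mul_inv_cancel_right]
  obtain ⟨s, hs, k, hk⟩ := h1.flag
  obtain ⟨n, hn⟩ := (IsPGroup.iff_orderOf.1 isPGroup_T) ⟨y, hy⟩
  have hyn : y ^ 2 ^ n = 1 := by
    rw [← hn, Subgroup.orderOf_mk, pow_orderOf_eq_one]
  refine mem_of_cube (n := n) ?_ ?_
  · rw [conj_pow, hyn]; group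
  · rw [hk]
    exact cube_mem w3 (fun t ht => w_T ht) hs k

/-- **the overgroups of `T` in the centraliser of `z0`** -/
theorem FB {H : Subgroup Suz} (hT : T ≤ H) (hz : ∀ h ∈ H, h * z0 = z0 * h) (hw : w ∉ H) :
    ∀ h ∈ H, ∀ a ∈ A2, h * a * h⁻¹ ∈ A2 := by
  intro h hh
  obtain ⟨t, ht, i, hi, p, hp, hpA, rfl⟩ := cosets (mem_C1.2 (hz h hh))
  have htA : ∀ a ∈ A2, t * a * t⁻¹ ∈ A2 := (N_T (le_normalizer ht)).2.2
  have hpz := mem_C1.1 hp
  have hpz' : p⁻¹ * z0 = z0 * p⁻¹ := by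
    rw [inv_mul_eq_iff_eq_mul, ← mul_assoc, hpz, mul_inv_cancel_right]
  -- conjugates of `Y`
  have hY : ∀ y ∈ T, Triv y → gw (rl i) * y * (gw (rl i))⁻¹ ∈ H := by
    intro y hy hyt
    have h1 := conj_triv hpz' (inv_norm hpA) hy hyt
    have h2 := H.mul_mem (H.mul_mem hh (hT h1)) (H.inv_mem hh)
    have h3 := H.mul_mem (H.mul_mem (H.inv_mem (hT ht)) h2) (hT ht)
    have e : t⁻¹ * (t * gw (rl i) * p * (p⁻¹ * y * p⁻¹⁻¹) * (t * gw (rl i) * p)⁻¹) * t =
      gw (rl i) * y * (gw (rl i))⁻¹ := by group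
    rwa [e] at h3
  have hs2 := hT Cfsg.Agent.Schreier.Suz.s2_mem
  have hs3 := hT Cfsg.Agent.Schreier.Suz.s3_mem
  have hs4 := hT Cfsg.Agent.Schreier.Suz.s4_mem
  have m2432 : s2 * s4 * s3 * s2 ∈ T :=
    T.mul_mem (T.mul_mem (T.mul_mem Cfsg.Agent.Schreier.Suz.s2_mem Cfsg.Agent.Schreier.Suz.s4_mem)
      Cfsg.Agent.Schreier.Suz.s3_mem) Cfsg.Agent.Schreier.Suz.s2_mem
  have m232 : s2 * s3 * s2 ∈ T :=
    T.mul_mem (T.mul_mem Cfsg.Agent.Schreier.Suz.s2_mem Cfsg.Agent.Schreier.Suz.s3_mem) Cfsg.Agent.Schreier.Suz.s2_mem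
  interval_cases i
  · intro a ha
    have e : t * gw (rl 0) * p * a * (t * gw (rl 0) * p)⁻¹ = t * (p * a * p⁻¹) * t⁻¹ := by
      show t * 1 * p * a * (t * 1 * p)⁻¹ = _
      group
    rw [e]
    exact htA _ (hpA a ha)
  · exfalso
    apply hw
    have h3 := hY s3 Cfsg.Agent.Schreier.Suz.s3_mem triv_s3
    have h4 := hY _ m2432 triv_2432
    rw [gw1', gw1] at h3 h4
    have hq : qp [some .k4] ∈ H := by rw [qp_eq]; exact hT (Q0_le_T (C_mem _))
    have h5 := H.mul_mem (H.mul_mem (H.mul_mem (H.mul_mem (H.mul_mem hs4 h3) hs3) hs4) h4) hq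
    rw [mul_eq_one_iff_eq_inv.1 cert1]
    exact H.inv_mem h5
  · exfalso
    apply hw
    have h3 := hY s4 Cfsg.Agent.Schreier.Suz.s4_mem triv_s4
    have h4 := hY _ m2432 triv_2432
    rw [gw2', gw2] at h3 h4
    have hq : qp [some .k1, some .k2, some .k3, some .k4] ∈ H := by rw [qp_eq]; exact hT (Q0_le_T (C_mem _))
    rw [cert2]
    exact H.mul_mem (H.mul_mem (H.mul_mem (H.mul_mem (H.mul_mem (H.mul_mem hs3 hs4) h3) hs3) h4) hs3) hq
  · exfalso
    apply hw
    have h3 := hY s4 Cfsg.Agent.Schreier.Suz.s4_mem triv_s4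
    have h4 := hY _ m232 triv_232
    rw [gw3', gw3] at h3 h4
    have h5 := H.mul_mem (H.mul_mem (H.mul_mem (H.mul_mem (H.mul_mem hs3 h3) hs3) h3) h4) hs3
    rw [mul_eq_one_iff_eq_inv.1 cert3]
    exact H.inv_mem h5

/-! ### the setup -/

/-- the Sylow 2-subgroup -/
noncomputable def P : Sylow 2 Suz := Cfsg.Agent.Schreier.Suz.T₀

theorem setup : Setup P z0 w A1 A2 V Q0 where
  zc _ hs := T_comm hs
  wz := act_w.comm
  wN := w_normalizer
  w3 := w3
  zA1 := z_A1
  A12 := A12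
  A2V := A2_le_V
  VS := V_le_T
  nA1 _ hs := (N_T (le_normalizer hs)).2.1
  wV _ hv := w_V hv
  NS _ hg := exists_of_mem_B (N_le_B hg)
  B _ h0 h1 h2 := of_flag h0 h1 h2
  QS := Q0_le_T
  nQ _ hg _ hq := normal_R (mem_C1.2 hg) hq
  cov _ hs := cov hs
  FB _ hT hz hw := FB hT hz hw
  EL _ hNT hn h2 hne := EL hNT hn h2 hne

end Cfsg.Agent.H895.Pron.SuzD
end

-- part: H895/Pron/SuzE
section
/-!
# The Sylow 2-subgroup of `Suz` normalises no nontrivial subgroup of odd order (helper895)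

* `cent` : a subgroup `D ≤ C(z0)` of odd order centralising a subgroup of index at most 2 of `Q0` is trivial;
* `odd_trivial` : a subgroup of odd order normalised by `T` is trivial;
* `centralizer_eq_bot` : `C(N) = 1` if `T` normalises `N` and no conjugate... (`z0 ∈ N`, `Z(N) = 1`).
-/

set_option autoImplicit false
set_option maxRecDepth 100000

namespace Cfsg.Agent.H895.Pron.SuzE

open Cfsg.Spor Cfsg.Agent.Lib.PermNet Cfsg.Agent.Lib.PermNetOrbit Cfsg.Agent.SporadicRecognition.SuzPhi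
  Cfsg.Agent.SporadicRecognition.SuzBound Cfsg.Agent.SporadicRecognition.SuzOrder
  Cfsg.Agent.SporadicRecognition.SuzNet Cfsg.Agent.Schreier.SuzNetT
  Cfsg.Agent.SuzThree.Basic Cfsg.Agent.SuzThree.CentA Cfsg.Agent.SuzThree.QZero
  Cfsg.Agent.KFacts.Codes Cfsg.Agent.KFacts.Orbits Cfsg.Agent.KFacts.SuzLarge Cfsg.Agent.KFacts.LargeO2
  Cfsg.Agent.H895.Pron.SuzS Cfsg.Agent.H895.Pron.SuzB Cfsg.Agent.H895.Pron.SuzC Cfsg.Agent.H895.Pron.SuzD Subgroup

open Cfsg.Agent.KFacts.SuzR hiding s1 s2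

open Cfsg.Agent.Schreier.SuzT (s1 s2 s3 s4 x4 x5 x6 x7 x8 x9 x10 x11 x12 r_s2 r_x5 r_x6 r_x8 r_x11 r_x12)
open Cfsg.Agent.Schreier.Suz (T)

/-- the conjugating element -/
def uw : List Suz.Gen := [.b, .f, .a, .b, .a, .b]
noncomputable def u : Suz := el uw
theorem r_u : Rep u (wd uw) := Rep.el _

theorem u_z : u * z0 = qp [some .k4] * u :=
  eq_of_reps (r_u.mul rep_z) ((rep_qp _).mul r_u) (by decide +kernel)

theorem u_1 : u * qp [some .k1] = x8 * x11 * x12 * u :=
  eq_of_reps (r_u.mul (rep_qp _)) ((((conv r_x8).mul (conv r_x11)).mul (conv r_x12)).mul r_u) (by decide +kernel)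

theorem u_2 : u * qp [some .k2] = s2 * x11 * x12 * u :=
  eq_of_reps (r_u.mul (rep_qp _)) ((((conv r_s2).mul (conv r_x11)).mul (conv r_x12)).mul r_u) (by decide +kernel)

theorem u_4 : u * qp [some .k3] = s2 * x5 * x11 * x12 * u :=
  eq_of_reps (r_u.mul (rep_qp _)) (((((conv r_s2).mul (conv r_x5)).mul (conv r_x11)).mul (conv r_x12)).mul r_u)
    (by decide +kernel)

theorem u_8 : u * qp [some .k4] = x11 * u :=
  eq_of_reps (r_u.mul (rep_qp _)) ((conv r_x11).mul r_u) (by decide +kernel)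

theorem u_32 : u * qp [some .k6] = s2 * x5 * x6 * x8 * x11 * x12 * u :=
  eq_of_reps (r_u.mul (rep_qp _)) (((((((conv r_s2).mul (conv r_x5)).mul (conv r_x6)).mul (conv r_x8)).mul
    (conv r_x11)).mul (conv r_x12)).mul r_u) (by decide +kernel)

/-- the subgroup of index 2 of `Q0` -/
noncomputable def R : Subgroup Suz := Q0 ⊓ T.comap (MulAut.conj u).toMonoidHom

theorem mem_R {q : Suz} : q ∈ R ↔ q ∈ Q0 ∧ u * q * u⁻¹ ∈ T := Iff.rfl

open Cfsg.Agent.Schreier.Suz in
theorem gen_R {i : ℕ} (hi : i < 6) (h4 : i ≠ 4) : xx i ∈ R := by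
  have key : ∀ (l : List (Option Qx)) (t : Suz), lc l = 2 ^ i → t ∈ T → u * qp l = t * u → xx i ∈ R := by
    intro l t hl ht h
    rw [← x_eq hi, ← hl, ← qp_eq]
    refine mem_R.2 ⟨by rw [qp_eq]; exact C_mem _, ?_⟩
    rw [h, mul_inv_cancel_right]
    exact ht
  interval_cases i
  · exact key [some .k1] _ (by decide +kernel) (mul_mem (mul_mem x8_mem x11_mem) x12_mem) u_1
  · exact key [some .k2] _ (by decide +kernel) (mul_mem (mul_mem s2_mem x11_mem) x12_mem) u_2
  · exact key [some .k3] _ (by decide +kernel) (mul_mem (mul_mem (mul_mem s2_mem x5_mem) x11_mem) x12_mem) u_4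
  · exact key [some .k4] _ (by decide +kernel) x11_mem u_8
  · exact absurd rfl h4
  · exact key [some .k6] _ (by decide +kernel)
      (mul_mem (mul_mem (mul_mem (mul_mem (mul_mem s2_mem x5_mem) x6_mem) x8_mem) x11_mem) x12_mem) u_32

theorem z_R : z0 ∈ R := by
  refine mem_R.2 ⟨z_mem, ?_⟩
  rw [u_z, mul_inv_cancel_right, qp_eq]
  exact Q0_le_T (C_mem _)

theorem C_mem_R {c : ℕ} (h : c.testBit 4 = false) : C c ∈ R := by
  have hzp : ∀ (x : Suz) (b : Bool), x ∈ R → Cfsg.Agent.LargeExtra.Pres.zp x b ∈ R := by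
    intro x b hx
    unfold Cfsg.Agent.LargeExtra.Pres.zp
    split_ifs
    · exact hx
    · exact R.one_mem
  have hp : ∀ k ≤ 6, Cfsg.Agent.LargeExtra.Pres.prd xx k c ∈ R := by
    intro k
    induction k with
    | zero => intro _; exact R.one_mem
    | succ k ih =>
      intro hk
      refine R.mul_mem (ih (by omega)) ?_
      by_cases h4 : k = 4
      · subst h4
        rw [h]
        exact R.one_mem
      · exact hzp _ _ (gen_R (by omega) h4)
  exact R.mul_mem (hzp _ _ z_R) (hp 6 le_rfl)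

theorem testBit_mulc (c d : ℕ) : (mulc BB 6 c d).testBit 4 = (c.testBit 4 ^^ d.testBit 4) := by
  rw [mulc, Nat.testBit_xor, testBit_flag, Nat.testBit_xor]
  simp

/-- `R` has index at most 2 in `Q0` -/
theorem index_R {q q' : Suz} (hq : q ∈ Q0) (hq' : q' ∈ Q0) (h : q ∉ R) (h' : q' ∉ R) : q⁻¹ * q' ∈ R := by
  obtain ⟨c, hc, rfl⟩ := exists_code hq
  obtain ⟨d, hd, rfl⟩ := exists_code hq'
  have h1 : c.testBit 4 = true := by
    by_contra h2
    exact h (C_mem_R (Bool.not_eq_true _ ▸ h2))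
  have h2 : d.testBit 4 = true := by
    by_contra h2
    exact h' (C_mem_R (Bool.not_eq_true _ ▸ h2))
  have h3 : C c * (C c * (C c * C c)) = 1 := by
    rcases R_sq hq with h4 | h4
    · rw [h4, mul_one, h4]
    · rw [← mul_assoc, h4, z_sq]
  have h4 : (C c)⁻¹ = C (mulc BB 6 c (mulc BB 6 c c)) := by
    rw [← C_mul', ← C_mul']
    exact inv_eq_of_mul_eq_one_right h3
  rw [h4, C_mul']
  apply C_mem_R
  rw [testBit_mulc, testBit_mulc, testBit_mulc, h1, h2]
  rfl

theorem one_of_odd {G : Type*} [Group G] {r : G} {n : ℕ} (hn : Odd n) (h : r ^ n = 1) (h4 : r ^ 4 = 1) : r = 1 := by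
  have h1 : orderOf r ∣ n := orderOf_dvd_of_pow_eq_one h
  have h2 : orderOf r ∣ 4 := orderOf_dvd_of_pow_eq_one h4
  have h3 : Nat.Coprime n 4 := by
    rw [show 4 = 2 ^ 2 by norm_num]
    exact Nat.Coprime.pow_right 2 hn.coprime_two_right
  have h5 : orderOf r ∣ 1 := by
    rw [← h3]
    exact Nat.dvd_gcd h1 h2
  rw [← orderOf_eq_one_iff]
  exact Nat.dvd_one.1 h5

theorem pow_four {q : Suz} (hq : q ∈ Q0) : q ^ 4 = 1 := by
  have e : q ^ 4 = (q * q) * (q * q) := by rw [show 4 = 2 + 2 by norm_num, pow_add, pow_two]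
  rw [e]
  rcases R_sq hq with h | h <;> rw [h]
  · exact mul_one 1
  · exact z_sq

/-- an element of odd order of `C(z0)` centralising `R` is trivial -/
theorem cent {d : Suz} {n : ℕ} (hn : Odd n) (hd : d ^ n = 1) (hdz : d * z0 = z0 * d) (hR : ∀ r ∈ R, d * r = r * d) :
    d = 1 := by
  have hQ : ∀ q ∈ Q0, q * d = d * q := by
    intro q hq
    by_cases hqR : q ∈ R
    · exact (hR q hqR).symm
    have hq' : d * q * d⁻¹ ∈ Q0 := normal_R (mem_C1.2 hdz) hq
    have hq'R : d * q * d⁻¹ ∉ R := by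
      intro h
      apply hqR
      have h1 := hR _ h
      have h2 : d * (d * q * d⁻¹) = d * q := by rw [h1]; group
      have h3 := mul_left_cancel h2
      rwa [h3] at h
    have hr : q⁻¹ * (d * q * d⁻¹) ∈ R := index_R hq hq' hqR hq'R
    obtain ⟨r, hr'⟩ : ∃ r, r = q⁻¹ * (d * q * d⁻¹) := ⟨_, rfl⟩
    rw [← hr'] at hr
    have h1 : d * q * d⁻¹ = q * r := by rw [hr']; group
    have hpow : ∀ k : ℕ, d ^ k * q * (d ^ k)⁻¹ = q * r ^ k := by
      intro k
      induction k with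
      | zero => simp
      | succ k ih =>
        have h2 : ∀ k : ℕ, d * r ^ k * d⁻¹ = r ^ k := by
          intro k
          rw [hR _ (R.pow_mem hr k), mul_inv_cancel_right]
        calc d ^ (k + 1) * q * (d ^ (k + 1))⁻¹ = d * (d ^ k * q * (d ^ k)⁻¹) * d⁻¹ := by rw [pow_succ']; group
          _ = d * (q * r ^ k) * d⁻¹ := by rw [ih]
          _ = (d * q * d⁻¹) * (d * r ^ k * d⁻¹) := by group
          _ = q * r * r ^ k := by rw [h1, h2]
          _ = q * r ^ (k + 1) := by rw [pow_succ', mul_assoc]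
    have h2 := hpow n
    rw [hd] at h2
    have h3 : r ^ n = 1 := by
      have h4 : q * r ^ n = q * 1 := by rw [← h2]; group
      exact mul_left_cancel h4
    have h4 := one_of_odd hn h3 (pow_four hr.1)
    rw [h4, mul_one] at h1
    exact (mul_inv_eq_iff_eq_mul.1 h1).symm
  rcases centralizer_R hQ with h | h
  · exact h
  · exfalso
    rw [h] at hd
    apply z_ne
    refine one_of_odd hn hd ?_
    have e : z0 ^ 4 = (z0 * z0) * (z0 * z0) := by rw [show 4 = 2 + 2 by norm_num, pow_add, pow_two]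
    rw [e, z_sq, mul_one]

/-- an involution acting without fixed points inverts -/
theorem inverts {G : Type*} [Group G] {N : Subgroup G} [Finite N] {t : G} (ht : t * t = 1)
    (hN : ∀ n ∈ N, t * n * t⁻¹ ∈ N) (hc : ∀ n ∈ N, n * t = t * n → n = 1) : ∀ n ∈ N, t * n * t⁻¹ = n⁻¹ := by
  have hinj : Function.Injective (fun n : N => (⟨(n : G)⁻¹ * (t * n * t⁻¹), N.mul_mem (N.inv_mem n.2) (hN n n.2)⟩ : N)) := by
    intro a b hab
    have h1 : (a : G)⁻¹ * (t * a * t⁻¹) = (b : G)⁻¹ * (t * b * t⁻¹) := congrArg Subtype.val hab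
    have h2 : (b : G) * (a : G)⁻¹ = 1 := by
      apply hc _ (N.mul_mem b.2 (N.inv_mem a.2))
      have h3 : (b : G) * (a : G)⁻¹ * (t * a * t⁻¹) = t * b * t⁻¹ := by rw [mul_assoc, h1]; group
      calc (b : G) * (a : G)⁻¹ * t = ((b : G) * (a : G)⁻¹ * (t * a * t⁻¹)) * (t * (a : G)⁻¹) := by group
        _ = t * b * t⁻¹ * (t * (a : G)⁻¹) := by rw [h3]
        _ = t * ((b : G) * (a : G)⁻¹) := by group
    exact Subtype.ext (mul_inv_eq_one.1 h2).symm
  intro n hn
  obtain ⟨m, hm⟩ := Finite.surjective_of_injective hinj ⟨n, hn⟩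
  have h1 : (m : G)⁻¹ * (t * m * t⁻¹) = n := congrArg Subtype.val hm
  have ht' : t⁻¹ = t := inv_eq_of_mul_eq_one_right ht
  rw [← h1]
  calc t * ((m : G)⁻¹ * (t * m * t⁻¹)) * t⁻¹ = t * (m : G)⁻¹ * t * m * (t⁻¹ * t⁻¹) := by group
    _ = t * (m : G)⁻¹ * t * m := by rw [ht', ht, mul_one]
    _ = ((m : G)⁻¹ * (t * m * t⁻¹))⁻¹ := by
      rw [mul_inv_rev, mul_inv_rev, mul_inv_rev, inv_inv, inv_inv, ht']
      group

/-- **(6a)** a subgroup of odd order normalised by `T` is trivial -/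
theorem odd_trivial {N : Subgroup Suz} (hodd : Odd (Nat.card N)) (hT : ∀ t ∈ T, ∀ n ∈ N, t * n * t⁻¹ ∈ N) : N = ⊥ := by
  have hfin := Cfsg.Agent.SporadicRecognition.SuzOrder.finiteSuz
  have hpow : ∀ n ∈ N, n ^ Nat.card N = 1 := by
    intro n hn
    have := pow_card_eq_one' (G := N) (x := ⟨n, hn⟩)
    exact congrArg Subtype.val this
  have hcm : ∀ t ∈ T, ∀ n ∈ N, n * t * n⁻¹ * t⁻¹ ∈ N := by
    intro t ht n hn
    have h := N.mul_mem hn (hT t ht _ (N.inv_mem hn))
    have e : n * (t * n⁻¹ * t⁻¹) = n * t * n⁻¹ * t⁻¹ := by group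
    rwa [e] at h
  -- `C_N(z0) = 1`
  have hz : ∀ n ∈ N, n * z0 = z0 * n → n = 1 := by
    intro n hn hnz
    refine cent hodd (hpow n hn) hnz fun r hr => ?_
    have h1 := hcm r (Q0_le_T hr.1) n hn
    have h2 : n * r * n⁻¹ * r⁻¹ ∈ Q0 := Q0.mul_mem (normal_R (mem_C1.2 hnz) hr.1) (Q0.inv_mem hr.1)
    have h3 := one_of_odd hodd (hpow _ h1) (pow_four h2)
    have h4 := mul_inv_eq_one.1 h3
    exact mul_inv_eq_iff_eq_mul.1 h4
  -- `C_N(C 8) = 1`
  have hf : ∀ n ∈ N, n * C 8 = C 8 * n → n = 1 := by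
    intro n hn hnf
    have hu : u * z0 * u⁻¹ = C 8 := by
      rw [u_z, mul_inv_cancel_right, qp_eq]; congr 1
    have hd : u⁻¹ * n * u = 1 := by
      have hdz : u⁻¹ * n * u * z0 = z0 * (u⁻¹ * n * u) := by
        calc u⁻¹ * n * u * z0 = u⁻¹ * (n * (u * z0 * u⁻¹)) * u := by group
          _ = u⁻¹ * ((u * z0 * u⁻¹) * n) * u := by rw [hu, hnf]
          _ = z0 * (u⁻¹ * n * u) := by group
      refine cent hodd (n := Nat.card N) ?_ hdz fun r hr => ?_
      · have e : (u⁻¹ * n * u) ^ Nat.card N = u⁻¹ * n ^ Nat.card N * u := by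
          have := conj_pow (a := u⁻¹) (b := n) (i := Nat.card N)
          rwa [inv_inv] at this
        rw [e, hpow n hn]; group
      · have h1 := hcm _ hr.2 n hn
        have h2 : u⁻¹ * n * u * r * (u⁻¹ * n * u)⁻¹ * r⁻¹ ∈ Q0 :=
          Q0.mul_mem (normal_R (mem_C1.2 hdz) hr.1) (Q0.inv_mem hr.1)
        have h3 : u⁻¹ * n * u * r * (u⁻¹ * n * u)⁻¹ * r⁻¹ = 1 := by
          have e : n * (u * r * u⁻¹) * n⁻¹ * (u * r * u⁻¹)⁻¹ =
            u * (u⁻¹ * n * u * r * (u⁻¹ * n * u)⁻¹ * r⁻¹) * u⁻¹ := by group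
          have h5 : n * (u * r * u⁻¹) * n⁻¹ * (u * r * u⁻¹)⁻¹ = 1 := by
            refine one_of_odd hodd (hpow _ h1) ?_
            rw [e, conj_pow, pow_four h2]; group
          rw [e] at h5
          have h6 := mul_inv_eq_one.1 h5
          exact mul_eq_left.1 h6
        have h4 := mul_inv_eq_one.1 h3
        exact mul_inv_eq_iff_eq_mul.1 h4
    have : n = u * (u⁻¹ * n * u) * u⁻¹ := by group
    rw [this, hd]; group
  -- `C_N(C 72) = 1`
  have hfz : ∀ n ∈ N, n * C 72 = C 72 * n → n = 1 := by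
    intro n hn hnf
    have hs : s1 * C 8 * s1⁻¹ = C 72 := by
      rw [act_s1.conj 8]; congr 1
    have h1 : s1⁻¹ * n * s1 = 1 := by
      apply hf
      · have := hT _ (T.inv_mem Cfsg.Agent.Schreier.Suz.s1_mem) n hn
        rwa [inv_inv] at this
      · calc s1⁻¹ * n * s1 * C 8 = s1⁻¹ * (n * (s1 * C 8 * s1⁻¹)) * s1 := by group
          _ = s1⁻¹ * ((s1 * C 8 * s1⁻¹) * n) * s1 := by rw [hs, hnf]
          _ = C 8 * (s1⁻¹ * n * s1) := by group
    have : n = s1 * (s1⁻¹ * n * s1) * s1⁻¹ := by group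
    rw [this, h1]; group
  have h8 : C 8 * C 8 = 1 := by
    rw [C_mul', show mulc BB 6 8 8 = 0 by decide +kernel, C_zero']
  have h8T : C 8 ∈ T := Q0_le_T (C_mem 8)
  have hzT : z0 ∈ T := Q0_le_T z_mem
  have i1 := inverts z_sq (hT _ hzT) hz
  have i2 := inverts h8 (hT _ h8T) hf
  rw [eq_bot_iff_forall]
  intro n hn
  apply hfz n hn
  have e : C 72 = C 8 * z0 := by rw [← C_64, C_mul']; congr 1
  have h1 : C 72 * n * (C 72)⁻¹ = n := by
    calc C 72 * n * (C 72)⁻¹ = C 8 * (z0 * n * z0⁻¹) * (C 8)⁻¹ := by rw [e]; group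
      _ = C 8 * n⁻¹ * (C 8)⁻¹ := by rw [i1 n hn]
      _ = n⁻¹⁻¹ := i2 _ (N.inv_mem hn)
      _ = n := inv_inv n
  exact (mul_inv_eq_iff_eq_mul.1 h1).symm

end Cfsg.Agent.H895.Pron.SuzE
end

private theorem dce_bee1da20e7cd : _root_.True := by
  try have : _root_.True := by simp only [_root_.Cfsg.Agent.H895.Pron.SuzC.L.eq_def]
  try have : _root_.True := by simp only [_root_.Cfsg.Agent.KFacts.Codes.aux.eq_def]
  try have : _root_.True := by simp only [_root_.Cfsg.Agent.KFacts.Codes.aux.eq_1]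
  try have : _root_.True := by simp only [_root_.Cfsg.Agent.H895.Pron.SuzD.gwa.eq_def]
  try have : _root_.True := by simp only [_root_.Cfsg.Agent.H895.Pron.SuzC.enum.eq_1]
  try have : _root_.True := by simp only [_root_.Cfsg.Agent.H895.Pron.SuzD.twa.eq_2]
  try have : _root_.True := by simp only [_root_.Cfsg.Agent.H895.Pron.SuzD.gw.eq_1]
  try have : _root_.True := by simp only [_root_.Cfsg.Agent.H895.Pron.SuzD.gw.eq_def]
  try have : _root_.True := by simp only [_root_.Cfsg.Agent.H895.Pron.SuzD.tw.eq_1]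
  try have : _root_.True := by simp only [_root_.Cfsg.Agent.H895.Pron.SuzD.gwa.eq_2]
  try have : _root_.True := by simp only [_root_.Cfsg.Agent.H895.Pron.SuzD.gwa.eq_1]
  try have : _root_.True := by simp only [_root_.Cfsg.Agent.KFacts.Codes.aux.eq_2]
  try have : _root_.True := by simp only [_root_.Cfsg.Agent.H895.Pron.SuzC.L.eq_2]
  try have : _root_.True := by simp only [_root_.Cfsg.Agent.H895.Pron.SuzC.L.eq_1]
  try have : _root_.True := by simp only [_root_.Cfsg.Agent.H895.Pron.SuzC.enum.eq_2]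
  try have : _root_.True := by simp only [_root_.Cfsg.Agent.H895.Pron.SuzD.twa.eq_1]
  try have : _root_.True := by simp only [_root_.Cfsg.Agent.H895.Pron.SuzC.chk.eq_1]
  try have : _root_.True := by simp only [_root_.Cfsg.Agent.H895.Pron.SuzD.tw.eq_def]
  try have : _root_.True := by simp only [_root_.Cfsg.Agent.H895.Pron.SuzD.tw.eq_2]
  try have : _root_.True := by simp only [_root_.Cfsg.Agent.H895.Pron.SuzD.Ln.eq_1]
  try have : _root_.True := by simp only [_root_.Cfsg.Agent.H895.Pron.SuzD.gw.eq_2]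
  try have : _root_.True := by simp only [_root_.Cfsg.Agent.H895.Pron.SuzC.enum.eq_def]
  try have : _root_.True := by simp only [_root_.Cfsg.Agent.H895.Pron.SuzD.twa.eq_def]
  exact _root_.True.intro
end
end
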